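import Mathlib
import Cfsg.Prelude.Def_Transfer
import Cfsg.Agent.Lib.Local
import Cfsg.Agent.Lib.Products

/-!
Elementary lemmas for `J(T)`-components: odd closures, subnormality, and small modules in characteristic 2.
-/

set_option autoImplicit false
set_option linter.unusedSectionVars false

open scoped IsMulCommutative

namespace CfsgLib.JComp

open Cfsg

section Odd

variable {X : Type*} [Group X] [Finite X]

theorem pow_eq_one_of_two {x : X} (hodd : Odd (orderOf x)) {n : ℕ} (h : x ^ 2 ^ n = 1) : x = 1 := by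
  obtain ⟨j, -, hj⟩ := (Nat.dvd_prime_pow Nat.prime_two).mp (orderOf_dvd_of_pow_eq_one h)
  rcases j with _ | j
  · exact orderOf_eq_one_iff.mp hj
  · rw [hj] at hodd
    exact absurd hodd (Nat.not_odd_iff_even.mpr ⟨2 ^ j, by rw [pow_succ]; ring⟩)

theorem mem_of_pow_mem {S : Subgroup X} {x : X} (hodd : Odd (orderOf x)) {n : ℕ} (h : x ^ 2 ^ n ∈ S) : x ∈ S := by
  obtain ⟨m, hm⟩ := exists_pow_eq_self_of_coprime (x := x) (n := 2 ^ n)
    (Nat.Coprime.pow_left n (Nat.coprime_two_left.mpr hodd))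
  rw [← hm]; exact S.pow_mem h m

/-- Odd order elements of `K R` lie in `K` when `R` is a 2-group normalising `K`. -/
theorem odd_mem_of_sup {K R : Subgroup X} (hR : IsPGroup 2 ↥R) (hRK : R ≤ Subgroup.normalizer (K : Set X))
    {x : X} (hx : x ∈ K ⊔ R) (hodd : Odd (orderOf x)) : x ∈ K := by
  haveI hn : (K.subgroupOf (K ⊔ R)).Normal :=
    (Subgroup.normal_subgroupOf_iff_le_normalizer le_sup_left).mpr (sup_le Subgroup.le_normalizer hRK)
  rw [← SetLike.mem_coe, Subgroup.coe_mul_of_right_le_normalizer_left K R hRK] at hx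
  obtain ⟨k, hk, r, hr, e⟩ := hx
  obtain ⟨n, hn'⟩ := hR ⟨r, hr⟩
  have hr1 : r ^ 2 ^ n = 1 := congrArg Subtype.val hn'
  refine mem_of_pow_mem hodd (n := n) ?_
  set q := QuotientGroup.mk' (K.subgroupOf (K ⊔ R))
  set y : ↥(K ⊔ R) := ⟨x, e ▸ Subgroup.mul_mem_sup hk hr⟩ with hy
  have hyr : q y = q ⟨r, Subgroup.mem_sup_right hr⟩ := by
    have hy' : y = (⟨k, Subgroup.mem_sup_left hk⟩ : ↥(K ⊔ R)) * ⟨r, Subgroup.mem_sup_right hr⟩ := Subtype.ext e.symm
    rw [hy', map_mul, show q (⟨k, Subgroup.mem_sup_left hk⟩ : ↥(K ⊔ R)) = 1 from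
      (QuotientGroup.eq_one_iff _).mpr hk, one_mul]
  have h1 : q (y ^ 2 ^ n) = 1 := by
    rw [map_pow, hyr, ← map_pow, show (⟨r, Subgroup.mem_sup_right hr⟩ : ↥(K ⊔ R)) ^ 2 ^ n = 1 from Subtype.ext hr1, map_one]
  exact Subgroup.mem_subgroupOf.mp ((QuotientGroup.eq_one_iff _).mp h1)

/-- The subgroup generated by the odd order elements. -/
def oddGen (H : Subgroup X) : Subgroup X := Subgroup.closure {g : X | g ∈ H ∧ Odd (orderOf g)}

theorem oddGen_le (H : Subgroup X) : oddGen H ≤ H := (Subgroup.closure_le _).mpr fun _ hx => hx.1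

theorem mem_normalizer_of_conj_mem {H : Subgroup X} {g : X} (h : ∀ x ∈ H, g * x * g⁻¹ ∈ H) :
    g ∈ Subgroup.normalizer (H : Set X) :=
  Local.mem_normalizer_of_map_conj_eq (Subgroup.eq_of_le_of_card_ge (Local.map_conj_le h)
    (Subgroup.card_map_of_injective (f := (MulAut.conj g).toMonoidHom) (MulEquiv.injective _)).ge)

theorem orderOf_conj_eq (g x : X) : orderOf (g * x * g⁻¹) = orderOf x := by
  rw [← MulAut.conj_apply, MulEquiv.orderOf_eq]

/-- A subnormal subgroup generated by odd order elements is normalised by every normal 2-subgroup. -/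
theorem le_normalizer_of_subnormal {H : Subgroup X} (hH : H.IsSubnormal) {R : Subgroup X} [hRn : R.Normal]
    (hR : IsPGroup 2 ↥R) (hgen : oddGen H = H) : R ≤ Subgroup.normalizer (H : Set X) := by
  have key : ∀ H : Subgroup X, H.IsSubnormal → ∀ x ∈ H ⊔ R, Odd (orderOf x) → x ∈ H := by
    intro H hH
    induction hH with
    | top => intro x _ _; exact Subgroup.mem_top x
    | step H K hle _ hN ih =>
      intro x hx hodd
      have hKH : K ≤ Subgroup.normalizer (H : Set X) := (Subgroup.normal_subgroupOf_iff_le_normalizer hle).mp hN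
      have hxK : x ∈ K := ih x (sup_le_sup_right hle R hx) hodd
      rw [← SetLike.mem_coe, Subgroup.coe_mul_of_left_le_normalizer_right H R
        (Subgroup.normalizer_eq_top R ▸ le_top)] at hx
      obtain ⟨h, hh, r, hr, e⟩ := hx
      have hrK : r ∈ R ⊓ K := by
        refine ⟨hr, ?_⟩
        have := K.mul_mem (K.inv_mem (hle hh)) hxK
        rwa [← e, inv_mul_cancel_left] at this
      exact odd_mem_of_sup (hR.to_le inf_le_left) (inf_le_right.trans hKH) (e ▸ Subgroup.mul_mem_sup hh hrK) hodd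
  intro r hr
  refine mem_normalizer_of_conj_mem fun x hx => ?_
  rw [← hgen] at hx ⊢
  have : oddGen H ≤ (oddGen H).comap (MulAut.conj r).toMonoidHom := by
    refine (Subgroup.closure_le _).mpr fun y hy => ?_
    show r * y * r⁻¹ ∈ oddGen H
    have hodd : Odd (orderOf (r * y * r⁻¹)) := by rw [orderOf_conj_eq]; exact hy.2
    exact Subgroup.subset_closure ⟨key H hH _ (mul_mem (mul_mem (Subgroup.mem_sup_right hr) (Subgroup.mem_sup_left hy.1))
      (inv_mem (Subgroup.mem_sup_right hr))) hodd, hodd⟩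
  exact this hx

theorem oddGen_eq_of_sup {K R : Subgroup X} (hgen : oddGen K = K) (hR : IsPGroup 2 ↥R)
    (hRK : R ≤ Subgroup.normalizer (K : Set X)) : oddGen (K ⊔ R) = K := by
  refine le_antisymm ((Subgroup.closure_le _).mpr fun x hx => odd_mem_of_sup hR hRK hx.1 hx.2) ?_
  refine hgen.ge.trans (Subgroup.closure_mono fun x hx => ?_)
  exact ⟨Subgroup.mem_sup_left hx.1, hx.2⟩

end Odd

section Fixed

variable {G : Type*} [Group G] [Finite G]

open scoped commutatorElement in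
/-- An elementary abelian 2-group of automorphisms of `R` with a fixed subgroup of order two is small. -/
theorem two_mul_card_le {R B : Subgroup G} (hR : IsElementaryAbelian 2 R) (hB : IsElementaryAbelian 2 B)
    (hBR : B ≤ Subgroup.normalizer (R : Set G))
    (hfix : Nat.card ↥(R ⊓ Subgroup.centralizer (B : Set G)) = 2) :
    2 * Nat.card B ≤ Nat.card R * Nat.card ↥(B ⊓ Subgroup.centralizer (R : Set G)) := by
  classical
  haveI := hR.1
  haveI := hB.1
  haveI : Nontrivial ↥(R ⊓ Subgroup.centralizer (B : Set G)) := Finite.one_lt_card_iff_nontrivial.mp (by omega)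
  obtain ⟨⟨w, hw⟩, hw1⟩ := exists_ne (1 : ↥(R ⊓ Subgroup.centralizer (B : Set G)))
  have hw1' : (⟨w, hw.1⟩ : ↥R) ≠ 1 := fun e => hw1 (Subtype.ext (show w = 1 from congrArg Subtype.val e))
  obtain ⟨l, hl⟩ := CommGroup.exists_apply_ne_one_of_hasEnoughRootsOfUnity (↥R) ℂ hw1'
  let act : ↥B → (↥R →* ↥R) := fun b =>
    ((MulAut.conj (b : G)).toMonoidHom.comp R.subtype).codRestrict R fun r =>
      (Subgroup.mem_normalizer_iff.mp (hBR b.2) r).mp r.2
  have hact : ∀ (b : ↥B) (r : ↥R), ((act b r : ↥R) : G) = b * r * (b : G)⁻¹ := fun b r => rfl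
  let Φ : ↥B → (↥R →* ℂˣ) := fun b => l.comp (act b)
  have hΦw : ∀ b, Φ b ⟨w, hw.1⟩ = l ⟨w, hw.1⟩ := fun b => by
    show l (act b ⟨w, hw.1⟩) = _
    congr 1
    refine Subtype.ext ?_
    rw [hact]
    show (b : G) * w * (b : G)⁻¹ = w
    rw [hw.2 b b.2, mul_inv_cancel_right]
  have hfib : ∀ b c : ↥B, Φ b = Φ c → ((b⁻¹ * c : ↥B) : G) ∈ Subgroup.centralizer (R : Set G) := by
    intro b c h
    set d : ↥B := b⁻¹ * c with hd
    have hd' : ∀ r : ↥R, l (act d r) = l r := fun r => by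
      obtain ⟨r', rfl⟩ : ∃ r', act b r' = r := ⟨act b⁻¹ r, Subtype.ext (by
        rw [hact, hact, Subgroup.coe_inv]; group)⟩
      have e : act d (act b r') = act c r' := Subtype.ext (by
        rw [hact, hact, hact, hd]
        have hcb : ((b⁻¹ * c : ↥B) : G) * b = c := by
          rw [← Subgroup.coe_mul, mul_comm (b⁻¹ * c) b, mul_inv_cancel_left]
        generalize ((b⁻¹ * c : ↥B) : G) = e' at hcb ⊢
        rw [← hcb]; group)
      rw [e]
      exact (DFunLike.congr_fun h r').symm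
    let D : ↥R →* ↥R := MonoidHom.mk' (fun r => act d r * r⁻¹) fun r s => by
      rw [map_mul, mul_inv_rev, mul_comm s⁻¹ r⁻¹, mul_mul_mul_comm]
    by_contra hne
    set Dg : Subgroup G := D.range.map R.subtype with hDg
    have hDne : Dg ≠ ⊥ := by
      intro e
      refine hne fun r hr => ?_
      have h1 : ((D ⟨r, hr⟩ : ↥R) : G) = 1 := Subgroup.mem_bot.mp (e ▸ ⟨_, ⟨⟨r, hr⟩, rfl⟩, rfl⟩)
      change (d : G) * r * (d : G)⁻¹ * r⁻¹ = 1 at h1
      exact (mul_inv_eq_iff_eq_mul.mp (mul_inv_eq_one.mp h1)).symm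
    have hinv : ∀ b' : ↥B, ∀ y ∈ Dg, (b' : G) * y * (b' : G)⁻¹ ∈ Dg := by
      rintro b' _ ⟨_, ⟨r, rfl⟩, rfl⟩
      refine ⟨_, ⟨act b' r, rfl⟩, ?_⟩
      show (d : G) * ((b' : G) * r * (b' : G)⁻¹) * (d : G)⁻¹ * ((b' : G) * r * (b' : G)⁻¹)⁻¹ =
        (b' : G) * ((d : G) * r * (d : G)⁻¹ * (r : G)⁻¹) * (b' : G)⁻¹
      have hc : (d : G) * b' = b' * d := congrArg Subtype.val (mul_comm d b')
      calc _ = ((d : G) * b') * r * ((d : G) * b')⁻¹ * ((b' : G) * (r : G)⁻¹ * (b' : G)⁻¹) := by group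
        _ = _ := by rw [hc]; group
    -- a fixed point of `B` in the image
    have hDR : Dg ≤ R := Subgroup.map_subtype_le _
    let _ : MulAction ↥B ↥Dg :=
      { smul := fun b' y => ⟨(b' : G) * y * (b' : G)⁻¹, hinv b' y y.2⟩
        one_smul := fun y => Subtype.ext (show (1 : G) * y * (1 : G)⁻¹ = y by group)
        mul_smul := fun b' c' y => Subtype.ext (show ((b' : G) * c') * y * ((b' : G) * c')⁻¹ = _ by
          show _ = (b' : G) * ((c' : G) * y * (c' : G)⁻¹) * (b' : G)⁻¹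
          group) }
    have hBp : IsPGroup 2 ↥B := fun b' => ⟨1, Subtype.ext (by simpa using hB.2 b' b'.2)⟩
    have h2 : 2 ∣ Nat.card ↥Dg := by
      have hp : IsPGroup 2 ↥Dg :=
        (show IsPGroup 2 ↥R from fun r => ⟨1, Subtype.ext (by simpa using hR.2 r r.2)⟩).to_le hDR
      obtain ⟨n, hn⟩ := IsPGroup.iff_card.mp hp
      rcases n with _ | n
      · exact absurd (Subgroup.eq_bot_of_card_eq Dg (by simpa using hn)) hDne
      · rw [hn]; exact dvd_pow_self 2 n.succ_ne_zero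
    obtain ⟨y, hyfix, hy1⟩ := hBp.exists_fixed_point_of_prime_dvd_card_of_fixed_point ↥Dg h2
      (a := 1) (fun b' => Subtype.ext (show (b' : G) * 1 * (b' : G)⁻¹ = 1 by group))
    have hyC : (y : G) ∈ R ⊓ Subgroup.centralizer (B : Set G) := by
      refine ⟨hDR y.2, fun b' hb' => ?_⟩
      have h3 : b' * (y : G) * b'⁻¹ = y := congrArg Subtype.val (hyfix ⟨b', hb'⟩)
      exact mul_inv_eq_iff_eq_mul.mp h3
    have hyw : (y : G) = w := by
      by_contra hyne
      have h3 : Nat.card ({1, ⟨w, hw⟩, ⟨y, hyC⟩} : Finset ↥(R ⊓ Subgroup.centralizer (B : Set G))) ≤ 2 := by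
        rw [← hfix]; exact Nat.card_le_card_of_injective _ Subtype.val_injective
      rw [Nat.card_eq_fintype_card, Fintype.card_coe, Finset.card_insert_of_notMem, Finset.card_pair] at h3
      · omega
      · exact fun e => hyne (congrArg Subtype.val e).symm
      · simp only [Finset.mem_insert, Finset.mem_singleton, not_or]
        exact ⟨fun e => hw1 e.symm, fun e => hy1 (Subtype.ext (show (1 : G) = y from congrArg Subtype.val e))⟩
    obtain ⟨_, ⟨r, rfl⟩, hr⟩ := y.2
    have e : D r = (⟨w, hw.1⟩ : ↥R) := Subtype.ext (hr.trans hyw)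
    refine hl ?_
    rw [← e]
    show l (act d r * r⁻¹) = 1
    rw [map_mul, map_inv, hd' r, mul_inv_cancel]
  -- counting
  set N := (B ⊓ Subgroup.centralizer (R : Set G)).subgroupOf B with hN
  let Ψ : (↥B ⧸ N) × Bool → (↥R →* ℂˣ) := fun z => if z.2 then Φ z.1.out * l⁻¹ else Φ z.1.out
  have hΨw : ∀ z, Ψ z ⟨w, hw.1⟩ = if z.2 then 1 else l ⟨w, hw.1⟩ := by
    rintro ⟨q, _ | _⟩
    · exact hΦw _
    · show (Φ q.out * l⁻¹) ⟨w, hw.1⟩ = 1
      rw [MonoidHom.mul_apply, hΦw, MonoidHom.inv_apply, mul_inv_cancel]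
  have hinj : Function.Injective Ψ := by
    rintro ⟨q, s⟩ ⟨q', s'⟩ h
    have hs : s = s' := by
      have h' := DFunLike.congr_fun h (⟨w, hw.1⟩ : ↥R)
      rw [hΨw, hΨw] at h'
      cases s <;> cases s' <;> simp_all
    subst hs
    have hΦe : Φ q.out = Φ q'.out := by cases s <;> simpa [Ψ] using h
    refine Prod.ext ?_ rfl
    show q = q'
    rw [← QuotientGroup.out_eq' q, ← QuotientGroup.out_eq' q', QuotientGroup.eq]
    exact Subgroup.mem_subgroupOf.mpr ⟨(q.out⁻¹ * q'.out).2, hfib _ _ hΦe⟩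
  haveI : Finite (↥R →* ℂˣ) := Nat.finite_of_card_ne_zero (by
    rw [CommGroup.card_monoidHom_of_hasEnoughRootsOfUnity]; exact Nat.card_pos.ne')
  have hc := Nat.card_le_card_of_injective Ψ hinj
  rw [CommGroup.card_monoidHom_of_hasEnoughRootsOfUnity, Nat.card_prod, Nat.card_eq_fintype_card (α := Bool),
    Fintype.card_bool] at hc
  have hidx := Subgroup.card_mul_index N
  rw [Nat.card_congr (Subgroup.subgroupOfEquivOfLe (inf_le_left : B ⊓ Subgroup.centralizer (R : Set G) ≤ B)).toEquiv,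
    Subgroup.index_eq_card] at hidx
  calc 2 * Nat.card ↥B = (Nat.card (↥B ⧸ N) * 2) * Nat.card ↥(B ⊓ Subgroup.centralizer (R : Set G)) := by rw [← hidx]; ring
    _ ≤ _ := Nat.mul_le_mul_right _ hc

end Fixed

end CfsgLib.JComp
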