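import Mathlib
import Cfsg.Agent.Lib.PLocal.Offender.Application
import Cfsg.Agent.Lib.PLocal.Offender.Structure

/-!
The odd part of the Thompson subgroup acting on a 2-reduced module.
-/

set_option autoImplicit false
set_option linter.unusedSectionVars false

universe u

namespace CfsgLib.JComp

open Cfsg CfsgLib.Offender
open scoped commutatorElement

variable {M : Type u} [Group M] [Finite M]

/-- A transvection on `V`. -/
def IsTv (V : Subgroup M) (y : M) : Prop :=
  2 * Nat.card ↥(V ⊓ Subgroup.centralizer ({y} : Set M)) = Nat.card V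

/-- An element acting as a basic element of order three of `J(M)` on `V`. -/
structure IsCore (V : Subgroup M) (x : M) : Prop where
  memJ : x ∈ thompsonSubgroup 2 M
  cube : x ^ 3 ∈ Subgroup.centralizer (V : Set M)
  ne : x ∉ Subgroup.centralizer (V : Set M)
  normal : ∀ j ∈ thompsonSubgroup 2 M, j * x * j⁻¹ ∈ Subgroup.zpowers x ⊔ Subgroup.centralizer (V : Set M)
  inverted : ∃ A ∈ maxElementaryAbelianSubgroups 2 M, ∃ a ∈ A, IsTv V a ∧
    a * x * a⁻¹ * x ∈ Subgroup.centralizer (V : Set M)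

variable {V : Subgroup M} [V.Normal]

theorem isTv_of_tv {y : M} {H : Subgroup (Split V)} (h : Tv 2 (splitV V) H (toSplit V y)) : IsTv V y := by
  have hi := h.index
  rw [← centralizer_zpowers, ← MonoidHom.map_zpowers, card_fixed_map, card_splitV, centralizer_zpowers] at hi
  exact hi

variable (hV : IsElementaryAbelian 2 V) (hsep : IsPSolvable 2 M)
  (hO : pCore 2 (M ⧸ Subgroup.centralizer (V : Set M)) = ⊥)
include hV hsep hO

/-- Every largest elementary abelian subgroup is generated modulo `C(V)` by transvections. -/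
theorem max_le_of_tv {A Z : Subgroup M} (hA : A ∈ maxElementaryAbelianSubgroups 2 M)
    (hC : A ⊓ Subgroup.centralizer (V : Set M) ≤ Z) (hZ : ∀ y ∈ A, IsTv V y → y ∈ Z) : A ≤ Z := by
  haveI := thompsonSubgroup_normal' (G := M) (p := 2)
  have S := setup_split hV hsep hO (thompsonSubgroup 2 M)
  have hle : A.map (toSplit V) ≤ (thompsonSubgroup 2 M).map (toSplit V) := Subgroup.map_mono (le_sSup hA)
  obtain ⟨n, hn⟩ := Offender.card_eq_pow (Offender.map_elem (V := V) hA.1)
  obtain ⟨B, hB, hBs⟩ := exists_decomp S n _ hle (map_best hA hV) hn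
  intro y hy
  have key : toSplit V y ∈ (A ⊓ Z).map (toSplit V) := by
    suffices h : A.map (toSplit V) ≤ (A ⊓ Z).map (toSplit V) from h ⟨y, hy, rfl⟩
    rw [← hBs]
    refine iSup_le fun i => ?_
    obtain ⟨t, ht, htv⟩ := small_iff_tv (hB i).2
    obtain ⟨z, hz, rfl⟩ := (hB i).1 (ht ▸ Subgroup.mem_zpowers t)
    rw [ht, Subgroup.zpowers_le]
    exact ⟨z, ⟨hz, hZ z hz (isTv_of_tv htv)⟩, rfl⟩
  obtain ⟨z, hz, hzy⟩ := key
  have h1 : z⁻¹ * y ∈ A ⊓ Subgroup.centralizer (V : Set M) := by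
    refine ⟨A.mul_mem (A.inv_mem hz.1) hy, ?_⟩
    show z⁻¹ * y ∈ Subgroup.centralizer (V : Set M)
    rw [← toSplit_ker, MonoidHom.mem_ker, map_mul, map_inv, hzy, inv_mul_cancel]
  have := Z.mul_mem hz.2 (hC h1)
  rwa [mul_inv_cancel_left] at this

/-- The odd part of `J(M)` modulo `C(V)` is generated by basic elements. -/
theorem odd_mem_of_cores {Z : Subgroup M} (hCZ : Subgroup.centralizer (V : Set M) ≤ Z)
    (hZ : ∀ x, IsCore V x → x ∈ Z) {k : M} (hk : k ∈ thompsonSubgroup 2 M) (hodd : Odd (orderOf k)) : k ∈ Z := by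
  classical
  haveI := thompsonSubgroup_normal' (G := M) (p := 2)
  set J := thompsonSubgroup 2 M with hJ
  set H := J.map (toSplit V) with hH
  have S := setup_split hV hsep hO J
  set K := (pPrimeCore 2 ↥H).map H.subtype with hK
  have hS3 : H = ⨆ A : {A : Subgroup (Split V) // A ≤ H ∧ Cfsg.IsBestOffenderOn 2 (splitV V) A}, (A : Subgroup (Split V)) := by
    refine le_antisymm ?_ (iSup_le fun A => A.2.1)
    rw [hH, hJ, Subgroup.map_le_iff_le_comap]
    refine sSup_le fun A hA => ?_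
    rw [← Subgroup.map_le_iff_le_comap]
    exact le_iSup_of_le ⟨A.map (toSplit V), Subgroup.map_mono (le_sSup hA), map_best hA hV⟩ le_rfl
  -- transvections coming from largest elementary abelian subgroups
  set gens : Set (Split V) := {t | Tv 2 (splitV V) H t ∧ ∃ A ∈ maxElementaryAbelianSubgroups 2 M, ∃ y ∈ A, toSplit V y = t} with hgens
  have hgen : H ≤ Subgroup.closure gens := by
    rw [hH, hJ, Subgroup.map_le_iff_le_comap]
    refine sSup_le fun A hA => ?_
    rw [← Subgroup.map_le_iff_le_comap]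
    have hle : A.map (toSplit V) ≤ H := Subgroup.map_mono (le_sSup hA)
    obtain ⟨n, hn⟩ := Offender.card_eq_pow (Offender.map_elem (V := V) hA.1)
    obtain ⟨B, hB, hBs⟩ := exists_decomp S n _ hle (map_best hA hV) hn
    rw [← hBs]
    refine iSup_le fun i => ?_
    obtain ⟨t, ht, htv⟩ := small_iff_tv (hB i).2
    obtain ⟨y, hy, hyt⟩ := (hB i).1 (ht ▸ Subgroup.mem_zpowers t)
    rw [ht, Subgroup.zpowers_le]
    exact Subgroup.subset_closure ⟨htv, A, hA, y, hy, hyt⟩
  set Zi := (Z ⊓ (J ⊔ Subgroup.centralizer (V : Set M))).map (toSplit V) with hZi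
  have hker : ∀ z, toSplit V z = 1 → z ∈ Subgroup.centralizer (V : Set M) := fun z hz => by
    rw [← toSplit_ker]; exact hz
  -- each basic subgroup lies in the image of `Z`
  have hT : ∀ t b, t ∈ gens → Core 2 (splitV V) H K t b → Pair.T K t b ≤ Zi := by
    rintro t b ⟨htv, A, hA, a, ha, rfl⟩ c
    set τ := b * (toSplit V a)⁻¹ with hτ
    have hτT : τ ∈ Pair.T K (toSplit V a) b := c.pair.quot_mem_T
    have ha2 : toSplit V a * toSplit V a = 1 := by
      rw [← pow_two, ← htv.ord]; exact pow_orderOf_eq_one _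
    have hb2 : b * b = 1 := by rw [← pow_two, ← c.pair.tb.ord]; exact pow_orderOf_eq_one _
    have hτ1 : τ ≠ 1 := fun e => c.pair.ne (mul_inv_eq_one.mp e)
    have hτ3 : τ ^ 3 = 1 := c.pair.T_two S rfl τ hτT
    have hinvτ : toSplit V a * τ * (toSplit V a)⁻¹ * τ = 1 := by
      rw [hτ]
      calc toSplit V a * (b * (toSplit V a)⁻¹) * (toSplit V a)⁻¹ * (b * (toSplit V a)⁻¹)
          = toSplit V a * b * (toSplit V a * toSplit V a)⁻¹ * b * (toSplit V a)⁻¹ := by group
        _ = toSplit V a * (b * b) * (toSplit V a)⁻¹ := by rw [ha2]; group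
        _ = 1 := by rw [hb2]; group
    have hTle : Pair.T K (toSplit V a) b ≤ Subgroup.zpowers τ := by
      have h6 : Nat.card (Pair.E (toSplit V a) b) = 6 := by
        rcases c.pair.card_E S with ⟨-, h⟩ | ⟨h, -⟩
        · exact h
        · exact absurd h (by decide)
      have hd : Nat.card (Pair.T K (toSplit V a) b) ∣ 6 := h6 ▸ Subgroup.card_dvd_of_le inf_le_right
      have h3 : IsPGroup 3 ↥(Pair.T K (toSplit V a) b) := fun u =>
        ⟨1, Subtype.ext (by simpa using c.pair.T_two S rfl u u.2)⟩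
      haveI : Fact (Nat.Prime 3) := ⟨Nat.prime_three⟩
      obtain ⟨n, hn⟩ := IsPGroup.iff_card.mp h3
      have hle3 : Nat.card (Pair.T K (toSplit V a) b) ≤ 3 := by
        rw [hn] at hd ⊢
        have h36 : 3 ^ n ≤ 6 := Nat.le_of_dvd (by norm_num) hd
        rcases n with _ | _ | n
        · norm_num
        · norm_num
        · exfalso
          have : 3 ^ 2 ≤ 3 ^ (n + 2) := Nat.pow_le_pow_right (by norm_num) (by omega)
          omega
      refine (Subgroup.eq_of_le_of_card_ge (Subgroup.zpowers_le.mpr hτT) ?_).ge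
      rw [Nat.card_zpowers, orderOf_eq_prime hτ3 hτ1]
      exact hle3
    obtain ⟨x, hx, hxτ⟩ : τ ∈ H := c.pair.E_le hτT.2
    have hcore : IsCore V x := by
      refine ⟨hx, hker _ (by rw [map_pow, hxτ, hτ3]), fun hxC => hτ1 ?_, fun j hj => ?_, A, hA, a, ha, isTv_of_tv htv,
        hker _ (by rw [map_mul, map_mul, map_mul, map_inv, hxτ, hinvτ])⟩
      · rw [← hxτ]; rw [← toSplit_ker] at hxC; exact hxC
      · have hjH : toSplit V j ∈ H := ⟨j, hj, rfl⟩
        have h1 : toSplit V j * τ * (toSplit V j)⁻¹ ∈ Pair.T K (toSplit V a) b :=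
          ⟨(Subgroup.mem_normalizer_iff.mp (S.normK hjH) τ).mp hτT.1,
            (Subgroup.mem_normalizer_iff.mp (c.H_normalizes S hS3 hjH) τ).mp hτT.2⟩
        obtain ⟨i, hi⟩ := Subgroup.mem_zpowers_iff.mp (hTle h1)
        have h2 : (x ^ i)⁻¹ * (j * x * j⁻¹) ∈ Subgroup.centralizer (V : Set M) := hker _ (by
          rw [map_mul, map_inv, map_zpow, map_mul, map_mul, map_inv, hxτ, hi, inv_mul_cancel])
        have := Subgroup.mul_mem_sup (Subgroup.zpow_mem _ (Subgroup.mem_zpowers x) i) h2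
        rwa [mul_inv_cancel_left] at this
    refine hTle.trans (Subgroup.zpowers_le.mpr ?_)
    exact ⟨x, ⟨hZ x hcore, Subgroup.mem_sup_left hx⟩, hxτ⟩
  -- commutation modulo the basic subgroups
  set R : Subgroup (Split V) := ⨆ z : {z : Split V × Split V // z.1 ∈ gens ∧ Core 2 (splitV V) H K z.1 z.2}, Pair.T K z.1.1 z.1.2 with hR
  have hRZ : R ≤ Zi := iSup_le fun z => hT _ _ z.2.1 z.2.2
  have hRH : R ≤ H := iSup_le fun z => inf_le_right.trans z.2.2.pair.E_le
  have hRn : H ≤ Subgroup.normalizer (R : Set (Split V)) := by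
    refine le_normalizer_of_conj fun h hh r hr => ?_
    suffices hc : R ≤ R.comap (MulAut.conj h).toMonoidHom from hc hr
    refine iSup_le fun z => fun u hu => ?_
    exact le_iSup (fun z : {z : Split V × Split V // z.1 ∈ gens ∧ Core 2 (splitV V) H K z.1 z.2} => Pair.T K z.1.1 z.1.2) z
      ⟨(Subgroup.mem_normalizer_iff.mp (S.normK hh) u).mp hu.1,
        (Subgroup.mem_normalizer_iff.mp (z.2.2.H_normalizes S hS3 hh) u).mp hu.2⟩
  haveI hRHn : (R.subgroupOf H).Normal := (Subgroup.normal_subgroupOf_iff_le_normalizer hRH).mpr hRn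
  set q := QuotientGroup.mk' (R.subgroupOf H)
  have hq : ∀ w : ↥H, q w = 1 ↔ (w : Split V) ∈ R := fun w => (QuotientGroup.eq_one_iff w).trans Subgroup.mem_subgroupOf
  have hmem : ∀ t ∈ gens, t ∈ H := fun t ht => ht.1.mem
  have hcomm : ∀ s t (hs : s ∈ gens) (ht : t ∈ gens), Commute (q ⟨s, hmem s hs⟩) (q ⟨t, hmem t ht⟩) := by
    intro s t hs ht
    obtain ⟨b, c⟩ := exists_core S hs.1
    rcases c.tv_cases S ht.1 with h | ⟨h, -⟩
    · obtain ⟨u, hu, i, hi⟩ := c.pair.decomp_E S h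
      have huR : u ∈ R := le_iSup (fun z : {z : Split V × Split V // z.1 ∈ gens ∧ Core 2 (splitV V) H K z.1 z.2} => Pair.T K z.1.1 z.1.2)
        ⟨(s, b), hs, c⟩ hu
      have e : q ⟨t, hmem t ht⟩ = q ⟨s, hmem s hs⟩ ^ i := by
        have e1 : (⟨t, hmem t ht⟩ : ↥H) = ⟨u, hRH huR⟩ * ⟨s, hmem s hs⟩ ^ i := Subtype.ext (by simpa using hi)
        rw [e1, map_mul, map_pow, (hq ⟨u, hRH huR⟩).mpr huR, one_mul]
      rw [e]; exact Commute.self_pow _ i
    · exact (show Commute (⟨s, hmem s hs⟩ : ↥H) ⟨t, hmem t ht⟩ from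
        Subtype.ext (h s (Subgroup.subset_closure (Set.mem_insert s _))).eq).map q
  -- squares are trivial
  set Q2 := Subgroup.closure {z : ↥H ⧸ R.subgroupOf H | ∃ t, ∃ ht : t ∈ gens, z = q ⟨t, hmem t ht⟩} with hQ2
  have hQ2c : ∀ z ∈ Q2, ∀ w ∈ Q2, Commute z w := by
    intro z hz w hw
    induction hz, hw using Subgroup.closure_induction₂ with
    | mem x y hx hy => obtain ⟨s, hs, rfl⟩ := hx; obtain ⟨t, ht, rfl⟩ := hy; exact hcomm s t hs ht
    | one_left => exact Commute.one_left _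
    | one_right => exact Commute.one_right _
    | mul_left x y z _ _ _ h1 h2 => exact h1.mul_left h2
    | mul_right x y z _ _ _ h1 h2 => exact h1.mul_right h2
    | inv_left x y _ _ h1 => exact h1.inv_left
    | inv_right x y _ _ h1 => exact h1.inv_right
  have hQ2s : ∀ z ∈ Q2, z ^ 2 = 1 := by
    intro z hz
    induction hz using Subgroup.closure_induction with
    | mem x hx =>
      obtain ⟨t, ht, rfl⟩ := hx
      rw [← map_pow, show (⟨t, hmem t ht⟩ : ↥H) ^ 2 = 1 from Subtype.ext (by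
        show t ^ 2 = 1; rw [← ht.1.ord]; exact pow_orderOf_eq_one t), map_one]
    | one => exact one_pow 2
    | mul x y hx hy h1 h2 => rw [(hQ2c x hx y hy).mul_pow, h1, h2, one_mul]
    | inv x _ h1 => rw [inv_pow, h1, inv_one]
  have hall : ∀ w (hw : w ∈ H), q ⟨w, hw⟩ ∈ Q2 := by
    intro w hw
    have hw' := hgen hw
    have : Subgroup.closure gens ≤ ((Q2.comap q).map H.subtype) := (Subgroup.closure_le _).mpr fun t ht =>
      ⟨⟨t, hmem t ht⟩, Subgroup.subset_closure ⟨t, ht, rfl⟩, rfl⟩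
    obtain ⟨v, hv, hvw⟩ := this hw'
    have : v = ⟨w, hw⟩ := Subtype.ext hvw
    rw [← this]; exact hv
  have hkH : toSplit V k ∈ H := ⟨k, hk, rfl⟩
  have hk2 := hQ2s _ (hall _ hkH)
  rw [← map_pow] at hk2
  have hk2R : toSplit V (k ^ 2) ∈ R := by
    rw [map_pow]; exact (hq (⟨toSplit V k, hkH⟩ ^ 2)).mp hk2
  obtain ⟨z, hz, hzk⟩ := hRZ hk2R
  have h1 : z⁻¹ * k ^ 2 ∈ Z := hCZ (hker _ (by rw [map_mul, map_inv, hzk, inv_mul_cancel]))
  have h2 : k ^ 2 ∈ Z := by
    have := Z.mul_mem hz.1 h1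
    rwa [mul_inv_cancel_left] at this
  obtain ⟨m, hm⟩ := exists_pow_eq_self_of_coprime (x := k) (n := 2) (Nat.coprime_two_left.mpr hodd)
  rw [← hm]; exact Z.pow_mem h2 m

end CfsgLib.JComp
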