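import Mathlib
import Cfsg.Agent.Lib.JComp.Auto

/-!
Modules of order four for `J(T)`-components: the offender bound and uniqueness of the order three subgroup.
-/

set_option autoImplicit false
set_option linter.unusedSectionVars false

open scoped IsMulCommutative

namespace CfsgLib.JComp

open Cfsg

section Index

variable {G : Type*} [Group G] [Finite G]

/-- The conjugate of `d` by `x`. -/
abbrev cj (x d : G) : G := x * d * x⁻¹

theorem cj_comp (x y d : G) : cj (x * y) d = cj x (cj y d) := by simp [cj, mul_assoc]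

theorem elem_comm {D : Subgroup G} (hD : IsElementaryAbelian 2 D) {a b : G} (ha : a ∈ D) (hb : b ∈ D) : a * b = b * a :=
  haveI := hD.1
  Subgroup.mul_comm_of_mem_isMulCommutative D ha hb

theorem elem_inv {D : Subgroup G} (hD : IsElementaryAbelian 2 D) {a : G} (ha : a ∈ D) : a⁻¹ = a :=
  inv_eq_of_mul_eq_one_right (by rw [← pow_two]; exact hD.2 a ha)

theorem elem_sq {D : Subgroup G} (hD : IsElementaryAbelian 2 D) {a : G} (ha : a ∈ D) : a * a = 1 := by
  rw [← pow_two]; exact hD.2 a ha

theorem fixed_one {D : Subgroup G} (hD : IsElementaryAbelian 2 D) {x d : G} (hd : d ∈ D)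
    (hsum : d * cj x d * cj x (cj x d) = 1) (hfix : cj x d = d) : d = 1 := by
  rwa [hfix, hfix, elem_sq hD hd, one_mul] at hsum

theorem isElementaryAbelian_sup' {B D : Subgroup G} (hB : IsElementaryAbelian 2 B) (hD : IsElementaryAbelian 2 D)
    (h : ∀ b ∈ B, ∀ d ∈ D, b * d = d * b) : IsElementaryAbelian 2 (B ⊔ D) := by
  have hn : B ≤ Subgroup.normalizer (D : Set G) := fun b hb =>
    Local.mem_normalizer_of_map_conj_eq (Subgroup.eq_of_le_of_card_ge (Local.map_conj_le fun d hd => by
      rw [h b hb d hd, mul_inv_cancel_right]; exact hd)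
      (Subgroup.card_map_of_injective (f := (MulAut.conj b).toMonoidHom) (MulEquiv.injective _)).ge)
  have key : ∀ x ∈ B ⊔ D, ∃ b ∈ B, ∃ d ∈ D, x = b * d := fun x hx => by
    rw [← SetLike.mem_coe, Subgroup.coe_mul_of_left_le_normalizer_right B D hn] at hx
    obtain ⟨b, hb, d, hd, e⟩ := hx
    exact ⟨b, hb, d, hd, e.symm⟩
  refine ⟨⟨⟨fun x y => Subtype.ext ?_⟩⟩, fun x hx => ?_⟩
  · obtain ⟨b, hb, d, hd, e⟩ := key x x.2
    obtain ⟨b', hb', d', hd', e'⟩ := key y y.2
    show (x : G) * y = y * x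
    rw [e, e']
    calc b * d * (b' * d') = b * (d * b') * d' := by group
      _ = b * b' * (d * d') := by rw [← h b' hb' d hd]; group
      _ = b' * b * (d' * d) := by rw [elem_comm hB hb hb', elem_comm hD hd hd']
      _ = b' * (b * d') * d := by group
      _ = b' * d' * (b * d) := by rw [h b hb d' hd']; group
  · obtain ⟨b, hb, d, hd, e⟩ := key x hx
    rw [e, (show Commute b d from h b hb d hd).mul_pow, hB.2 b hb, hD.2 d hd, one_mul]

/-- If a largest elementary abelian group has a hyperplane commuting with a fixed point free action of order three on `D`,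
with an element outside inverting it, then `D` has order four. -/
theorem card_eq_four {D A B : Subgroup G} (hD : IsElementaryAbelian 2 D) (hA : IsElementaryAbelian 2 A)
    {x : G} (hxD : ∀ d ∈ D, cj x d ∈ D) (hsum : ∀ d ∈ D, d * cj x d * cj x (cj x d) = 1)
    (hAD : A ≤ Subgroup.normalizer (D : Set G))
    (hmax : ∀ E : Subgroup G, IsElementaryAbelian 2 E → E ≤ D ⊔ A → Nat.card E ≤ Nat.card A)
    {a : G} (ha : a ∈ A) (hinv : ∀ d ∈ D, cj a (cj x d) = cj x (cj x (cj a d)))
    (hBA : B ≤ A) (hidx : Nat.card A ≤ 2 * Nat.card B)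
    (hB : ∀ b ∈ B, ∀ d ∈ D, cj b (cj x d) = cj x (cj b d)) (hD1 : D ≠ ⊥) :
    Nat.card D = 4 := by
  classical
  have hBel : IsElementaryAbelian 2 B :=
    ⟨⟨⟨fun u v => Subtype.ext (elem_comm hA (hBA u.2) (hBA v.2))⟩⟩, fun u hu => hA.2 u (hBA hu)⟩
  have hBp : IsPGroup 2 ↥B := fun b => ⟨1, Subtype.ext (by simpa using hBel.2 b b.2)⟩
  -- square of the fixed subgroup
  have hsq : ∀ D1 : Subgroup G, D1 ≤ D → (∀ d ∈ D1, cj x d ∈ D1) → (∀ d ∈ D1, cj a d ∈ D1) →
      Nat.card D1 = Nat.card ↥(D1 ⊓ Subgroup.centralizer ({a} : Set G)) ^ 2 := by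
    intro D1 hle hx1 ha1
    set R := D1 ⊓ Subgroup.centralizer ({a} : Set G) with hR
    have hfixR : ∀ r ∈ R, cj a r = r := fun r hr => by
      show a * r * a⁻¹ = r
      rw [← Subgroup.mem_centralizer_singleton_iff.mp hr.2, mul_inv_cancel_right]
    let f : ↥R × ↥R → ↥D1 := fun z => ⟨(z.1 : G) * cj x (z.2 : G), D1.mul_mem z.1.2.1 (hx1 _ z.2.2.1)⟩
    have hinj : Function.Injective f := by
      rintro ⟨r, s⟩ ⟨r', s'⟩ h
      have h' : (r : G) * cj x (s : G) = r' * cj x (s' : G) := congrArg Subtype.val h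
      have e : cj x ((s : G) * (s' : G)⁻¹) = (r : G)⁻¹ * r' := by
        calc cj x ((s : G) * (s' : G)⁻¹) = (r : G)⁻¹ * ((r : G) * cj x (s : G)) * (cj x (s' : G))⁻¹ := by simp [cj, mul_assoc]
          _ = _ := by rw [h']; group
      set t := (s : G) * (s' : G)⁻¹ with ht
      have htR : t ∈ R := R.mul_mem s.2 (R.inv_mem s'.2)
      have h1 : cj x (cj x t) = cj x t := by
        have h2 := hinv t (hle htR.1)
        rw [hfixR t htR, e, hfixR _ (R.mul_mem (R.inv_mem r.2) r'.2)] at h2
        rw [e]; exact h2.symm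
      have ht1 : t = 1 := by
        have h3 := hsum t (hle htR.1)
        rwa [h1, mul_assoc, elem_sq hD (hxD t (hle htR.1)), mul_one] at h3
      have hs : s = s' := Subtype.ext (mul_inv_eq_one.mp ht1)
      subst hs
      exact Prod.ext (Subtype.ext (mul_right_cancel h')) rfl
    have hsurj : Function.Surjective f := by
      rintro ⟨d, hd⟩
      set ad := cj a d with had
      set s := d * ad with hs
      have hdD := hle hd
      have hadD : ad ∈ D := hle (ha1 d hd)
      have haa : cj a ad = d := by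
        rw [had, ← cj_comp, elem_sq hA ha]; simp [cj]
      have hsD1 : s ∈ D1 := D1.mul_mem hd (ha1 d hd)
      have hsR : s ∈ R := by
        refine ⟨hsD1, Subgroup.mem_centralizer_singleton_iff.mpr ?_⟩
        have : cj a s = s := by
          calc cj a s = cj a d * cj a ad := by simp [cj, hs, mul_assoc]
            _ = ad * d := by rw [haa]
            _ = s := elem_comm hD hadD hdD
        exact (mul_inv_eq_iff_eq_mul.mp this).symm
      set xs := cj x s with hxs
      have hxsD : xs ∈ D := hxD s (hle hsD1)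
      have hr : d * xs ∈ R := by
        refine ⟨D1.mul_mem hd (hx1 s hsD1), Subgroup.mem_centralizer_singleton_iff.mpr ?_⟩
        have h1 : cj a xs = cj x xs := by
          rw [hxs, hinv s (hle hsD1)]
          congr 2
          exact (mul_inv_eq_iff_eq_mul.mpr (Subgroup.mem_centralizer_singleton_iff.mp hsR.2).symm)
        have h2 : cj a (d * xs) = d * xs := by
          have hx2D : cj x xs ∈ D := hxD _ hxsD
          have hsum' : s * (xs * cj x xs) = 1 := by rw [← mul_assoc]; exact hsum s (hle hsD1)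
          have hxx : xs * cj x xs = s := by
            rw [eq_inv_of_mul_eq_one_right hsum', elem_inv hD (hle hsD1)]
          calc cj a (d * xs) = ad * cj a xs := by simp [cj, had, mul_assoc]
            _ = ad * cj x xs := by rw [h1]
            _ = (d * d) * ad * ((xs * xs) * cj x xs) := by rw [elem_sq hD hdD, elem_sq hD hxsD]; group
            _ = d * (d * ad) * xs * (xs * cj x xs) := by group
            _ = d * s * xs * s := by rw [hxx]
            _ = d * (s * xs) * s := by group
            _ = d * (xs * s) * s := by rw [elem_comm hD (hle hsD1) hxsD]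
            _ = d * xs := by rw [mul_assoc d, mul_assoc xs, elem_sq hD (hle hsD1), mul_one]
        exact (mul_inv_eq_iff_eq_mul.mp h2).symm
      refine ⟨(⟨d * xs, hr⟩, ⟨s, hsR⟩), Subtype.ext ?_⟩
      show d * xs * xs = d
      rw [mul_assoc, elem_sq hD hxsD, mul_one]
    rw [← Nat.card_congr (Equiv.ofBijective f ⟨hinj, hsurj⟩), Nat.card_prod, pow_two]
  -- the fixed points of `B`
  set D2 := D ⊓ Subgroup.centralizer (B : Set G) with hD2
  have hB2 : ∀ d ∈ D2, ∀ b ∈ B, cj b d = d := fun d hd b hb => by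
    show b * d * b⁻¹ = d
    rw [hd.2 b hb, mul_inv_cancel_right]
  have hx2 : ∀ d ∈ D2, cj x d ∈ D2 := fun d hd => ⟨hxD d hd.1, fun b hb => by
    have h1 := hB b hb d hd.1
    rw [hB2 d hd b hb] at h1
    exact mul_inv_eq_iff_eq_mul.mp h1⟩
  have ha2 : ∀ d ∈ D2, cj a d ∈ D2 := fun d hd => by
    refine ⟨(Subgroup.mem_normalizer_iff.mp (hAD ha) d).mp hd.1, fun b hb => ?_⟩
    have hab := elem_comm hA (hBA hb) ha
    have h1 : cj b (cj a d) = cj a d := by rw [← cj_comp, hab, cj_comp, hB2 d hd b hb]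
    exact mul_inv_eq_iff_eq_mul.mp h1
  set R2 := D2 ⊓ Subgroup.centralizer ({a} : Set G) with hR2
  have hE : ∀ B' : Subgroup G, B' ≤ B → ∀ D' : Subgroup G, D' ≤ D → (∀ b ∈ B', ∀ d ∈ D', b * d = d * b) →
      Nat.card B' * Nat.card D' ≤ 2 * Nat.card B * Nat.card ↥(B' ⊓ D') := by
    intro B' hB' D' hD' hcomm
    have hel : IsElementaryAbelian 2 (B' ⊔ D') :=
      isElementaryAbelian_sup' ⟨⟨⟨fun u v => Subtype.ext (elem_comm hA (hBA (hB' u.2)) (hBA (hB' v.2)))⟩⟩,
          fun u hu => hA.2 u (hBA (hB' hu))⟩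
        ⟨⟨⟨fun u v => Subtype.ext (elem_comm hD (hD' u.2) (hD' v.2))⟩⟩, fun u hu => hD.2 u (hD' hu)⟩ hcomm
    calc Nat.card B' * Nat.card D' ≤ Nat.card ↥(B' ⊔ D') * Nat.card ↥(B' ⊓ D') := CfsgLib.Products.card_mul_card_le B' D'
      _ ≤ _ := Nat.mul_le_mul_right _
          ((hmax _ hel (sup_le ((hB'.trans hBA).trans le_sup_right) (hD'.trans le_sup_left))).trans hidx)
  have hinR : ∀ B' : Subgroup G, B' ≤ B → ∀ D' : Subgroup G, D' ≤ D → B' ⊓ D' ≤ R2 := fun B' hB' D' hD' u hu =>
    ⟨⟨hD' hu.2, fun b hb => elem_comm hA (hBA hb) (hBA (hB' hu.1))⟩,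
      Subgroup.mem_centralizer_singleton_iff.mpr (elem_comm hA (hBA (hB' hu.1)) ha)⟩
  have hR2ne : 2 ≤ Nat.card R2 := by
    have hAp : IsPGroup 2 ↥A := fun b => ⟨1, Subtype.ext (by simpa using hA.2 b b.2)⟩
    let _ : MulAction ↥A ↥D :=
      { smul := fun g d => ⟨(g : G) * d * (g : G)⁻¹, (Subgroup.mem_normalizer_iff.mp (hAD g.2) d).mp d.2⟩
        one_smul := fun d => Subtype.ext (show (1 : G) * d * (1 : G)⁻¹ = d by group)
        mul_smul := fun g h d => Subtype.ext (show ((g : G) * h) * d * ((g : G) * h)⁻¹ =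
          (g : G) * ((h : G) * d * (h : G)⁻¹) * (g : G)⁻¹ by group) }
    have h2 : 2 ∣ Nat.card ↥D := by
      obtain ⟨n, hn⟩ := IsPGroup.iff_card.mp (show IsPGroup 2 ↥D from fun r => ⟨1, Subtype.ext (by simpa using hD.2 r r.2)⟩)
      rcases n with _ | n
      · exact absurd (Subgroup.eq_bot_of_card_eq D (by simpa using hn)) hD1
      · rw [hn]; exact dvd_pow_self 2 n.succ_ne_zero
    obtain ⟨y, hy, hy1⟩ := hAp.exists_fixed_point_of_prime_dvd_card_of_fixed_point ↥D h2
      (a := 1) (fun g => Subtype.ext (show (g : G) * 1 * (g : G)⁻¹ = 1 by group))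
    have hc : ∀ g ∈ A, g * (y : G) = y * g := fun g hg =>
      mul_inv_eq_iff_eq_mul.mp (congrArg Subtype.val (hy ⟨g, hg⟩))
    have hyR : (y : G) ∈ R2 :=
      ⟨⟨y.2, fun b hb => hc b (hBA hb)⟩, Subgroup.mem_centralizer_singleton_iff.mpr (hc a ha).symm⟩
    haveI : Nontrivial ↥R2 := ⟨⟨⟨y, hyR⟩, 1, fun e => hy1 (Subtype.ext (congrArg Subtype.val e).symm)⟩⟩
    exact Finite.one_lt_card_iff_nontrivial.mpr this
  have hR2le : Nat.card R2 = 2 := by
    have h1 := hE B le_rfl D2 inf_le_left fun b hb d hd => hd.2 b hb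
    rw [hsq D2 inf_le_left hx2 ha2] at h1
    have h2 := Nat.card_le_card_of_injective _ (Subgroup.inclusion_injective (hinR B le_rfl D2 inf_le_left))
    change Nat.card B * Nat.card R2 ^ 2 ≤ _ at h1
    have h3 := h1.trans (Nat.mul_le_mul_left _ h2)
    have h4 : Nat.card B * Nat.card R2 * Nat.card R2 ≤ Nat.card B * Nat.card R2 * 2 := by
      calc Nat.card B * Nat.card R2 * Nat.card R2 = Nat.card B * Nat.card R2 ^ 2 := by ring
        _ ≤ 2 * Nat.card B * Nat.card R2 := h3
        _ = _ := by ring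
    exact le_antisymm (Nat.le_of_mul_le_mul_left h4 (Nat.mul_pos Nat.card_pos Nat.card_pos)) hR2ne
  -- the fixed points of `a`
  set R := D ⊓ Subgroup.centralizer ({a} : Set G) with hR
  have hDcard : Nat.card D = Nat.card R ^ 2 :=
    hsq D le_rfl hxD fun d hd => (Subgroup.mem_normalizer_iff.mp (hAD ha) d).mp hd
  have hRR2 : R ⊓ Subgroup.centralizer (B : Set G) = R2 := by
    rw [hR, hR2, hD2]; exact inf_right_comm _ _ _
  have hRel : IsElementaryAbelian 2 R :=
    ⟨⟨⟨fun u v => Subtype.ext (elem_comm hD u.2.1 v.2.1)⟩⟩, fun u hu => hD.2 u hu.1⟩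
  have hBR : B ≤ Subgroup.normalizer (R : Set G) := fun b hb => mem_normalizer_of_conj_mem fun r hr => by
    refine ⟨(Subgroup.mem_normalizer_iff.mp (hAD (hBA hb)) r).mp hr.1, Subgroup.mem_centralizer_singleton_iff.mpr ?_⟩
    have hra : cj a r = r := mul_inv_eq_iff_eq_mul.mpr (Subgroup.mem_centralizer_singleton_iff.mp hr.2).symm
    have h1 : cj a (cj b r) = cj b r := by rw [← cj_comp, elem_comm hA ha (hBA hb), cj_comp, hra]
    exact (mul_inv_eq_iff_eq_mul.mp h1).symm
  have hbound := two_mul_card_le hRel hBel hBR (by rw [hRR2]; exact hR2le)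
  have hC : B ⊓ Subgroup.centralizer (R : Set G) ≤ B ⊓ Subgroup.centralizer (D : Set G) := by
    refine le_inf inf_le_left fun b hb d hd => ?_
    have hbf : ∀ r ∈ R, cj b r = r := fun r hr => by
      show b * r * b⁻¹ = r
      rw [← hb.2 r hr, mul_inv_cancel_right]
    -- `D` is generated by `R` and its conjugate
    have had := (Subgroup.mem_normalizer_iff.mp (hAD ha) d).mp hd
    have hs : d * cj a d ∈ R := by
      refine ⟨D.mul_mem hd had, Subgroup.mem_centralizer_singleton_iff.mpr ?_⟩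
      have e : cj a (d * cj a d) = d * cj a d := by
        calc cj a (d * cj a d) = cj a d * cj a (cj a d) := by simp [cj, mul_assoc]
          _ = cj a d * d := by rw [← cj_comp, elem_sq hA ha]; simp [cj]
          _ = _ := elem_comm hD had hd
      exact (mul_inv_eq_iff_eq_mul.mp e).symm
    obtain ⟨t, ht⟩ : ∃ t, t = d * cj x (d * cj a d) := ⟨_, rfl⟩
    have htR : t ∈ R := by
      refine ⟨ht ▸ D.mul_mem hd (hxD _ hs.1), Subgroup.mem_centralizer_singleton_iff.mpr ?_⟩
      set s := d * cj a d with hsdef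
      have hsfix : cj a s = s := mul_inv_eq_iff_eq_mul.mpr (Subgroup.mem_centralizer_singleton_iff.mp hs.2).symm
      have hxsD := hxD s hs.1
      have hx2D := hxD _ hxsD
      have hxx : cj x s * cj x (cj x s) = s := by
        have hsum' : s * (cj x s * cj x (cj x s)) = 1 := by rw [← mul_assoc]; exact hsum s hs.1
        rw [eq_inv_of_mul_eq_one_right hsum', elem_inv hD hs.1]
      have e : cj a t = t := by
        calc cj a t = cj a d * cj a (cj x s) := by rw [ht]; simp [cj, mul_assoc]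
          _ = cj a d * cj x (cj x s) := by rw [hinv s hs.1, hsfix]
          _ = (d * d) * cj a d * ((cj x s * cj x s) * cj x (cj x s)) := by
              rw [elem_sq hD hd, elem_sq hD hxsD]; simp only [cj]; group
          _ = d * (d * cj a d) * cj x s * (cj x s * cj x (cj x s)) := by group
          _ = d * (s * cj x s) * s := by rw [hxx, ← hsdef]; simp only [mul_assoc]
          _ = d * (cj x s * s) * s := by rw [elem_comm hD hs.1 hxsD]
          _ = t := by rw [mul_assoc d, mul_assoc (cj x s), elem_sq hD hs.1, mul_one, ht]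
      exact (mul_inv_eq_iff_eq_mul.mp e).symm
    have e : d = t * cj x (d * cj a d) := by rw [ht, mul_assoc, elem_sq hD (hxD _ hs.1), mul_one]
    have hbd : cj b d = d := by
      calc cj b d = cj b (t * cj x (d * cj a d)) := congrArg (cj b) e
        _ = cj b t * cj b (cj x (d * cj a d)) := by simp [cj, mul_assoc]
        _ = t * cj x (d * cj a d) := by rw [hbf t htR, hB b hb.1 _ hs.1, hbf _ hs]
        _ = d := e.symm
    exact (mul_inv_eq_iff_eq_mul.mp hbd).symm
  set B0 := B ⊓ Subgroup.centralizer (D : Set G) with hB0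
  have h1 := hE B0 inf_le_left D le_rfl fun b hb d hd => (hb.2 d hd).symm
  have h2 := Nat.card_le_card_of_injective _ (Subgroup.inclusion_injective (hinR B0 inf_le_left D le_rfl))
  rw [hR2le] at h2
  have h5 := hbound.trans (Nat.mul_le_mul_left _ (Nat.card_le_card_of_injective _ (Subgroup.inclusion_injective hC)))
  have h6 : Nat.card B0 * Nat.card R * Nat.card R ≤ Nat.card B0 * Nat.card R * 2 := by
    calc Nat.card B0 * Nat.card R * Nat.card R = Nat.card B0 * Nat.card D := by rw [hDcard]; ring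
      _ ≤ 2 * Nat.card B * 2 := h1.trans (Nat.mul_le_mul_left _ h2)
      _ ≤ Nat.card R * Nat.card B0 * 2 := Nat.mul_le_mul_right _ h5
      _ = _ := by ring
  have h7 : Nat.card R ≤ 2 := Nat.le_of_mul_le_mul_left h6 (Nat.mul_pos Nat.card_pos Nat.card_pos)
  have h8 : 2 ≤ Nat.card R :=
    hR2ne.trans (Nat.card_le_card_of_injective _ (Subgroup.inclusion_injective (hRR2.symm.le.trans inf_le_left)))
  rw [hDcard, le_antisymm h7 h8]
  norm_num

end Index

section Unique

variable {V : Type*} [CommGroup V] [Finite V]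

/-- `v ↦ x(v) v⁻¹`. -/
def mv (x : MulAut V) : V →* V := MonoidHom.mk' (fun v => x v * v⁻¹) fun u v => by
  rw [map_mul, mul_inv_rev, mul_comm v⁻¹ u⁻¹, mul_mul_mul_comm]

theorem mv_apply (x : MulAut V) (v : V) : mv x v = x v * v⁻¹ := rfl

variable (h2 : ∀ v : V, v * v = 1)
include h2

theorem inv_self (v : V) : v⁻¹ = v := inv_eq_of_mul_eq_one_right (h2 v)

theorem cube_apply {x : MulAut V} (hx : x ^ 3 = 1) (v : V) : x (x (x v)) = v := by
  have := DFunLike.congr_fun hx v
  rw [pow_succ, pow_two] at this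
  exact this

theorem range_fpf {x : MulAut V} (hx : x ^ 3 = 1) {w : V} (hw : w ∈ (mv x).range) (hfix : x w = w) : w = 1 := by
  obtain ⟨v, rfl⟩ := hw
  have h3 := cube_apply h2 hx v
  have h1 : mv x v * x (mv x v) * x (x (mv x v)) = 1 := by
    simp only [mv_apply, map_mul, map_inv, h3]
    simp [inv_self h2, mul_assoc, mul_comm, mul_left_comm, h2]
  rwa [hfix, hfix, h2, one_mul] at h1

theorem commute_unique {x y : MulAut V} (hx : x ^ 3 = 1) (hy : y ^ 3 = 1) (hy1 : y ≠ 1)
    (hcx : Nat.card (mv x).range = 4) (hcy : Nat.card (mv y).range = 4)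
    (hsum : Nat.card ↥((mv x).range ⊔ (mv y).range) ≤ 8) (hxy : Commute x y) : y ∈ Subgroup.zpowers x := by
  classical
  set Wx := (mv x).range with hWx
  set Wy := (mv y).range with hWy
  have hxy' : ∀ v, x (y v) = y (x v) := fun v => DFunLike.congr_fun hxy.eq v
  -- the two images agree
  have hI : Wx ⊓ Wy ≠ ⊥ := by
    intro e
    have h := CfsgLib.Products.card_mul_card_le Wx Wy
    rw [e, Subgroup.card_bot, hcx, hcy] at h
    omega
  have hxI : ∀ w ∈ Wx ⊓ Wy, x w ∈ Wx ⊓ Wy := by
    rintro w ⟨⟨u, rfl⟩, v, hv⟩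
    refine ⟨⟨x u, ?_⟩, ⟨x v, ?_⟩⟩
    · simp [mv_apply, map_mul, map_inv]
    · rw [← hv]; simp [mv_apply, map_mul, map_inv, hxy']
  obtain ⟨⟨w, hw⟩, hw1⟩ := Subgroup.ne_bot_iff_exists_ne_one.mp hI
  have hw1' : w ≠ 1 := fun e => hw1 (Subtype.ext e)
  have hxw : x w ≠ w := fun e => hw1' (range_fpf h2 hx hw.1 e)
  have hxxw : x (x w) ≠ w := fun e => hxw (by
    have := congrArg x e; rw [cube_apply h2 hx] at this; exact this.symm)
  have hxxw' : x (x w) ≠ x w := fun e => hxw (x.injective e)
  have hWIle : Wx ≤ Wx ⊓ Wy := by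
    refine le_of_eq (Subgroup.eq_of_le_of_card_ge inf_le_left ?_).symm
    have hS : ({1, w, x w, x (x w)} : Finset V).card = 4 := by
      have hx1 : ∀ u, x u = 1 → u = 1 := fun u hu => x.injective (by rw [hu, map_one])
      rw [Finset.card_insert_of_notMem, Finset.card_insert_of_notMem, Finset.card_pair hxxw'.symm]
      · simp only [Finset.mem_insert, Finset.mem_singleton, not_or]
        exact ⟨hxw.symm, hxxw.symm⟩
      · simp only [Finset.mem_insert, Finset.mem_singleton, not_or]
        exact ⟨hw1'.symm, fun e => hw1' (hx1 _ e.symm), fun e => hw1' (hx1 _ (hx1 _ e.symm))⟩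
    rw [hcx, ← hS, ← Fintype.card_coe, ← Nat.card_eq_fintype_card]
    refine Nat.card_le_card_of_injective (fun u : ({1, w, x w, x (x w)} : Finset V) => (⟨u.1, ?_⟩ : ↥(Wx ⊓ Wy))) ?_
    · have hu := u.2
      simp only [Finset.mem_insert, Finset.mem_singleton] at hu
      rcases hu with e | e | e | e <;> rw [e]
      exacts [one_mem _, hw, hxI w hw, hxI _ (hxI w hw)]
    · intro u v e; exact Subtype.ext (by simpa using e)
  have hWW : Wy = Wx :=
    (Subgroup.eq_of_le_of_card_ge (hWIle.trans inf_le_right) (by rw [hcx, hcy])).symm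
  -- `y` fixes the fixed points of `x`
  have hyfix : ∀ v, x v = v → y v = v := fun v hv => by
    have hmem : mv y v ∈ Wx := hWW ▸ ⟨v, rfl⟩
    have := range_fpf h2 hx hmem (by simp [mv_apply, map_mul, map_inv, hxy', hv])
    exact mul_inv_eq_one.mp this
  have hyw : y w ≠ w := fun e => hw1' (range_fpf h2 hy hw.2 e)
  have hyWx : y w ∈ Wx := by
    have h1 : mv y w ∈ Wx := hWW ▸ ⟨w, rfl⟩
    simpa [mv_apply] using Wx.mul_mem h1 hw.1
  have hlist : ∀ u ∈ Wx, u = 1 ∨ u = w ∨ u = x w ∨ u = x (x w) := by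
    intro u hu
    by_contra hne
    simp only [not_or] at hne
    have h5 : ({u, 1, w, x w, x (x w)} : Finset V).card = 5 := by
      have hx1 : ∀ u, x u = 1 → u = 1 := fun u hu => x.injective (by rw [hu, map_one])
      rw [Finset.card_insert_of_notMem, Finset.card_insert_of_notMem, Finset.card_insert_of_notMem,
        Finset.card_pair hxxw'.symm]
      · simp only [Finset.mem_insert, Finset.mem_singleton, not_or]
        exact ⟨hxw.symm, hxxw.symm⟩
      · simp only [Finset.mem_insert, Finset.mem_singleton, not_or]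
        exact ⟨hw1'.symm, fun e => hw1' (hx1 _ e.symm), fun e => hw1' (hx1 _ (hx1 _ e.symm))⟩
      · simp only [Finset.mem_insert, Finset.mem_singleton, not_or]
        exact hne
    have hle : Nat.card ({u, 1, w, x w, x (x w)} : Finset V) ≤ Nat.card Wx := by
      refine Nat.card_le_card_of_injective (fun z => (⟨z.1, ?_⟩ : ↥Wx)) fun a b e => Subtype.ext (by simpa using e)
      have hz := z.2
      simp only [Finset.mem_insert, Finset.mem_singleton] at hz
      rcases hz with e | e | e | e | e <;> rw [e]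
      exacts [hu, one_mem _, hw.1, (hxI w hw).1, (hxI _ (hxI w hw)).1]
    rw [Nat.card_eq_fintype_card, Fintype.card_coe, h5, hcx] at hle
    omega
  -- an element commuting with `x` and agreeing with a power of it at `w`
  have hagree : ∀ z ∈ Subgroup.zpowers x, z w = y w → y = z := by
    intro z hz hzw
    obtain ⟨i, rfl⟩ := Subgroup.mem_zpowers_iff.mp hz
    have hzc : ∀ v, x ((x ^ i) v) = (x ^ i) (x v) := fun v => DFunLike.congr_fun ((Commute.refl x).zpow_right i).eq v
    have hzfix : ∀ v, x v = v → (x ^ i) v = v := fun v hv => by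
      have : Subgroup.zpowers x ≤ MulAction.stabilizer (MulAut V) v := Subgroup.zpowers_le.mpr hv
      exact this hz
    refine MulEquiv.ext fun v => ?_
    set c := v * x v * x (x v) with hc
    set u := v * c⁻¹ with hu
    have hxc : x c = c := by
      rw [hc]; simp only [map_mul, cube_apply h2 hx]; rw [mul_comm (x v * x (x v)) v, mul_assoc]
    have huW : u ∈ Wx := ⟨x v, by
      rw [hu, hc, mv_apply]
      simp [inv_self h2, mul_assoc, mul_comm, mul_left_comm, h2]
      rw [← mul_assoc v v, h2, one_mul]⟩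
    have hzu : y u = (x ^ i) u := by
      rcases hlist u huW with e | e | e | e <;> rw [e]
      · rw [map_one, map_one]
      · exact hzw.symm
      · rw [← hxy', ← hzc, hzw]
      · rw [← hxy', ← hxy', ← hzc, ← hzc, hzw]
    have hv' : v = u * c := by rw [hu, inv_mul_cancel_right]
    calc y v = y (u * c) := congrArg y hv'
      _ = (x ^ i) (u * c) := by rw [map_mul y u c, map_mul (x ^ i) u c, hzu, hyfix c hxc, hzfix c hxc]
      _ = (x ^ i) v := congrArg (x ^ i) hv'.symm
  rcases hlist _ hyWx with e | e | e | e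
  · exact absurd (y.injective (by rw [e, map_one])) hw1'
  · exact absurd e hyw
  · rw [hagree x (Subgroup.mem_zpowers x) e.symm]; exact Subgroup.mem_zpowers x
  · rw [hagree (x ^ 2) (Subgroup.pow_mem _ (Subgroup.mem_zpowers x) 2) (by rw [pow_two]; exact e.symm)]
    exact Subgroup.pow_mem _ (Subgroup.mem_zpowers x) 2

/-- Two elements of order three with small common image, generating a 3-group, generate the same subgroup. -/
theorem zpowers_unique {x y : MulAut V} (hP : IsPGroup 3 ↥(Subgroup.closure ({x, y} : Set (MulAut V))))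
    (hx : x ^ 3 = 1) (hy : y ^ 3 = 1) (hy1 : y ≠ 1)
    (hcx : Nat.card (mv x).range = 4) (hcy : Nat.card (mv y).range = 4)
    (hsum : Nat.card ↥((mv x).range ⊔ (mv y).range) ≤ 8) : y ∈ Subgroup.zpowers x := by
  haveI : Fact (Nat.Prime 3) := ⟨Nat.prime_three⟩
  haveI : Finite (MulAut V) := Finite.of_injective (fun f : MulAut V => (f : V → V)) DFunLike.coe_injective
  set P := Subgroup.closure ({x, y} : Set (MulAut V)) with hPdef
  set M0 := (mv x).range ⊔ (mv y).range with hM0
  have hstab : ∀ g ∈ P, ∀ m ∈ M0, g m ∈ M0 := by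
    intro g hg
    induction hg using Subgroup.closure_induction with
    | mem z hz =>
      intro m hm
      have : mv z m ∈ M0 := by
        rcases hz with rfl | rfl
        · exact Subgroup.mem_sup_left ⟨m, rfl⟩
        · exact Subgroup.mem_sup_right ⟨m, rfl⟩
      simpa [mv_apply] using M0.mul_mem this hm
    | one => exact fun m hm => hm
    | mul a b _ _ iha ihb => exact fun m hm => iha _ (ihb m hm)
    | inv a _ iha =>
      intro m hm
      have hsurj : Function.Surjective (fun u : ↥M0 => (⟨a u, iha u u.2⟩ : ↥M0)) :=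
        Finite.surjective_of_injective fun u v e => Subtype.ext (a.injective (congrArg Subtype.val e))
      obtain ⟨u, hu⟩ := hsurj ⟨m, hm⟩
      have hu' : a u = m := congrArg Subtype.val hu
      rw [← hu']; exact (MulEquiv.symm_apply_apply a (u : V)).symm ▸ u.2
  set N := (Subgroup.zpowers x).subgroupOf P with hN
  haveI := hP.isNilpotent
  have hxP : x ∈ P := Subgroup.subset_closure (Set.mem_insert x _)
  have hyP : y ∈ P := Subgroup.subset_closure (Set.mem_insert_of_mem _ rfl)
  have hcommute : ∀ z : MulAut V, z ∈ P → z * x * z⁻¹ ∈ Subgroup.zpowers x → Commute x z := by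
    intro z hzP hz
    obtain ⟨i, hi⟩ := Subgroup.mem_zpowers_iff.mp hz
    have h3 : ∃ n : ℕ, z ^ (3 ^ n) = 1 := by
      obtain ⟨n, hn⟩ := hP ⟨z, hzP⟩
      exact ⟨n, congrArg Subtype.val hn⟩
    obtain ⟨n, hn⟩ := h3
    rcases (show i % 3 = 0 ∨ i % 3 = 1 ∨ i % 3 = 2 by omega) with e | e | e
    all_goals rw [← Int.emod_add_mul_ediv i 3, e, zpow_add, zpow_mul] at hi
    · have h1 : z * x * z⁻¹ = 1 := by rw [← hi]; simp [zpow_ofNat, hx]
      have : x = 1 := by
        have := congrArg (fun t => z⁻¹ * t * z) h1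
        simpa [mul_assoc] using this
      rw [this]; exact Commute.one_left z
    · have h1 : z * x * z⁻¹ = x := by rw [← hi]; simp [zpow_ofNat, hx]
      exact (mul_inv_eq_iff_eq_mul.mp h1).symm
    · have h1 : z * x * z⁻¹ = x * x := by rw [← hi]; simp [zpow_ofNat, hx, pow_two]
      have h2' : z ^ 2 * x * (z ^ 2)⁻¹ = x := by
        calc z ^ 2 * x * (z ^ 2)⁻¹ = z * (z * x * z⁻¹) * z⁻¹ := by rw [pow_two]; group
          _ = z * (x * x) * z⁻¹ := by rw [h1]
          _ = (z * x * z⁻¹) * (z * x * z⁻¹) := by group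
          _ = x ^ 3 * x := by rw [h1]; simp [pow_succ, mul_assoc]
          _ = x := by rw [hx, one_mul]
      have hc2 : Commute x (z ^ 2) := (mul_inv_eq_iff_eq_mul.mp h2').symm
      obtain ⟨k, hk⟩ : Odd (3 ^ n) := (by decide : Odd 3).pow
      have : z = ((z ^ 2) ^ k)⁻¹ := by
        rw [eq_inv_iff_mul_eq_one, ← pow_mul, ← pow_succ', ← hk, hn]
      rw [this]; exact (hc2.pow_right k).inv_right
  have key : ∀ z : MulAut V, z ∈ P → z ^ 3 = 1 → z ≠ 1 → Nat.card (mv z).range = 4 → (mv z).range ≤ M0 →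
      z * x * z⁻¹ ∈ Subgroup.zpowers x → z ∈ Subgroup.zpowers x := by
    intro z hzP hz3 hz1 hcz hzM hz
    refine commute_unique h2 hx hz3 hz1 hcx hcz ?_ (hcommute z hzP hz)
    exact (Nat.card_le_card_of_injective _
      (Subgroup.inclusion_injective (sup_le (le_sup_left : (mv x).range ≤ M0) hzM))).trans hsum
  by_contra hyx
  have hlt : Subgroup.normalizer (N : Set ↥P) < ⊤ := by
    refine lt_top_iff_ne_top.mpr fun e => hyx (key y hyP hy hy1 hcy le_sup_right ?_)
    have := (Subgroup.mem_normalizer_iff.mp (e.ge (Subgroup.mem_top (⟨y, hyP⟩ : ↥P))) ⟨x, hxP⟩).mp (Subgroup.mem_subgroupOf.mpr (Subgroup.mem_zpowers x))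
    exact Subgroup.mem_subgroupOf.mp this
  obtain ⟨g, hg, hgN⟩ := SetLike.exists_of_lt (Group.normalizerCondition_of_isNilpotent (Subgroup.normalizer (N : Set ↥P)) hlt)
  have hxN : (⟨x, hxP⟩ : ↥P) ∈ Subgroup.normalizer (N : Set ↥P) :=
    Subgroup.le_normalizer (Subgroup.mem_subgroupOf.mpr (Subgroup.mem_zpowers x))
  have hzN := Subgroup.mem_subgroupOf.mp ((Subgroup.mem_normalizer_iff.mp
    ((Subgroup.mem_normalizer_iff.mp hg _).mp hxN) ⟨x, hxP⟩).mp (Subgroup.mem_subgroupOf.mpr (Subgroup.mem_zpowers x)))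
  set g' : MulAut V := (g : MulAut V) with hg'
  set z := g' * x * g'⁻¹ with hz
  have hzval : z * x * z⁻¹ ∈ Subgroup.zpowers x := hzN
  have hz3 : z ^ 3 = 1 := by rw [hz, conj_pow, hx, mul_one, mul_inv_cancel]
  have hrz : ∀ v, mv z v = g' (mv x (g'⁻¹ v)) := fun v => by
    have e : g' (g'⁻¹ v) = v := DFunLike.congr_fun (mul_inv_cancel g') v
    rw [hz, mv_apply, mv_apply, map_mul, map_inv, e]
    rfl
  have hcz : Nat.card (mv z).range = 4 := by
    have : (mv z).range = (mv x).range.map g'.toMonoidHom := by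
      ext v
      constructor
      · rintro ⟨u, rfl⟩; exact ⟨_, ⟨g'⁻¹ u, rfl⟩, (hrz u).symm⟩
      · rintro ⟨_, ⟨u, rfl⟩, rfl⟩
        refine ⟨g' u, ?_⟩
        rw [hrz, show g'⁻¹ (g' u) = u from DFunLike.congr_fun (inv_mul_cancel g') u]
        rfl
    rw [this, Subgroup.card_map_of_injective (MulEquiv.injective g'), hcx]
  have hz1 : z ≠ 1 := fun e => by
    have : (mv z).range = ⊥ := by
      rw [eq_bot_iff]; rintro _ ⟨u, rfl⟩
      simp [e, mv_apply]
    rw [this, Subgroup.card_bot] at hcz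
    omega
  have hzx := key z (P.mul_mem (P.mul_mem g.2 hxP) (P.inv_mem g.2)) hz3 hz1 hcz (fun v hv => by
    obtain ⟨u, rfl⟩ := hv
    rw [hrz]
    exact hstab _ g.2 _ (Subgroup.mem_sup_left ⟨_, rfl⟩)) hzval
  refine hgN (mem_normalizer_of_conj_mem fun t ht => ?_)
  rw [hN, Subgroup.mem_subgroupOf] at ht ⊢
  obtain ⟨i, hi⟩ := Subgroup.mem_zpowers_iff.mp ht
  show g' * (t : MulAut V) * g'⁻¹ ∈ Subgroup.zpowers x
  rw [← hi, ← conj_zpow]
  exact Subgroup.zpow_mem _ hzx i

end Unique

end CfsgLib.JComp
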