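import Mathlib
import Cfsg.Prelude.Def_JComponents
import Cfsg.Agent.Lib.JComp.Auto
import Cfsg.Agent.Lib.JComp.Plane
import Cfsg.Agent.Lib.JComp.Module
import Cfsg.Agent.Lib.PLocal.SolvableSeparable
import Cfsg.Agent.Lib.Subnormal

/-!
`J(T)`-components in a solvable group of characteristic 2 whose central involutions have small centralizers.
-/

set_option autoImplicit false
set_option linter.unusedSectionVars false

universe u

namespace CfsgLib.JComp

open Cfsg CfsgLib.PLocal CfsgLib.Offender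

open scoped IsMulCommutative

variable {M : Type u} [Group M] [Finite M]

/-- The standing hypotheses on a member of `ℒ(T)`. -/
structure Over (M : Type u) [Group M] [Finite M] : Prop where
  solv : Group.IsSolvable M
  charP : Subgroup.centralizer (pCore 2 M : Set M) ≤ pCore 2 M
  cz : ∀ T : Sylow 2 M, Subgroup.centralizer (omegaCenterOf (T : Subgroup M) : Set M) ≤
    Subgroup.normalizer ((T : Subgroup M) : Set M)

/-- A component, as far as it depends on the Thompson subgroup `J`. -/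
structure IsComp (J K : Subgroup M) : Prop where
  gen : oddGen K = K
  comm : ⁅K, J⁆ = K
  idx : (pCoreOf 2 K).relIndex K = 3
  card : Nat.card ↥(wOf K) = 4

/-- `Ω₁(Z(O₂(M)))`. -/
abbrev vee (M : Type u) [Group M] : Subgroup M := omegaOne 2 (pCore 2 M ⊓ Subgroup.centralizer (pCore 2 M : Set M))

/-- `C(V)`. -/
abbrev cee (M : Type u) [Group M] : Subgroup M := Subgroup.centralizer (vee M : Set M)

instance : Fact (Nat.Prime 2) := ⟨Nat.prime_two⟩
instance : Fact (Nat.Prime 3) := ⟨Nat.prime_three⟩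

theorem vee_gen_le : vee M ≤ pCore 2 M ⊓ Subgroup.centralizer (pCore 2 M : Set M) :=
  (Subgroup.closure_le _).mpr fun _ hx => hx.1

instance vee_normal : (vee M).Normal := by
  haveI : (pCore 2 M).Normal := inferInstance
  refine ⟨fun v hv g => ?_⟩
  have : vee M ≤ (vee M).comap (MulAut.conj g).toMonoidHom := (Subgroup.closure_le _).mpr fun y hy => by
    refine Subgroup.subset_closure ⟨⟨Subgroup.Normal.conj_mem inferInstance y hy.1.1 g,
      (inferInstance : (Subgroup.centralizer (pCore 2 M : Set M)).Normal).conj_mem y hy.1.2 g⟩, ?_⟩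
    show (g * y * g⁻¹) ^ 2 = 1
    rw [conj_pow, hy.2, mul_one, mul_inv_cancel]
  exact this hv

theorem vee_elem : IsElementaryAbelian 2 (vee M) := by
  have hc : ∀ x ∈ vee M, ∀ y ∈ vee M, x * y = y * x := fun x hx y hy => ((vee_gen_le hy).2 x (vee_gen_le hx).1)
  refine ⟨⟨⟨fun a b => Subtype.ext (hc a a.2 b b.2)⟩⟩, fun x hx => ?_⟩
  induction hx using Subgroup.closure_induction with
  | mem y hy => exact hy.2
  | one => exact one_pow 2
  | mul y w hy hw h1 h2 => rw [(show Commute y w from hc y hy w hw).mul_pow, h1, h2, one_mul]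
  | inv y _ h1 => rw [inv_pow, h1, inv_one]

theorem core_le_cee : pCore 2 M ≤ cee M := fun q hq v hv => ((vee_gen_le hv).2 q hq).symm

theorem isPGroup_two_of_sq {A : Subgroup M} (hA : ∀ a ∈ A, a ^ 2 = 1) : IsPGroup 2 ↥A := fun a =>
  ⟨1, Subtype.ext (by simpa using hA a a.2)⟩

theorem conj_mem_of_normal {N : Subgroup M} (hN : N.Normal) {x : M} (hx : x ∈ N) (g : M) : g * x * g⁻¹ ∈ N :=
  hN.conj_mem x hx g

theorem orderOf_eq_two_mul (x : M) : ∃ k m : ℕ, Odd m ∧ orderOf x = 2 ^ k * m := by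
  obtain ⟨k, m, hm, h⟩ := Nat.exists_eq_two_pow_mul_odd (orderOf_pos x).ne'
  exact ⟨k, m, hm, h⟩

namespace Over

variable (hM : Over M)
include hM

theorem psolv : IsPSolvable 2 M := isPSolvable_of_isSolvable _ M rfl hM.solv

theorem pPrimeCore_eq_bot : pPrimeCore 2 M = ⊥ := by
  rw [eq_bot_iff]
  intro x hx
  have hcop := card_pPrimeCore_coprime (G := M) 2
  have hle : pPrimeCore 2 M ≤ Subgroup.centralizer (pCore 2 M : Set M) := fun y hy q hq => by
    have h1 : q * y * q⁻¹ * y⁻¹ ∈ pPrimeCore 2 M :=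
      mul_mem (Subgroup.Normal.conj_mem inferInstance y hy q) (inv_mem hy)
    have h2 : q * y * q⁻¹ * y⁻¹ ∈ pCore 2 M := by
      rw [show q * y * q⁻¹ * y⁻¹ = q * (y * q⁻¹ * y⁻¹) by group]
      exact mul_mem hq (Subgroup.Normal.conj_mem inferInstance _ (inv_mem hq) y)
    obtain ⟨n, hn⟩ := CfsgLib.isPGroup_pCore (G := M) 2 ⟨_, h2⟩
    have hn' : (q * y * q⁻¹ * y⁻¹) ^ 2 ^ n = 1 := congrArg Subtype.val hn
    have hodd : Odd (orderOf (q * y * q⁻¹ * y⁻¹)) :=
      Nat.coprime_two_right.mp (Nat.Coprime.coprime_dvd_left (Subgroup.orderOf_dvd_natCard _ h1) hcop)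
    exact mul_inv_eq_iff_eq_mul.mp (mul_inv_eq_one.mp (pow_eq_one_of_two hodd hn'))
  obtain ⟨n, hn⟩ := CfsgLib.isPGroup_pCore (G := M) 2 ⟨x, hM.charP (hle hx)⟩
  exact Subgroup.mem_bot.mpr (pow_eq_one_of_two
    (Nat.coprime_two_right.mp (Nat.Coprime.coprime_dvd_left (Subgroup.orderOf_dvd_natCard _ hx) hcop))
    (congrArg Subtype.val hn))

theorem omegaCenter_le_vee (T : Sylow 2 M) : omegaCenterOf (T : Subgroup M) ≤ vee M := by
  refine (Subgroup.closure_le _).mpr fun x hx => ?_
  have h1 : x ∈ Subgroup.centralizer (pCore 2 M : Set M) := fun q hq => hx.1.2 q (CfsgLib.pCore_le_sylow T hq)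
  exact Subgroup.subset_closure ⟨⟨hM.charP h1, h1⟩, hx.2⟩

theorem omegaJoin_le_vee : omegaJoin 2 M ≤ vee M := iSup_le fun T => hM.omegaCenter_le_vee T

/-- 2-elements of a normal subgroup centralising the central involutions lie in `O₂(M)`. -/
theorem two_mem_core {C' : Subgroup M} [hn : C'.Normal] (hle : ∀ T : Sylow 2 M, C' ≤ Subgroup.centralizer (omegaCenterOf (T : Subgroup M) : Set M))
    {c : M} (hc : c ∈ C') {n : ℕ} (hc2 : c ^ 2 ^ n = 1) : c ∈ pCore 2 M := by
  obtain ⟨T⟩ : Nonempty (Sylow 2 M) := inferInstance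
  have hN : C' ≤ Subgroup.normalizer ((T : Subgroup M) : Set M) := (hle T).trans (hM.cz T)
  have key : ∀ d ∈ C', ∀ m : ℕ, d ^ 2 ^ m = 1 → d ∈ (T : Subgroup M) := by
    intro d hd m hdm
    have hp : IsPGroup 2 ↥(Subgroup.zpowers d) := by
      obtain ⟨j, -, hj⟩ := (Nat.dvd_prime_pow Nat.prime_two).mp (orderOf_dvd_of_pow_eq_one hdm)
      exact IsPGroup.of_card (by rw [Nat.card_zpowers]; exact hj)
    have hsup := T.isPGroup'.to_sup_of_normal_left' hp (Subgroup.zpowers_le.mpr (hN hd))
    have := T.is_maximal' hsup le_sup_left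
    exact this ▸ Subgroup.mem_sup_right (Subgroup.mem_zpowers d)
  set D := (T : Subgroup M) ⊓ C' with hD
  haveI : D.Normal := by
    refine ⟨fun d hd g => ?_⟩
    obtain ⟨m, hm⟩ := T.isPGroup' ⟨d, hd.1⟩
    have hg : g * d * g⁻¹ ∈ C' := hn.conj_mem d hd.2 g
    exact ⟨key _ hg m (by rw [conj_pow, show d ^ 2 ^ m = 1 from congrArg Subtype.val hm, mul_one, mul_inv_cancel]), hg⟩
  exact CfsgLib.le_pCore (T.isPGroup'.to_le inf_le_left) (show c ∈ D from ⟨key c hc n hc2, hc⟩)

theorem cee_le (T : Sylow 2 M) : cee M ≤ Subgroup.centralizer (omegaCenterOf (T : Subgroup M) : Set M) :=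
  Subgroup.centralizer_le (hM.omegaCenter_le_vee T)

theorem two_cee {c : M} (hc : c ∈ cee M) {n : ℕ} (hc2 : c ^ 2 ^ n = 1) : c ∈ pCore 2 M :=
  hM.two_mem_core (C' := cee M) hM.cee_le hc hc2

theorem sq_cee {c : M} (hc : c ∈ cee M) (hc2 : c * c ∈ pCore 2 M) : c ∈ pCore 2 M := by
  obtain ⟨n, hn⟩ := CfsgLib.isPGroup_pCore (G := M) 2 ⟨_, hc2⟩
  refine hM.two_cee hc (n := n + 1) ?_
  rw [pow_succ', pow_mul, pow_two]
  exact congrArg Subtype.val hn

theorem core_quot : pCore 2 (M ⧸ cee M) = ⊥ := by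
  haveI : (omegaJoin 2 M).Normal := omegaJoin_normal
  have h0 := (omegaJoin_props hM.psolv hM.pPrimeCore_eq_bot).2
  set C0 := Subgroup.centralizer (omegaJoin 2 M : Set M) with hC0
  have hle : cee M ≤ C0 := Subgroup.centralizer_le hM.omegaJoin_le_vee
  rw [eq_bot_iff]
  intro z hz
  obtain ⟨p, rfl⟩ := QuotientGroup.mk'_surjective (cee M) z
  obtain ⟨n, hn⟩ := CfsgLib.isPGroup_pCore (G := M ⧸ cee M) 2 ⟨_, hz⟩
  have hpn : p ^ 2 ^ n ∈ cee M := by
    refine (QuotientGroup.eq_one_iff _).mp ?_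
    have := congrArg Subtype.val hn
    simpa using this
  have hp0 : p ∈ C0 := by
    let f : M ⧸ cee M →* M ⧸ C0 := QuotientGroup.map _ _ (MonoidHom.id M) (by simpa using hle)
    have hf : Function.Surjective f := fun y => by
      obtain ⟨m, rfl⟩ := QuotientGroup.mk'_surjective C0 y
      exact ⟨QuotientGroup.mk' _ m, rfl⟩
    haveI : ((pCore 2 (M ⧸ cee M)).map f).Normal := Subgroup.Normal.map inferInstance f hf
    have h1 : (pCore 2 (M ⧸ cee M)).map f ≤ pCore 2 (M ⧸ C0) := CfsgLib.le_pCore ((CfsgLib.isPGroup_pCore 2).map f)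
    rw [h0] at h1
    exact (QuotientGroup.eq_one_iff p).mp (Subgroup.mem_bot.mp (h1 ⟨_, hz, rfl⟩))
  obtain ⟨k, m, hm, hkm⟩ := orderOf_eq_two_mul p
  have h2 : p ^ m ∈ cee M := core_le_cee (hM.two_mem_core (C' := C0)
    (fun T => Subgroup.centralizer_le (le_iSup (fun S : Sylow 2 M => omegaZ 2 (S : Subgroup M)) T))
    (C0.pow_mem hp0 m) (n := k) (by rw [← pow_mul, mul_comm, ← hkm, pow_orderOf_eq_one]))
  refine Subgroup.mem_bot.mpr ((QuotientGroup.eq_one_iff p).mpr ?_)
  have hcop : Nat.Coprime (2 ^ n) m := Nat.Coprime.pow_left n (Nat.coprime_two_left.mpr hm)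
  have hb := Nat.gcd_eq_gcd_ab (2 ^ n) m
  rw [hcop, Nat.cast_one] at hb
  rw [← zpow_one p, hb, zpow_add, zpow_mul, zpow_mul, zpow_natCast, zpow_natCast]
  exact mul_mem ((cee M).zpow_mem hpn _) ((cee M).zpow_mem h2 _)

/-- `J(M)` centralises `C(V)` modulo `O₂(M)`. -/
theorem comm_cee {c y : M} (hc : c ∈ cee M) (hy : y ∈ thompsonSubgroup 2 M) : y * c * y⁻¹ * c⁻¹ ∈ pCore 2 M := by
  haveI : ((cee M).map (QuotientGroup.mk' (pCore 2 M))).Normal :=
    Subgroup.Normal.map inferInstance _ (QuotientGroup.mk'_surjective _)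
  set D := (Subgroup.centralizer (((cee M).map (QuotientGroup.mk' (pCore 2 M)) : Subgroup (M ⧸ pCore 2 M)) :
    Set (M ⧸ pCore 2 M))).comap (QuotientGroup.mk' (pCore 2 M)) with hD
  have hTD : ∀ T : Sylow 2 M, (T : Subgroup M) ≤ D := by
    intro T t ht
    show QuotientGroup.mk' (pCore 2 M) t ∈ Subgroup.centralizer _
    rintro _ ⟨d, hd, rfl⟩
    have h1 : d * t * d⁻¹ * t⁻¹ ∈ (T : Subgroup M) :=
      mul_mem ((Subgroup.mem_normalizer_iff.mp (hM.cz T (hM.cee_le T hd)) t).mp ht) (inv_mem ht)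
    have h2 : d * t * d⁻¹ * t⁻¹ ∈ cee M := by
      rw [show d * t * d⁻¹ * t⁻¹ = d * (t * d⁻¹ * t⁻¹) by group]
      exact mul_mem hd (Subgroup.Normal.conj_mem inferInstance _ (inv_mem hd) t)
    obtain ⟨n, hn⟩ := T.isPGroup' ⟨_, h1⟩
    have h3 := hM.two_cee h2 (congrArg Subtype.val hn)
    have h4 : QuotientGroup.mk' (pCore 2 M) (d * t * d⁻¹ * t⁻¹) = 1 := (QuotientGroup.eq_one_iff _).mpr h3
    rw [map_mul, map_mul, map_mul, map_inv, map_inv] at h4
    exact mul_inv_eq_iff_eq_mul.mp (mul_inv_eq_one.mp h4)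
  have hJD : thompsonSubgroup 2 M ≤ D := sSup_le fun A hA => by
    obtain ⟨T, hT⟩ := (isPGroup_two_of_sq hA.1.2).exists_le_sylow
    exact hT.trans (hTD T)
  have h1 := (hJD hy) (QuotientGroup.mk' (pCore 2 M) c) ⟨c, hc, rfl⟩
  refine (QuotientGroup.eq_one_iff _).mp ?_
  show QuotientGroup.mk' (pCore 2 M) (y * c * y⁻¹ * c⁻¹) = 1
  rw [map_mul, map_mul, map_mul, map_inv, map_inv, ← h1, mul_inv_cancel_right, mul_inv_cancel]

/-- Basic elements and their preimage of a normal 3-subgroup. -/
theorem core_mem {x : M} (hx : IsCore (vee M) x) :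
    x ∈ (pCore 3 (M ⧸ cee M)).comap (QuotientGroup.mk' (cee M)) := by
  haveI := thompsonSubgroup_normal' (G := M) (p := 2)
  set q := QuotientGroup.mk' (cee M) with hq
  set Jb := (thompsonSubgroup 2 M).map q with hJb
  haveI : Jb.Normal := Subgroup.Normal.map inferInstance _ (QuotientGroup.mk'_surjective _)
  set Xb := Subgroup.zpowers (q x) with hXb
  haveI : (Xb.subgroupOf Jb).Normal := by
    refine (Subgroup.normal_subgroupOf_iff_le_normalizer (show Xb ≤ Jb from Subgroup.zpowers_le.mpr (Subgroup.mem_map_of_mem q hx.memJ))).mpr ?_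
    rintro _ ⟨j, hj, rfl⟩
    refine mem_normalizer_of_conj_mem fun z hz => ?_
    obtain ⟨i, rfl⟩ := Subgroup.mem_zpowers_iff.mp hz
    rw [← conj_zpow]
    refine Subgroup.zpow_mem _ ?_ i
    have := Subgroup.mem_map_of_mem q (hx.normal j hj)
    rw [Subgroup.map_sup, MonoidHom.map_zpowers,
      show (cee M).map q = ⊥ from QuotientGroup.map_mk'_self _, sup_bot_eq, map_mul, map_mul, map_inv] at this
    exact this
  have h3 : IsPGroup 3 ↥Xb := by
    have hx3 : q x ^ 3 = 1 := by rw [← map_pow]; exact (QuotientGroup.eq_one_iff _).mpr hx.cube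
    obtain ⟨j, -, hj⟩ := (Nat.dvd_prime_pow Nat.prime_three).mp
      (show orderOf (q x) ∣ 3 ^ 1 by rw [pow_one]; exact orderOf_dvd_of_pow_eq_one hx3)
    exact IsPGroup.of_card (by rw [hXb, Nat.card_zpowers]; exact hj)
  have h4 : Xb.subgroupOf Jb ≤ pCore 3 ↥Jb := CfsgLib.le_pCore
    (h3.comap_of_injective Jb.subtype Jb.subtype_injective)
  have h5 := CfsgLib.map_pCore_le 3 Jb
    ⟨⟨q x, x, hx.memJ, rfl⟩, h4 (Subgroup.mem_subgroupOf.mpr (Subgroup.mem_zpowers _)), rfl⟩
  exact h5

theorem odd_mem {k : M} (hk : k ∈ thompsonSubgroup 2 M) (hodd : Odd (orderOf k)) :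
    k ∈ (pCore 3 (M ⧸ cee M)).comap (QuotientGroup.mk' (cee M)) :=
  odd_mem_of_cores vee_elem hM.psolv hM.core_quot
    (fun c hc => by
      show QuotientGroup.mk' (cee M) c ∈ pCore 3 (M ⧸ cee M)
      rw [show QuotientGroup.mk' (cee M) c = 1 from (QuotientGroup.eq_one_iff c).mpr hc]; exact one_mem _)
    (fun x hx => hM.core_mem hx) hk hodd

end Over

/-- The action on `V`. -/
noncomputable abbrev act (M : Type u) [Group M] [Finite M] : M →* MulAut ↥(vee M) := MulAut.conjNormal

theorem act_eq_one {g : M} : act M g = 1 ↔ g ∈ cee M := by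
  rw [← MonoidHom.mem_ker, show (act M).ker = cee M from Offender.actHom_ker (vee M)]

noncomputable instance : CommGroup ↥(vee M) :=
  { (inferInstance : Group ↥(vee M)) with mul_comm := (vee_elem (M := M)).1.is_comm.comm }

theorem vee_sq (v : ↥(vee M)) : v * v = 1 := Subtype.ext (elem_sq vee_elem v.2)

theorem mv_act_coe (g : M) (v : ↥(vee M)) : ((mv (act M g) v : ↥(vee M)) : M) = g * v * g⁻¹ * (v : M)⁻¹ := by
  show ((act M g v : ↥(vee M)) : M) * ((v⁻¹ : ↥(vee M)) : M) = _
  rw [MulAut.conjNormal_apply, Subgroup.coe_inv]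

/-- The data of a component needed for uniqueness. -/
structure Pre (x a : M) : Prop where
  xJ : x ∈ thompsonSubgroup 2 M
  x3 : x ^ 3 ∈ pCore 2 M
  xC : x ∉ cee M
  card : Nat.card (mv (act M x)).range = 4
  aJ : a ∈ thompsonSubgroup 2 M
  a2 : a * a = 1
  aC : a ∉ cee M
  inv : a * x * a⁻¹ * x ∈ pCore 2 M
  small : (mv (act M a)).range ≤ (mv (act M x)).range

theorem fixed_of_nonid {W : Subgroup ↥(vee M)} {z : MulAut ↥(vee M)} (hz3 : z ^ 3 = 1) (hW : W = (mv z).range)
    (hc : Nat.card W = 4) {r : ↥(vee M)} (hr : r ∈ W) (hr1 : r ≠ 1) :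
    ∀ u ∈ W, u = 1 ∨ u = r ∨ u = z r ∨ u = z (z r) := by
  classical
  subst hW
  intro u hu
  by_contra hne
  simp only [not_or] at hne
  have hzr : z r ≠ r := fun e => hr1 (range_fpf vee_sq hz3 hr e)
  have hzzr : z (z r) ≠ r := fun e => hzr (by
    have := congrArg z e; rw [cube_apply vee_sq hz3] at this; exact this.symm)
  have hzzr' : z (z r) ≠ z r := fun e => hzr (z.injective e)
  have hz1 : ∀ u, z u = 1 → u = 1 := fun u hu => z.injective (by rw [hu, map_one])
  have h5 : ({u, 1, r, z r, z (z r)} : Finset ↥(vee M)).card = 5 := by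
    rw [Finset.card_insert_of_notMem, Finset.card_insert_of_notMem, Finset.card_insert_of_notMem,
      Finset.card_pair hzzr'.symm]
    · simp only [Finset.mem_insert, Finset.mem_singleton, not_or]
      exact ⟨hzr.symm, hzzr.symm⟩
    · simp only [Finset.mem_insert, Finset.mem_singleton, not_or]
      exact ⟨hr1.symm, fun e => hr1 (hz1 _ e.symm), fun e => hr1 (hz1 _ (hz1 _ e.symm))⟩
    · simp only [Finset.mem_insert, Finset.mem_singleton, not_or]
      exact hne
  have hzW : ∀ w ∈ (mv z).range, z w ∈ (mv z).range := by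
    rintro _ ⟨v, rfl⟩; exact ⟨z v, by simp [mv_apply, map_mul, map_inv]⟩
  have hle : Nat.card ({u, 1, r, z r, z (z r)} : Finset ↥(vee M)) ≤ Nat.card (mv z).range := by
    refine Nat.card_le_card_of_injective (fun t => (⟨t.1, ?_⟩ : ↥(mv z).range)) fun a b e => Subtype.ext (by simpa using e)
    have ht := t.2
    simp only [Finset.mem_insert, Finset.mem_singleton] at ht
    rcases ht with e | e | e | e | e <;> rw [e]
    exacts [hu, one_mem _, hr, hzW r hr, hzW _ (hzW r hr)]
  rw [Nat.card_eq_fintype_card, Fintype.card_coe, h5, hc] at hle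
  omega

namespace Pre

variable {x a : M}

theorem act3 (P : Pre x a) : act M x ^ 3 = 1 := by
  rw [← map_pow]; exact act_eq_one.mpr (core_le_cee P.x3)

theorem act_a2 (P : Pre x a) : act M a * act M a = 1 := by rw [← map_mul, P.a2, map_one]

theorem act_inv (P : Pre x a) (v : ↥(vee M)) :
    act M a (act M x v) = act M x (act M x (act M a v)) := by
  have h1 : act M a * act M x * act M a * act M x = 1 := by
    have h := act_eq_one.mpr (core_le_cee P.inv)
    rw [map_mul, map_mul, map_mul, map_inv, inv_eq_of_mul_eq_one_right P.act_a2] at h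
    exact h
  have h2 : act M a * act M x = act M x * act M x * act M a := by
    have h3 := P.act3
    rw [pow_succ, pow_two] at h3
    calc act M a * act M x = (act M a * act M x * act M a * act M x) * ((act M x)⁻¹ * (act M a)⁻¹) := by group
      _ = (act M x)⁻¹ * (act M a)⁻¹ := by rw [h1, one_mul]
      _ = act M x * act M x * act M a := by
          rw [show (act M a)⁻¹ = act M a from inv_eq_of_mul_eq_one_right P.act_a2,
            inv_eq_of_mul_eq_one_left h3]
  exact DFunLike.congr_fun h2 v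

/-- A transvection of the component fixes the fixed points of the element of order three. -/
theorem fix_a (P : Pre x a) {v : ↥(vee M)} (hv : act M x v = v) : act M a v = v := by
  have hmem := P.small ⟨v, rfl⟩
  have hfix : act M x (mv (act M a) v) = mv (act M a) v := by
    rw [mv_apply, map_mul, map_inv, hv]
    congr 1
    have := P.act_inv (act M x v)
    rw [hv] at this
    have h3 := cube_apply vee_sq P.act3 (act M a v)
    calc act M x (act M a v) = act M x (act M a (act M x v)) := by rw [hv]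
      _ = act M x (act M x (act M x (act M a v))) := by rw [P.act_inv]
      _ = act M a v := h3
  exact mul_inv_eq_one.mp (range_fpf vee_sq P.act3 hmem hfix)

theorem exists_fixed (P : Pre x a) : ∃ r ∈ (mv (act M x)).range, r ≠ 1 ∧ act M a r = r ∧
    act M a (act M x r) = act M x (act M x r) := by
  obtain ⟨v, hv⟩ : ∃ v, mv (act M a) v ≠ 1 := by
    by_contra hall
    push Not at hall
    exact P.aC (act_eq_one.mp (MulEquiv.ext fun v => mul_inv_eq_one.mp (hall v)))
  refine ⟨_, P.small ⟨v, rfl⟩, hv, ?_, ?_⟩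
  · have h : act M a (act M a v) = v := DFunLike.congr_fun P.act_a2 v
    rw [mv_apply, map_mul, map_inv, h, inv_self (vee_sq (M := M)), inv_self (vee_sq (M := M)), mul_comm]
  · have h : act M a (act M a v) = v := DFunLike.congr_fun P.act_a2 v
    rw [P.act_inv]
    congr 2
    rw [mv_apply, map_mul, map_inv, h, inv_self (vee_sq (M := M)), inv_self (vee_sq (M := M)), mul_comm]

/-- Two components with the same image in `Aut V` agree modulo `O₂(M)`. -/
theorem mem_of_image (hM : Over M) {x' a' : M} (P : Pre x a) (P' : Pre x' a')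
    (hx' : act M x' ∈ Subgroup.zpowers (act M x)) : x' ∈ Subgroup.zpowers x ⊔ pCore 2 M := by
  obtain ⟨i, hi⟩ := Subgroup.mem_zpowers_iff.mp hx'
  have hW : (mv (act M x')).range = (mv (act M x)).range := by
    refine Subgroup.eq_of_le_of_card_ge ?_ (by rw [P.card, P'.card])
    rintro _ ⟨v, rfl⟩
    obtain ⟨n, hn⟩ : ∃ n : ℕ, act M x' = act M x ^ n := by
      obtain ⟨n, hn⟩ := ((isOfFinOrder_of_finite (act M x)).mem_powers_iff_mem_zpowers).mpr hx'
      exact ⟨n, hn.symm⟩
    rw [hn]
    have key : ∀ n : ℕ, ∀ v, mv (act M x ^ n) v ∈ (mv (act M x)).range := by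
      intro n
      induction n with
      | zero => intro v; simp [mv_apply]
      | succ n ih =>
        intro v
        have e : mv (act M x ^ (n + 1)) v = mv (act M x) ((act M x ^ n) v) * mv (act M x ^ n) v := by
          rw [pow_succ', mv_apply, mv_apply, mv_apply]
          show act M x ((act M x ^ n) v) * v⁻¹ = _
          group
        rw [e]; exact mul_mem ⟨_, rfl⟩ (ih v)
    exact key n v
  set Wx := (mv (act M x)).range with hWx
  obtain ⟨r, hr, hr1, har, harx⟩ := P.exists_fixed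
  obtain ⟨r', hr', hr'1, ha'r', -⟩ := P'.exists_fixed
  rw [hW] at hr'
  have hfix' : ∀ v, act M x v = v → act M a' v = v := fun v hv => P'.fix_a (by
    rw [← hi]
    have : Subgroup.zpowers (act M x) ≤ MulAction.stabilizer (MulAut ↥(vee M)) v := Subgroup.zpowers_le.mpr hv
    exact this (Subgroup.zpow_mem _ (Subgroup.mem_zpowers _) i))
  -- a conjugate of `a` fixing `r'`
  obtain ⟨l, hl⟩ : ∃ l : ℕ, (act M x ^ l) r = r' := by
    rcases fixed_of_nonid P.act3 rfl P.card hr hr1 r' hr' with e | e | e | e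
    · exact absurd e hr'1
    · exact ⟨0, by rw [e]; rfl⟩
    · exact ⟨1, by rw [e, pow_one]⟩
    · exact ⟨2, by rw [e, pow_two]; rfl⟩
  set g := x ^ l with hg
  set a1 := g * a * g⁻¹ with ha1
  have hxg : act M g = act M x ^ l := map_pow _ _ _
  have ha1act : ∀ v, act M a1 v = act M g (act M a ((act M g)⁻¹ v)) := fun v => by
    rw [ha1, map_mul, map_mul, map_inv]; rfl
  have hgi : ∀ v, (act M g)⁻¹ (act M g v) = v := fun v => DFunLike.congr_fun (inv_mul_cancel (act M g)) v
  have ha1r : act M a1 r' = r' := by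
    rw [← hl, ← hxg, ha1act, hgi, har]
  have hgc : ∀ v, act M g (act M x v) = act M x (act M g v) := fun v => by
    rw [hxg]; exact (DFunLike.congr_fun (((Commute.refl (act M x)).pow_left l).eq) v)
  have ha1x : act M a1 (act M x r') = act M x (act M x r') := by
    rw [← hl, ← hxg, ← hgc, ha1act, hgi, harx, hgc, hgc]
  have ha'x : act M a' (act M x r') = act M x (act M x r') := by
    have hmem : act M a' (act M x r') ∈ Wx := by
      have h1 : mv (act M a') (act M x r') ∈ Wx := hW ▸ P'.small ⟨_, rfl⟩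
      have h2 : act M x r' ∈ Wx := by
        obtain ⟨u, rfl⟩ := hr'; exact ⟨act M x u, by simp [mv_apply, map_mul, map_inv]⟩
      simpa [mv_apply] using mul_mem h1 h2
    have hinj := (act M a').injective
    have hz1 : ∀ u, act M x u = 1 → u = 1 := fun u hu => (act M x).injective (by rw [hu, map_one])
    rcases fixed_of_nonid P.act3 rfl P.card hr' hr'1 _ hmem with e | e | e | e
    · exact absurd (hz1 _ (hinj (by rw [e, map_one]))) hr'1
    · exfalso
      have : act M x r' = r' := hinj (by rw [e, ha'r'])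
      exact hr'1 (range_fpf vee_sq P.act3 hr' this)
    · exfalso
      -- `a'` would centralise `W`
      have h2 : act M a' (act M x (act M x r')) = act M x (act M x r') := by
        have hxx : act M x (act M x r') = r' * act M x r' := by
          have hs : r' * act M x r' * act M x (act M x r') = 1 := by
            obtain ⟨u, rfl⟩ := hr'
            simp only [mv_apply, map_mul, map_inv, cube_apply vee_sq P.act3]
            simp [inv_self (vee_sq (M := M)), mul_assoc, mul_comm, mul_left_comm, vee_sq (M := M)]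
          rw [eq_inv_of_mul_eq_one_right hs, inv_self (vee_sq (M := M))]
        rw [hxx, map_mul, ha'r', e]
      refine P'.aC (act_eq_one.mp (MulEquiv.ext fun v => ?_))
      set c := v * act M x v * act M x (act M x v) with hc
      have hxc : act M x c = c := by
        rw [hc]; simp only [map_mul, cube_apply vee_sq P.act3]
        rw [mul_comm (act M x v * act M x (act M x v)) v, mul_assoc]
      have huW : v * c⁻¹ ∈ Wx := ⟨act M x v, by
        rw [hc, mv_apply]
        simp [inv_self (vee_sq (M := M)), mul_assoc, mul_comm, mul_left_comm, vee_sq (M := M)]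
        rw [← mul_assoc v v, vee_sq, one_mul]⟩
      have hu : act M a' (v * c⁻¹) = v * c⁻¹ := by
        rcases fixed_of_nonid P.act3 rfl P.card hr' hr'1 _ huW with e' | e' | e' | e' <;> rw [e']
        · rw [map_one]
        · exact ha'r'
        · exact e
        · exact h2
      calc act M a' v = act M a' ((v * c⁻¹) * c) := by rw [inv_mul_cancel_right]
        _ = (v * c⁻¹) * c := by rw [map_mul (act M a') (v * c⁻¹) c, hu, hfix' c hxc]
        _ = v := inv_mul_cancel_right v c
    · exact e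
  have hEq : act M a' = act M a1 := by
    refine MulEquiv.ext fun v => ?_
    set c := v * act M x v * act M x (act M x v) with hc
    have hxc : act M x c = c := by
      rw [hc]; simp only [map_mul, cube_apply vee_sq P.act3]
      rw [mul_comm (act M x v * act M x (act M x v)) v, mul_assoc]
    have huW : v * c⁻¹ ∈ Wx := ⟨act M x v, by
      rw [hc, mv_apply]
      simp [inv_self (vee_sq (M := M)), mul_assoc, mul_comm, mul_left_comm, vee_sq (M := M)]
      rw [← mul_assoc v v, vee_sq, one_mul]⟩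
    have hc1 : act M a1 c = c := by
      have h0 : act M x ((act M g)⁻¹ c) = (act M g)⁻¹ c := (act M g).injective (by
        rw [hgc, show act M g ((act M g)⁻¹ c) = c from DFunLike.congr_fun (mul_inv_cancel (act M g)) c, hxc])
      rw [ha1act, P.fix_a h0]
      exact DFunLike.congr_fun (mul_inv_cancel (act M g)) c
    have hinvo : ∀ z : M, z * z = 1 → ∀ u, act M z u = act M x (act M x r') → u = act M x r' →
        act M z (act M x (act M x r')) = act M x r' := fun z hz u hu hu' => by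
      rw [← hu, ← hu']
      have := DFunLike.congr_fun (show act M z * act M z = 1 by rw [← map_mul, hz, map_one]) u
      exact this
    have hu : act M a' (v * c⁻¹) = act M a1 (v * c⁻¹) := by
      rcases fixed_of_nonid P.act3 rfl P.card hr' hr'1 _ huW with e | e | e | e <;> rw [e]
      · rw [map_one, map_one]
      · rw [ha'r', ha1r]
      · rw [ha'x, ha1x]
      · rw [hinvo a' P'.a2 _ ha'x rfl, hinvo a1 (by rw [ha1, conj_mul, P.a2, mul_one, mul_inv_cancel]) _ ha1x rfl]
    calc act M a' v = act M a' ((v * c⁻¹) * c) := by rw [inv_mul_cancel_right]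
      _ = act M a1 ((v * c⁻¹) * c) := by
          rw [map_mul (act M a') (v * c⁻¹) c, map_mul (act M a1) (v * c⁻¹) c, hu, hfix' c hxc, hc1]
      _ = act M a1 v := by rw [inv_mul_cancel_right]
  -- pass to the quotient by `O₂(M)`
  set q := QuotientGroup.mk' (pCore 2 M) with hq
  have hq1 : ∀ z, q z = 1 ↔ z ∈ pCore 2 M := fun z => QuotientGroup.eq_one_iff z
  have ha1J : a1 ∈ thompsonSubgroup 2 M := by
    haveI := thompsonSubgroup_normal' (G := M) (p := 2)
    exact Subgroup.Normal.conj_mem inferInstance _ P.aJ g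
  have hcomm : ∀ c ∈ cee M, ∀ y ∈ thompsonSubgroup 2 M, Commute (q y) (q c) := by
    intro c hc y hy
    have := (hq1 _).mpr (hM.comm_cee hc hy)
    rw [map_mul, map_mul, map_mul, map_inv, map_inv] at this
    exact mul_inv_eq_iff_eq_mul.mp (mul_inv_eq_one.mp this)
  have ha1sq : q a1 * q a1 = 1 := by rw [← map_mul, ha1, conj_mul, P.a2, mul_one, mul_inv_cancel, map_one]
  have hd : a1⁻¹ * a' ∈ cee M := act_eq_one.mp (by rw [map_mul, map_inv, hEq, inv_mul_cancel])
  set d := a1⁻¹ * a' with hdef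
  have hd2 : d ∈ pCore 2 M := by
    refine hM.sq_cee hd ((hq1 _).mp ?_)
    have ha' : q a' = q a1 * q d := by rw [← map_mul, hdef, mul_inv_cancel_left]
    have h1 : q a' * q a' = 1 := by rw [← map_mul, P'.a2, map_one]
    rw [ha', show q a1 * q d * (q a1 * q d) = q a1 * (q d * q a1) * q d by group, ← (hcomm d hd a1 ha1J).eq,
      ← mul_assoc (q a1), ha1sq, one_mul] at h1
    rw [map_mul]; exact h1
  have hqa' : q a' = q a1 := by
    have : q d = 1 := (hq1 _).mpr hd2
    rw [hdef, map_mul, map_inv, inv_mul_eq_one] at this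
    exact this.symm
  have hinv1 : q a1 * q x * (q a1)⁻¹ = (q x)⁻¹ := by
    have h := (hq1 _).mpr P.inv
    rw [map_mul, map_mul, map_mul, map_inv] at h
    have h' : q a * q x * (q a)⁻¹ = (q x)⁻¹ := eq_inv_of_mul_eq_one_left h
    simp only [ha1, hg, map_mul, map_inv, map_pow]
    calc q x ^ l * q a * (q x ^ l)⁻¹ * q x * (q x ^ l * q a * (q x ^ l)⁻¹)⁻¹
        = q x ^ l * (q a * ((q x ^ l)⁻¹ * q x * q x ^ l) * (q a)⁻¹) * (q x ^ l)⁻¹ := by group
      _ = q x ^ l * (q a * q x * (q a)⁻¹) * (q x ^ l)⁻¹ := by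
          rw [show (q x ^ l)⁻¹ * q x * q x ^ l = q x by
            rw [mul_assoc, ← pow_succ', pow_succ, inv_mul_cancel_left]]
      _ = (q x)⁻¹ := by rw [h']; group
  obtain ⟨c, hc, hx'c⟩ : ∃ c ∈ cee M, x' = x ^ i * c :=
    ⟨(x ^ i)⁻¹ * x', act_eq_one.mp (by rw [map_mul, map_inv, map_zpow, hi, inv_mul_cancel]), (mul_inv_cancel_left _ _).symm⟩
  have h' := (hq1 _).mpr P'.inv
  rw [map_mul, map_mul, map_mul, map_inv, hx'c, map_mul q (x ^ i) c, map_zpow q x i, hqa'] at h'
  have hca1 := hcomm c hc a1 ha1J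
  have hcx : Commute (q x ^ i) (q c) := (hcomm c hc x P.xJ).zpow_left i
  have hcc : q c * q c = 1 := by
    have e1 : q a1 * (q x ^ i * q c) * (q a1)⁻¹ = (q x ^ i)⁻¹ * q c := by
      calc q a1 * (q x ^ i * q c) * (q a1)⁻¹ = (q a1 * q x * (q a1)⁻¹) ^ i * (q a1 * q c * (q a1)⁻¹) := by
            rw [conj_zpow]; group
        _ = _ := by rw [hinv1, inv_zpow, hca1.eq, mul_inv_cancel_right]
    rw [e1, show (q x ^ i)⁻¹ * q c * (q x ^ i * q c) = (q x ^ i)⁻¹ * (q c * q x ^ i) * q c by group,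
      ← hcx.eq, ← mul_assoc (q x ^ i)⁻¹, inv_mul_cancel, one_mul] at h'
    exact h'
  have hcQ : c ∈ pCore 2 M := hM.sq_cee hc ((hq1 _).mp (by rw [map_mul]; exact hcc))
  rw [hx'c]
  exact Subgroup.mul_mem_sup (Subgroup.zpow_mem _ (Subgroup.mem_zpowers x) i) hcQ

/-- Two components with small common image agree modulo `O₂(M)`. -/
theorem mem_of_small (hM : Over M) {x' a' : M} (P : Pre x a) (P' : Pre x' a')
    (hY : x ∈ (pCore 3 (M ⧸ cee M)).comap (QuotientGroup.mk' (cee M)))
    (hY' : x' ∈ (pCore 3 (M ⧸ cee M)).comap (QuotientGroup.mk' (cee M)))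
    (hsum : Nat.card ↥((mv (act M x)).range ⊔ (mv (act M x')).range) ≤ 8) :
    x' ∈ Subgroup.zpowers x ⊔ pCore 2 M := by
  refine P.mem_of_image hM P' (zpowers_unique vee_sq ?_ P.act3 P'.act3 (fun e => P'.xC (act_eq_one.mp e)) P.card P'.card hsum)
  set Y := (pCore 3 (M ⧸ cee M)).comap (QuotientGroup.mk' (cee M)) with hYdef
  have hYp : IsPGroup 3 ↥(Y.map (act M)) := by
    rintro ⟨_, y, hy, rfl⟩
    obtain ⟨n, hn⟩ := CfsgLib.isPGroup_pCore (G := M ⧸ cee M) 3 ⟨_, hy⟩
    refine ⟨n, Subtype.ext ?_⟩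
    show act M y ^ 3 ^ n = 1
    rw [← map_pow]
    exact act_eq_one.mpr ((QuotientGroup.eq_one_iff _).mp (by simpa using congrArg Subtype.val hn))
  refine hYp.to_le ((Subgroup.closure_le _).mpr ?_)
  rintro z (rfl | rfl)
  · exact ⟨x, hY, rfl⟩
  · exact ⟨x', hY', rfl⟩

end Pre

end CfsgLib.JComp
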