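import Mathlib
import Cfsg.Agent.Lib.JComp.Core

/-!
Subnormality and uniqueness of `J(T)`-components.
-/

set_option autoImplicit false
set_option linter.unusedSectionVars false

universe u

namespace CfsgLib.JComp

open Cfsg CfsgLib.PLocal CfsgLib.Offender
open scoped IsMulCommutative commutatorElement

section Generic

variable {G : Type u} [Group G] [Finite G]

theorem le_normalizer_of_commutator_eq {K J : Subgroup G} (h : ⁅K, J⁆ = K) : J ≤ Subgroup.normalizer (K : Set G) := by
  intro j hj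
  refine mem_normalizer_of_conj_mem fun x hx => ?_
  have hle : ⁅K, J⁆ ≤ K.comap (MulAut.conj j).toMonoidHom := by
    rw [Subgroup.commutator_le]
    intro k hk j' hj'
    show j * ⁅k, j'⁆ * j⁻¹ ∈ K
    have e : j * ⁅k, j'⁆ * j⁻¹ = (⁅k, j⁆)⁻¹ * ⁅k, j * j'⁆ := by simp only [commutatorElement_def]; group
    rw [e]
    refine K.mul_mem (K.inv_mem ?_) ?_
    · exact h.le (Subgroup.commutator_mem_commutator hk hj)
    · exact h.le (Subgroup.commutator_mem_commutator hk (J.mul_mem hj hj'))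
  exact hle (h.ge hx)

/-- A subgroup normalised by `K J` and normalising `J` normalises `K = [K, J]`. -/
theorem le_normalizer_of_component {K J Q : Subgroup G} (hgen : oddGen K = K) (hcomm : ⁅K, J⁆ = K)
    (hJ : IsPGroup 2 ↥J) (hQ1 : K ⊔ J ≤ Subgroup.normalizer (Q : Set G))
    (hQ2 : Q ≤ Subgroup.normalizer (J : Set G)) : Q ≤ Subgroup.normalizer (K : Set G) := by
  intro q hq
  have hJK := le_normalizer_of_commutator_eq hcomm
  have hX : K ≤ (K ⊔ J).comap (MulAut.conj q).toMonoidHom := by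
    refine hcomm.ge.trans ?_
    rw [Subgroup.commutator_le]
    intro k hk j hj
    show q * ⁅k, j⁆ * q⁻¹ ∈ K ⊔ J
    have hq' : k⁻¹ * q * k ∈ Q := by
      have h1 := (Subgroup.mem_normalizer_iff.mp (hQ1 (inv_mem (Subgroup.mem_sup_left hk))) q).mp hq
      rwa [inv_inv] at h1
    have h2 := (Subgroup.mem_normalizer_iff.mp (hQ2 hq') j).mp hj
    have h3 := (Subgroup.mem_normalizer_iff.mp (hQ2 hq) j⁻¹).mp (inv_mem hj)
    have e : q * ⁅k, j⁆ * q⁻¹ = k * (k⁻¹ * q * k * j * (k⁻¹ * q * k)⁻¹) * k⁻¹ * (q * j⁻¹ * q⁻¹) := by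
      simp only [commutatorElement_def]; group
    rw [e]
    exact mul_mem (mul_mem (mul_mem (Subgroup.mem_sup_left hk) (Subgroup.mem_sup_right h2)) (inv_mem (Subgroup.mem_sup_left hk)))
      (Subgroup.mem_sup_right h3)
  refine mem_normalizer_of_conj_mem fun x hx => ?_
  have key : oddGen K ≤ K.comap (MulAut.conj q).toMonoidHom := (Subgroup.closure_le _).mpr fun y hy => by
    show q * y * q⁻¹ ∈ K
    exact odd_mem_of_sup hJ hJK (hX hy.1) (by rw [orderOf_conj_eq]; exact hy.2)
  exact key (hgen.symm ▸ hx)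

variable {H : Type u} [Group H] [Finite H] (f : G →* H) (hf : Function.Injective f)
include hf

theorem oddGen_map (K : Subgroup G) : oddGen (K.map f) = (oddGen K).map f := by
  rw [oddGen, oddGen, MonoidHom.map_closure]
  congr 1
  ext y
  constructor
  · rintro ⟨⟨x, hx, rfl⟩, ho⟩
    exact ⟨x, ⟨hx, by rwa [orderOf_injective f hf] at ho⟩, rfl⟩
  · rintro ⟨x, ⟨hx, ho⟩, rfl⟩
    exact ⟨⟨x, hx, rfl⟩, by rw [orderOf_injective f hf]; exact ho⟩

theorem pCoreOf_map (K : Subgroup G) : pCoreOf 2 (K.map f) = (pCoreOf 2 K).map f := by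
  set e := K.equivMapOfInjective f hf with he
  rw [pCoreOf, pCoreOf, ← CfsgLib.pCore_map_equiv 2 e, Subgroup.map_map, Subgroup.map_map]
  rfl

theorem omegaCenterOf_map (K : Subgroup G) : omegaCenterOf (K.map f) = (omegaCenterOf K).map f := by
  rw [omegaCenterOf, omegaCenterOf, omegaOne, omegaOne, MonoidHom.map_closure]
  congr 1
  ext y
  constructor
  · rintro ⟨⟨⟨x, hxS, rfl⟩, hxc⟩, hxp⟩
    refine ⟨x, ⟨⟨hxS, fun s hs => hf ?_⟩, hf (by rw [map_pow, hxp, map_one])⟩, rfl⟩
    rw [map_mul, map_mul]; exact hxc _ ⟨s, hs, rfl⟩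
  · rintro ⟨x, ⟨⟨hxS, hxc⟩, hxp⟩, rfl⟩
    refine ⟨⟨⟨x, hxS, rfl⟩, ?_⟩, by rw [← map_pow, hxp, map_one]⟩
    rintro _ ⟨s, hs, rfl⟩
    rw [← map_mul, ← map_mul, hxc s hs]

theorem wOf_map (K : Subgroup G) : wOf (K.map f) = (wOf K).map f := by
  rw [wOf, wOf, pCoreOf_map f hf, omegaCenterOf_map f hf, Subgroup.map_commutator]

theorem thompsonOf_map (T : Subgroup G) : thompsonSubgroupOf 2 (T.map f) = (thompsonSubgroupOf 2 T).map f := by
  set e := T.equivMapOfInjective f hf with he
  rw [thompsonSubgroupOf, thompsonSubgroupOf, ← thompsonSubgroup_map e, Subgroup.map_map, Subgroup.map_map]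
  rfl

theorem isComp_map_iff (J K : Subgroup G) : IsComp (J.map f) (K.map f) ↔ IsComp J K := by
  have hinj := Subgroup.map_injective hf
  constructor
  · intro h
    exact ⟨hinj (by rw [← oddGen_map f hf]; exact h.gen), hinj (by rw [Subgroup.map_commutator]; exact h.comm),
      by have := h.idx; rwa [pCoreOf_map f hf, Subgroup.relIndex_map_map_of_injective _ _ hf] at this,
      by have := h.card; rwa [wOf_map f hf, Subgroup.card_map_of_injective hf] at this⟩
  · intro h
    exact ⟨by rw [oddGen_map f hf, h.gen], by rw [← Subgroup.map_commutator, h.comm],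
      by rw [pCoreOf_map f hf, Subgroup.relIndex_map_map_of_injective _ _ hf, h.idx],
      by rw [wOf_map f hf, Subgroup.card_map_of_injective hf, h.card]⟩

end Generic

theorem card_sup_mul_card_inf {G : Type*} [Group G] [Finite G] {A B : Subgroup G}
    (h : A ≤ Subgroup.normalizer (B : Set G)) :
    Nat.card ↥(A ⊔ B) * Nat.card ↥(A ⊓ B) = Nat.card A * Nat.card B := by
  haveI : (B.subgroupOf (A ⊔ B)).Normal :=
    (Subgroup.normal_subgroupOf_iff_le_normalizer le_sup_right).mpr (sup_le h Subgroup.le_normalizer)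
  have h1 : B.relIndex (A ⊔ B) = B.relIndex A := by
    have h0 := Subgroup.relIndex_sup_right (K := B.subgroupOf (A ⊔ B)) (H := A.subgroupOf (A ⊔ B))
    rw [← Subgroup.subgroupOf_sup le_sup_left le_sup_right, Subgroup.subgroupOf_self, Subgroup.relIndex_top_right,
      Subgroup.relIndex_subgroupOf le_sup_left] at h0
    exact h0
  have h2 := CfsgLib.Products.card_mul_relIndex_of_le (le_sup_right : B ≤ A ⊔ B)
  have h3 := CfsgLib.Products.card_inf_mul_relIndex B A
  rw [h1] at h2
  rw [← h2, ← h3, inf_comm]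
  ring

variable {M : Type u} [Group M] [Finite M]

theorem map_conj_le_normal {N : Subgroup M} (hN : N.Normal) (g : M) :
    N.map (MulAut.conj g).toMonoidHom ≤ N := by
  rintro _ ⟨x, hx, rfl⟩; exact hN.conj_mem x hx g

theorem normal_of_conj {N : Subgroup M} (h : ∀ g : M, N.map (MulAut.conj g).toMonoidHom = N) : N.Normal :=
  ⟨fun n hn g => (h g).le ⟨n, hn, rfl⟩⟩

theorem thompsonOf_le (T : Sylow 2 M) : thompsonSubgroupOf 2 (T : Subgroup M) ≤ thompsonSubgroup 2 M :=
  PLocal.thompsonSubgroupOf_le T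

theorem isPGroup_thompsonOf (T : Sylow 2 M) : IsPGroup 2 ↥(thompsonSubgroupOf 2 (T : Subgroup M)) :=
  T.isPGroup'.to_le (Subgroup.map_subtype_le _)

theorem core_le_normalizer_thompsonOf (T : Sylow 2 M) :
    pCore 2 M ≤ Subgroup.normalizer (thompsonSubgroupOf 2 (T : Subgroup M) : Set M) := by
  refine (CfsgLib.pCore_le_sylow T).trans fun t ht => ?_
  haveI : (thompsonSubgroup 2 ↥(T : Subgroup M)).Normal := thompsonSubgroup_normal'
  have h : (⟨t, ht⟩ : ↥(T : Subgroup M)) ∈ Subgroup.normalizer (thompsonSubgroup 2 ↥(T : Subgroup M) : Set ↥(T : Subgroup M)) := by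
    rw [Subgroup.normalizer_eq_top]; exact Subgroup.mem_top _
  exact Subgroup.le_normalizer_map (T : Subgroup M).subtype ⟨_, h, rfl⟩

/-- All the facts about a component. -/
structure Facts (K : Subgroup M) (x a : M) : Prop where
  pre : Pre x a
  inY : x ∈ (pCore 3 (M ⧸ cee M)).comap (QuotientGroup.mk' (cee M))
  xK : x ∈ K
  sup : K ⊔ pCore 2 M = Subgroup.zpowers x ⊔ pCore 2 M
  gen : oddGen K = K
  normQ : pCore 2 M ≤ Subgroup.normalizer (K : Set M)
  range : (mv (act M x)).range.map (vee M).subtype = wOf K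

theorem exists_gen {K : Subgroup M} (hidx : (pCoreOf 2 K).relIndex K = 3) :
    ∃ x ∈ K, x ∉ pCoreOf 2 K ∧ x ^ 3 ∈ pCoreOf 2 K ∧ ∀ k ∈ K, ∃ i : ℤ, (x ^ i)⁻¹ * k ∈ pCoreOf 2 K := by
  set O := pCore 2 ↥K with hO
  have hOK : (pCoreOf 2 K).subgroupOf K = O := Subgroup.comap_map_eq_self_of_injective K.subtype_injective _
  have hc : Nat.card (↥K ⧸ O) = 3 := by
    rw [← Subgroup.index_eq_card, ← hOK]; exact hidx
  haveI : IsCyclic (↥K ⧸ O) := isCyclic_of_prime_card hc
  obtain ⟨g, hg⟩ := IsCyclic.exists_generator (α := ↥K ⧸ O)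
  obtain ⟨y, rfl⟩ := QuotientGroup.mk'_surjective O g
  have hmem : ∀ k : ↥K, QuotientGroup.mk' O k = 1 ↔ (k : M) ∈ pCoreOf 2 K := fun k => by
    refine (QuotientGroup.eq_one_iff k).trans ⟨fun h => ⟨k, h, rfl⟩, ?_⟩
    rintro ⟨u, hu, e⟩
    rwa [← Subtype.ext e]
  refine ⟨y, y.2, fun hy => ?_, ?_, fun k hk => ?_⟩
  · have h1 := (hmem y).mpr hy
    have htop : ∀ z : ↥K ⧸ O, z = 1 := fun z => by
      obtain ⟨i, rfl⟩ := Subgroup.mem_zpowers_iff.mp (hg z)
      rw [h1, one_zpow]
    have : Nat.card (↥K ⧸ O) = 1 := Nat.card_eq_one_iff_unique.mpr ⟨⟨fun z w => (htop z).trans (htop w).symm⟩, ⟨1⟩⟩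
    omega
  · have h3 : QuotientGroup.mk' O (y ^ 3) = 1 := by rw [map_pow, ← hc, pow_card_eq_one']
    exact (hmem _).mp h3
  · obtain ⟨i, hi⟩ := Subgroup.mem_zpowers_iff.mp (hg (QuotientGroup.mk' O ⟨k, hk⟩))
    exact ⟨i, (hmem ((y ^ i)⁻¹ * ⟨k, hk⟩)).mp (by rw [map_mul, map_inv, map_zpow, hi, inv_mul_cancel])⟩

theorem exists_facts (hM : Over M) (T : Sylow 2 M) {K : Subgroup M}
    (hK : IsComp (thompsonSubgroupOf 2 (T : Subgroup M)) K) : ∃ x a, Facts K x a := by
  classical
  haveI := thompsonSubgroup_normal' (G := M) (p := 2)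
  set J := thompsonSubgroupOf 2 (T : Subgroup M) with hJ
  set O := pCoreOf 2 K with hO
  set Q := pCore 2 M with hQ
  set Y := (pCore 3 (M ⧸ cee M)).comap (QuotientGroup.mk' (cee M)) with hY
  have hJK := le_normalizer_of_commutator_eq hK.comm
  have hKJ : K ≤ thompsonSubgroup 2 M :=
    hK.comm.ge.trans ((Subgroup.commutator_mono le_rfl (thompsonOf_le T)).trans (Subgroup.commutator_le_right K _))
  have hKY : K ≤ Y := by
    refine hK.gen.ge.trans ((Subgroup.closure_le _).mpr fun k hk => hM.odd_mem (hKJ hk.1) hk.2)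
  have hOp : IsPGroup 2 ↥O := (CfsgLib.isPGroup_pCore 2).map _
  have hOC : O ≤ cee M := fun o ho => by
    obtain ⟨n, hn⟩ := hOp ⟨o, ho⟩
    have hn' : o ^ 2 ^ n = 1 := congrArg Subtype.val hn
    obtain ⟨m, hm⟩ := CfsgLib.isPGroup_pCore (G := M ⧸ cee M) 3 ⟨_, hKY (Subgroup.map_subtype_le _ ho)⟩
    set z := QuotientGroup.mk' (cee M) o with hz
    have h2 : z ^ 2 ^ n = 1 := by rw [hz, ← map_pow, hn', map_one]
    have h3 : z ^ 3 ^ m = 1 := congrArg Subtype.val hm
    have hodd : Odd (orderOf z) := ((by decide : Odd 3).pow).of_dvd_nat (orderOf_dvd_of_pow_eq_one h3)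
    exact (QuotientGroup.eq_one_iff o).mp (pow_eq_one_of_two hodd h2)
  have hOQ : O ≤ Q := fun o ho => by
    obtain ⟨n, hn⟩ := hOp ⟨o, ho⟩
    exact hM.two_cee (hOC ho) (congrArg Subtype.val hn)
  have hQK : Q ≤ Subgroup.normalizer (K : Set M) :=
    le_normalizer_of_component hK.gen hK.comm (isPGroup_thompsonOf T)
      (by rw [Subgroup.normalizer_eq_top]; exact le_top) (core_le_normalizer_thompsonOf T)
  obtain ⟨x, hxK, hxO, hx3, hgenx⟩ := exists_gen hK.idx
  have hxC : x ∉ cee M := by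
    intro hx
    have hKC : K ≤ cee M := fun k hk => by
      obtain ⟨i, hi⟩ := hgenx k hk
      have := (cee M).mul_mem ((cee M).zpow_mem hx i) (hOC hi)
      rwa [mul_inv_cancel_left] at this
    have hKQ : K ≤ Q := hK.comm.ge.trans (by
      rw [Subgroup.commutator_le]
      intro k hk j hj
      have h := hM.comm_cee (hKC hk) (thompsonOf_le T hj)
      rw [← inv_mem_iff, commutatorElement_def]
      rwa [show (k * j * k⁻¹ * j⁻¹)⁻¹ = j * k * j⁻¹ * k⁻¹ by group])
    have hbot : K = ⊥ := by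
      rw [← hK.gen, oddGen, Subgroup.closure_eq_bot_iff]
      rintro k ⟨hk, hodd⟩
      obtain ⟨n, hn⟩ := CfsgLib.isPGroup_pCore (G := M) 2 ⟨k, hKQ hk⟩
      exact pow_eq_one_of_two hodd (congrArg Subtype.val hn)
    refine hxO ?_
    rw [hbot, Subgroup.mem_bot] at hxK
    rw [hxK]; exact one_mem _
  -- the commutators of `x` on `V`
  set U := omegaCenterOf O with hU
  set R := (mv (act M x)).range with hR
  have hx3' : act M x ^ 3 = 1 := by rw [← map_pow]; exact act_eq_one.mpr (hOC hx3)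
  have hVQ : vee M ≤ Q := vee_gen_le.trans inf_le_left
  have hKVO : K ⊓ vee M ≤ O := by
    haveI : ((vee M).subgroupOf K).Normal := (inferInstance : (vee M).Normal).comap _
    have hp : IsPGroup 2 ↥((vee M).subgroupOf K) :=
      (isPGroup_two_of_sq vee_elem.2).comap_of_injective K.subtype K.subtype_injective
    intro v hv
    exact ⟨⟨v, hv.1⟩, CfsgLib.le_pCore hp hv.2, rfl⟩
  have hRU : R.map (vee M).subtype ≤ U := by
    rintro _ ⟨_, ⟨v, rfl⟩, rfl⟩
    set r := mv (act M x) v with hr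
    have hrK : ((r : ↥(vee M)) : M) ∈ K := by
      rw [hr, mv_act_coe]
      have h1 := (Subgroup.mem_normalizer_iff.mp (hQK (hVQ v.2)) x⁻¹).mp (inv_mem hxK)
      have := mul_mem hxK h1
      rwa [← mul_assoc, ← mul_assoc] at this
    refine Subgroup.subset_closure ⟨⟨hKVO ⟨hrK, r.2⟩, fun o ho => (vee_gen_le r.2).2 o (hOQ ho)⟩, ?_⟩
    exact vee_elem.2 _ r.2
  have hRW : R.map (vee M).subtype ≤ wOf K := by
    -- `v ↦ [x,v]` is a permutation of the image
    have hsurj : ∀ r ∈ R, ∃ r' ∈ R, mv (act M x) r' = r := by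
      intro r hr
      let F : ↥R → ↥R := fun u => ⟨mv (act M x) u, ⟨_, rfl⟩⟩
      have hinj : Function.Injective F := by
        intro u w h
        have h' : mv (act M x) ((u : ↥(vee M)) * (w : ↥(vee M))⁻¹) = 1 := by
          rw [map_mul, map_inv, show mv (act M x) (u : ↥(vee M)) = mv (act M x) w from congrArg Subtype.val h, mul_inv_cancel]
        have := range_fpf (vee_sq (M := M)) hx3' (R.mul_mem u.2 (R.inv_mem w.2)) (mul_inv_eq_one.mp h')
        exact Subtype.ext (mul_inv_eq_one.mp this)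
      obtain ⟨u, hu⟩ := Finite.surjective_of_injective hinj ⟨r, hr⟩
      exact ⟨u, u.2, congrArg Subtype.val hu⟩
    rintro _ ⟨r, hr, rfl⟩
    obtain ⟨r', hr', rfl⟩ := hsurj r hr
    have hU' := hRU ⟨r', hr', rfl⟩
    have hmem : ⁅((r' : ↥(vee M)) : M), x⁆ ∈ wOf K := Subgroup.commutator_mem_commutator hU' hxK
    have e : ((mv (act M x) r' : ↥(vee M)) : M) = (⁅((r' : ↥(vee M)) : M), x⁆)⁻¹ := by
      rw [mv_act_coe, commutatorElement_def]; group
    show ((mv (act M x) r' : ↥(vee M)) : M) ∈ wOf K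
    rw [e]; exact inv_mem hmem
  have hR4 : Nat.card R = 4 := by
    have hd : Nat.card R ∣ 4 := by
      rw [← hK.card, ← Subgroup.card_map_of_injective (vee M).subtype_injective (K := R)]
      exact Subgroup.card_dvd_of_le hRW
    have hne1 : Nat.card R ≠ 1 := by
      intro h
      have : R = ⊥ := Subgroup.eq_bot_of_card_eq R h
      refine hxC (act_eq_one.mp (MulEquiv.ext fun v => ?_))
      have h1 : mv (act M x) v ∈ R := ⟨v, rfl⟩
      rw [this, Subgroup.mem_bot] at h1
      exact mul_inv_eq_one.mp h1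
    rcases (Nat.dvd_prime_pow Nat.prime_two).mp (show Nat.card R ∣ 2 ^ 2 from hd) with ⟨j, hj, hj2⟩
    rcases (show j = 0 ∨ j = 1 ∨ j = 2 by omega) with rfl | rfl | rfl
    · exact absurd hj2 hne1
    · exfalso
      haveI : Nontrivial ↥R := Finite.one_lt_card_iff_nontrivial.mp (by rw [hj2]; norm_num)
      obtain ⟨⟨r, hr⟩, hr1⟩ := exists_ne (1 : ↥R)
      have hr1' : r ≠ 1 := fun e => hr1 (Subtype.ext e)
      obtain ⟨v, rfl⟩ := hr
      have hxr : act M x (mv (act M x) v) ∈ R := ⟨act M x v, by simp [mv_apply, map_mul, map_inv]⟩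
      have hne : act M x (mv (act M x) v) ≠ mv (act M x) v := fun e => hr1' (range_fpf (vee_sq (M := M)) hx3' ⟨v, rfl⟩ e)
      have h3 : ({1, mv (act M x) v, act M x (mv (act M x) v)} : Finset ↥(vee M)).card = 3 := by
        rw [Finset.card_insert_of_notMem, Finset.card_pair hne.symm]
        simp only [Finset.mem_insert, Finset.mem_singleton, not_or]
        exact ⟨hr1'.symm, fun e => hr1' ((act M x).injective (by rw [← e, map_one]))⟩
      have hle : Nat.card ({1, mv (act M x) v, act M x (mv (act M x) v)} : Finset ↥(vee M)) ≤ Nat.card R := by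
        refine Nat.card_le_card_of_injective (fun t => (⟨t.1, ?_⟩ : ↥R)) fun a b e => Subtype.ext (by simpa using e)
        have ht := t.2
        simp only [Finset.mem_insert, Finset.mem_singleton] at ht
        rcases ht with e | e | e <;> rw [e]
        exacts [one_mem _, ⟨v, rfl⟩, hxr]
      rw [Nat.card_eq_fintype_card, Fintype.card_coe, h3, hj2] at hle
      omega
    · exact hj2
  have hRWeq : R.map (vee M).subtype = wOf K :=
    Subgroup.eq_of_le_of_card_ge hRW (by rw [hK.card, Subgroup.card_map_of_injective (vee M).subtype_injective, hR4])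
  -- `K` normalises `W`
  have hKW : K ≤ Subgroup.normalizer (wOf K : Set M) := Subgroup.normalizer_commutator_ge_right _ _
  -- a transvection moving `W`
  obtain ⟨A, hA, hAJ, a, haA, hatv, haW⟩ : ∃ A, A ∈ maxElementaryAbelianSubgroups 2 M ∧ A ≤ J ∧
      ∃ a ∈ A, IsTv (vee M) a ∧ a ∉ Subgroup.centralizer (wOf K : Set M) := by
    by_contra hall
    push Not at hall
    have hJW : J ≤ Subgroup.centralizer (wOf K : Set M) := by
      rw [hJ, thompsonSubgroupOf, Subgroup.map_le_iff_le_comap]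
      refine sSup_le fun A0 hA0 => ?_
      rw [← Subgroup.map_le_iff_le_comap]
      have hmax := PLocal.map_mem_max hA0
      have hle : A0.map (T : Subgroup M).subtype ≤ J := Subgroup.map_mono (le_sSup hA0)
      refine max_le_of_tv vee_elem hM.psolv hM.core_quot hmax (fun y hy => ?_) fun y hy htv =>
        hall _ hmax hle y hy htv
      exact Subgroup.centralizer_le (fun w hw => by
        rw [← hRWeq] at hw; obtain ⟨r, -, rfl⟩ := hw; exact r.2) hy.2
    have hKW' : K ≤ Subgroup.centralizer (wOf K : Set M) := hK.comm.ge.trans (by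
      rw [Subgroup.commutator_le]
      intro k hk j hj
      rw [commutatorElement_def, show k * j * k⁻¹ * j⁻¹ = (k * j * k⁻¹) * j⁻¹ from rfl]
      refine mul_mem ?_ (inv_mem (hJW hj))
      intro w hw
      have h1 := hJW hj (k⁻¹ * w * k) (by
        have := (Subgroup.mem_normalizer_iff.mp (inv_mem (hKW hk)) w).mp hw
        rwa [inv_inv] at this)
      calc w * (k * j * k⁻¹) = k * (k⁻¹ * w * k * j) * k⁻¹ := by group
        _ = k * (j * (k⁻¹ * w * k)) * k⁻¹ := by rw [h1]
        _ = k * j * k⁻¹ * w := by group)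
    haveI : Nontrivial ↥R := Finite.one_lt_card_iff_nontrivial.mp (by rw [hR4]; norm_num)
    obtain ⟨⟨r, hr⟩, hr1⟩ := exists_ne (1 : ↥R)
    refine hr1 (Subtype.ext (range_fpf (vee_sq (M := M)) hx3' hr ?_))
    refine Subtype.ext ?_
    show ((act M x r : ↥(vee M)) : M) = r
    rw [MulAut.conjNormal_apply, ← (hKW' hxK) r (hRWeq ▸ ⟨r, hr, rfl⟩), mul_inv_cancel_right]
  have ha2 : a * a = 1 := by rw [← pow_two]; exact hA.1.2 a haA
  have haJ : a ∈ J := hAJ haA
  -- `a` inverts `x`
  obtain ⟨i, hi⟩ := hgenx (a * x * a⁻¹) ((Subgroup.mem_normalizer_iff.mp (hJK haJ) x).mp hxK)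
  have haWn : ∀ w ∈ wOf K, a * w * a⁻¹ ∈ wOf K := by
    intro w hw
    have hJU : ∀ u ∈ U, a * u * a⁻¹ ∈ U := by
      intro u hu
      have hmO : ∀ o ∈ O, a * o * a⁻¹ ∈ O := fun o ho => by
        have hc : (pCoreOf 2 K).map (MulAut.conj a).toMonoidHom = pCoreOf 2 (K.map (MulAut.conj a).toMonoidHom) :=
          (pCoreOf_map _ (MulEquiv.injective (MulAut.conj a)) K).symm
        rw [Local.map_conj_eq_of_mem_normalizer (hJK haJ)] at hc
        exact hc.le ⟨o, ho, rfl⟩
      have : U ≤ U.comap (MulAut.conj a).toMonoidHom := (Subgroup.closure_le _).mpr fun y hy => by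
        refine Subgroup.subset_closure ⟨⟨hmO y hy.1.1, fun o ho => ?_⟩, ?_⟩
        · have hO' : a⁻¹ * o * a ∈ O := by
            have := hmO o ho
            rwa [inv_eq_of_mul_eq_one_right ha2] at this ⊢
          calc o * (a * y * a⁻¹) = a * ((a⁻¹ * o * a) * y) * a⁻¹ := by group
            _ = a * (y * (a⁻¹ * o * a)) * a⁻¹ := by rw [hy.1.2 _ hO']
            _ = a * y * a⁻¹ * o := by group
        · show (a * y * a⁻¹) ^ 2 = 1
          rw [conj_pow, hy.2, mul_one, mul_inv_cancel]
      exact this hu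
    have : wOf K ≤ (wOf K).comap (MulAut.conj a).toMonoidHom := by
      rw [wOf, Subgroup.commutator_le]
      intro u hu k hk
      show a * ⁅u, k⁆ * a⁻¹ ∈ ⁅omegaCenterOf (pCoreOf 2 K), K⁆
      rw [show a * ⁅u, k⁆ * a⁻¹ = ⁅a * u * a⁻¹, a * k * a⁻¹⁆ by simp only [commutatorElement_def]; group]
      exact Subgroup.commutator_mem_commutator (hJU u hu) ((Subgroup.mem_normalizer_iff.mp (hJK haJ) k).mp hk)
    exact this hw
  have hsmall : (mv (act M a)).range ≤ R := by
    -- the image of `a` has order two and meets `W`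
    obtain ⟨w, hw, hwne⟩ : ∃ w ∈ wOf K, a * w * a⁻¹ ≠ w := by
      by_contra hall
      push Not at hall
      exact haW fun w hw => (mul_inv_eq_iff_eq_mul.mp (hall w hw)).symm
    have hwR := hw
    rw [← hRWeq] at hwR
    obtain ⟨r, hr, rfl⟩ := hwR
    have hm : mv (act M a) r ∈ R := by
      have h1 : ((act M a r : ↥(vee M)) : M) ∈ R.map (vee M).subtype := by
        rw [hRWeq, MulAut.conjNormal_apply]; exact haWn _ hw
      obtain ⟨r2, hr2, e⟩ := h1
      rw [mv_apply, ← Subtype.ext (show ((r2 : ↥(vee M)) : M) = _ from e)]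
      exact mul_mem hr2 (inv_mem hr)
    have hne : mv (act M a) r ≠ 1 := fun e => hwne (by
      have := congrArg Subtype.val (mul_inv_eq_one.mp e)
      rwa [MulAut.conjNormal_apply] at this)
    have hcard : Nat.card (mv (act M a)).range = 2 := by
      have h1 := Subgroup.card_mul_index (mv (act M a)).ker
      rw [Subgroup.index_ker] at h1
      have hk : Nat.card (mv (act M a)).ker = Nat.card ↥(vee M ⊓ Subgroup.centralizer ({a} : Set M)) := by
        refine Nat.card_congr ⟨fun v => ⟨v.1.1, v.1.2, ?_⟩, fun v => ⟨⟨v.1, v.2.1⟩, ?_⟩, fun v => rfl, fun v => rfl⟩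
        · have h2 := congrArg Subtype.val (mul_inv_eq_one.mp (show act M a v.1 * (v.1)⁻¹ = 1 from v.2))
          rw [MulAut.conjNormal_apply] at h2
          exact Subgroup.mem_centralizer_singleton_iff.mpr (mul_inv_eq_iff_eq_mul.mp h2).symm
        · refine mul_inv_eq_one.mpr (Subtype.ext ?_)
          rw [MulAut.conjNormal_apply]
          exact mul_inv_eq_iff_eq_mul.mpr (Subgroup.mem_centralizer_singleton_iff.mp v.2.2).symm
      rw [hk] at h1
      have h3 : 2 * Nat.card ↥(vee M ⊓ Subgroup.centralizer ({a} : Set M)) = Nat.card ↥(vee M) := hatv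
      rw [← h3, mul_comm 2] at h1
      exact Nat.eq_of_mul_eq_mul_left Nat.card_pos h1
    refine le_of_le_of_eq (le_of_eq (Subgroup.eq_of_le_of_card_ge (inf_le_left : (mv (act M a)).range ⊓ R ≤ _) ?_).symm) rfl |>.trans inf_le_right
    rw [hcard]
    haveI : Nontrivial ↥((mv (act M a)).range ⊓ R) := ⟨⟨⟨_, ⟨r, rfl⟩, hm⟩, 1, fun e => hne (congrArg Subtype.val e)⟩⟩
    exact Finite.one_lt_card_iff_nontrivial.mpr this
  have hinv : a * x * a⁻¹ * x ∈ Q := by
    have hmod : (i % 3 = 0 ∨ i % 3 = 1 ∨ i % 3 = 2) := by omega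
    have hx3i : ∀ j : ℤ, (x ^ (3 * j)) ∈ O := fun j => by
      rw [zpow_mul]; exact O.zpow_mem (by exact_mod_cast hx3) j
    have hi' : (x ^ (i % 3))⁻¹ * (a * x * a⁻¹) ∈ O := by
      have e : x ^ i = x ^ (i % 3) * x ^ (3 * (i / 3)) := by rw [← zpow_add, Int.emod_add_mul_ediv]
      have := O.mul_mem (hx3i (i / 3)) hi
      rwa [e, mul_inv_rev, ← mul_assoc, mul_inv_cancel_left] at this
    rcases hmod with e | e | e <;> rw [e] at hi'
    · exfalso
      simp only [zpow_zero, inv_one, one_mul] at hi'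
      have hn : x ∈ cee M := by
        have h1 := hOC hi'
        have := (inferInstance : (cee M).Normal).conj_mem _ h1 a⁻¹
        rwa [show a⁻¹ * (a * x * a⁻¹) * a⁻¹⁻¹ = x by group] at this
      exact hxC hn
    · exfalso
      rw [zpow_one] at hi'
      have hcomm : act M a * act M x = act M x * act M a := by
        have h1 := act_eq_one.mpr (hOC hi')
        rw [map_mul, map_mul, map_mul, map_inv, map_inv, inv_mul_eq_one] at h1
        exact (mul_inv_eq_iff_eq_mul.mp h1.symm)
      obtain ⟨v, hv⟩ : ∃ v, mv (act M a) v ≠ 1 := by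
        by_contra hall
        push Not at hall
        refine haW (Subgroup.centralizer_le (fun w hw => ?_) (act_eq_one.mp (MulEquiv.ext fun v => mul_inv_eq_one.mp (hall v))))
        rw [← hRWeq] at hw; obtain ⟨r, -, rfl⟩ := hw; exact r.2
      set r0 := mv (act M a) v with hr0
      have hr0R : r0 ∈ R := hsmall ⟨v, rfl⟩
      have haa : ∀ u, act M a (act M a u) = u := fun u =>
        DFunLike.congr_fun (show act M a * act M a = 1 by rw [← map_mul, ha2, map_one]) u
      have hfixr : act M a r0 = r0 := by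
        rw [hr0, mv_apply, map_mul, map_inv, haa, inv_self (vee_sq (M := M)), inv_self (vee_sq (M := M)), mul_comm]
      have hfx : act M a (act M x r0) = act M x r0 := by
        have := DFunLike.congr_fun hcomm r0
        exact this.trans (congrArg (act M x) hfixr)
      have hfxx : act M a (act M x (act M x r0)) = act M x (act M x r0) := by
        have := DFunLike.congr_fun hcomm (act M x r0)
        exact this.trans (congrArg (act M x) hfx)
      refine haW fun w hw => ?_
      rw [← hRWeq] at hw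
      obtain ⟨r, hr, rfl⟩ := hw
      have har : act M a r = r := by
        rcases fixed_of_nonid hx3' rfl hR4 hr0R hv r hr with e | e | e | e <;> rw [e]
        exacts [map_one _, hfixr, hfx, hfxx]
      have := congrArg Subtype.val har
      rw [MulAut.conjNormal_apply] at this
      exact (mul_inv_eq_iff_eq_mul.mp this).symm
    · have h4 : (x ^ (2 : ℤ)) * ((x ^ (2 : ℤ))⁻¹ * (a * x * a⁻¹)) * (x ^ (2 : ℤ))⁻¹ * (x ^ (2 : ℤ) * x) ∈ Q := by
        refine mul_mem ((inferInstance : Q.Normal).conj_mem _ (hOQ hi') _) ?_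
        refine hOQ ?_
        rw [← zpow_add_one]; norm_num; exact_mod_cast hx3
      rwa [show (x ^ (2 : ℤ)) * ((x ^ (2 : ℤ))⁻¹ * (a * x * a⁻¹)) * (x ^ (2 : ℤ))⁻¹ * (x ^ (2 : ℤ) * x) = a * x * a⁻¹ * x by group] at h4
  have hsup : K ⊔ Q = Subgroup.zpowers x ⊔ Q := by
    refine le_antisymm (sup_le (fun k hk => ?_) le_sup_right)
      (sup_le ((Subgroup.zpowers_le.mpr hxK).trans le_sup_left) le_sup_right)
    obtain ⟨j, hj⟩ := hgenx k hk
    have := Subgroup.mul_mem_sup (Subgroup.zpow_mem _ (Subgroup.mem_zpowers x) j) (hOQ hj)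
    rwa [mul_inv_cancel_left] at this
  refine ⟨x, a, ⟨⟨hKJ hxK, hOQ hx3, hxC, hR4, thompsonOf_le T haJ, ha2, fun h => haW ?_, hinv, hsmall⟩,
    hKY hxK, hxK, hsup, hK.gen, hQK, hRWeq⟩⟩
  exact Subgroup.centralizer_le (fun w hw => by rw [← hRWeq] at hw; obtain ⟨r, -, rfl⟩ := hw; exact r.2) h

namespace Over

variable (hM : Over M)
include hM

/-- Components whose four groups are close are equal. -/
theorem comp_eq (T T' : Sylow 2 M) {K K' : Subgroup M} (hK : IsComp (thompsonSubgroupOf 2 (T : Subgroup M)) K)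
    (hK' : IsComp (thompsonSubgroupOf 2 (T' : Subgroup M)) K') (hsum : Nat.card ↥(wOf K ⊔ wOf K') ≤ 8) : K = K' := by
  obtain ⟨x, a, F⟩ := exists_facts hM T hK
  obtain ⟨x', a', F'⟩ := exists_facts hM T' hK'
  have hs : Nat.card ↥((mv (act M x)).range ⊔ (mv (act M x')).range) ≤ 8 := by
    rw [← Subgroup.card_map_of_injective (vee M).subtype_injective
      (K := (mv (act M x)).range ⊔ (mv (act M x')).range), Subgroup.map_sup, F.range, F'.range]
    exact hsum
  have h1 := Pre.mem_of_small hM F.pre F'.pre F.inY F'.inY hs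
  have h2 := Pre.mem_of_small hM F'.pre F.pre F'.inY F.inY (by rw [sup_comm]; exact hs)
  have heq : K ⊔ pCore 2 M = K' ⊔ pCore 2 M := by
    rw [F.sup, F'.sup]
    exact le_antisymm (sup_le (Subgroup.zpowers_le.mpr h2) le_sup_right) (sup_le (Subgroup.zpowers_le.mpr h1) le_sup_right)
  rw [← oddGen_eq_of_sup F.gen (CfsgLib.isPGroup_pCore 2) F.normQ,
    ← oddGen_eq_of_sup F'.gen (CfsgLib.isPGroup_pCore 2) F'.normQ, heq]

/-- Components are subnormal. -/
theorem comp_subnormal (T : Sylow 2 M) {K : Subgroup M} (hK : IsComp (thompsonSubgroupOf 2 (T : Subgroup M)) K) :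
    K.IsSubnormal := by
  obtain ⟨x, a, F⟩ := exists_facts hM T hK
  set q := QuotientGroup.mk' (cee M) with hq
  set Xb := Subgroup.zpowers (q x) with hXb
  have hP : Xb ≤ pCore 3 (M ⧸ cee M) := Subgroup.zpowers_le.mpr F.inY
  haveI : Group.IsNilpotent ↥(pCore 3 (M ⧸ cee M)) := (CfsgLib.isPGroup_pCore 3).isNilpotent
  have hsn : Xb.IsSubnormal := Subgroup.IsSubnormal.trans hP (CfsgLib.isSubnormal_of_nilpotent _)
    (Subgroup.Normal.isSubnormal inferInstance)
  have hcomap : Xb.comap q = K ⊔ cee M := by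
    have hQC : pCore 2 M ≤ cee M := core_le_cee
    have e : K ⊔ cee M = Subgroup.zpowers x ⊔ cee M := by
      calc K ⊔ cee M = (K ⊔ pCore 2 M) ⊔ cee M := by rw [sup_assoc, sup_eq_right.mpr hQC]
        _ = _ := by rw [F.sup, sup_assoc, sup_eq_right.mpr hQC]
    rw [e, hXb, ← MonoidHom.map_zpowers, Subgroup.comap_map_eq, QuotientGroup.ker_mk']
  refine Subgroup.IsSubnormal.step K (K ⊔ cee M) le_sup_left (hcomap ▸ hsn.comap q) ?_
  refine (Subgroup.normal_subgroupOf_iff_le_normalizer le_sup_left).mpr (sup_le Subgroup.le_normalizer fun c hc => ?_)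
  refine mem_normalizer_of_conj_mem fun k hk => ?_
  have hle : oddGen K ≤ K.comap (MulAut.conj c).toMonoidHom := (Subgroup.closure_le _).mpr fun y hy => by
    show c * y * c⁻¹ ∈ K
    have hy' : y ∈ thompsonSubgroup 2 M := by
      have h1 := hK.comm.ge hy.1
      haveI := thompsonSubgroup_normal' (G := M) (p := 2)
      exact (Subgroup.commutator_mono le_rfl (thompsonOf_le T)).trans (Subgroup.commutator_le_right K _) h1
    have h2 := hM.comm_cee hc hy'
    have h3 : c * y * c⁻¹ ∈ K ⊔ pCore 2 M := by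
      have e : c * y * c⁻¹ = (y * c * y⁻¹ * c⁻¹)⁻¹ * y := by group
      rw [e]; exact mul_mem (inv_mem (Subgroup.mem_sup_right h2)) (Subgroup.mem_sup_left hy.1)
    exact odd_mem_of_sup (CfsgLib.isPGroup_pCore 2) F.normQ h3 (by rw [orderOf_conj_eq]; exact hy.2)
  exact hle (hK.gen.symm ▸ hk)

/-- A component with a central involution in its four group is normalised by `T`. -/
theorem comp_sylow_le_normalizer (T : Sylow 2 M) {K : Subgroup M} (hK : IsComp (thompsonSubgroupOf 2 (T : Subgroup M)) K)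
    (hZ : (T : Subgroup M) ⊓ Subgroup.centralizer ((T : Subgroup M) : Set M) ⊓ wOf K ≠ ⊥) :
    (T : Subgroup M) ≤ Subgroup.normalizer (K : Set M) := by
  intro t ht
  set f := (MulAut.conj t).toMonoidHom with hf
  have hinj : Function.Injective f := MulEquiv.injective (MulAut.conj t)
  have hTt : (T : Subgroup M).map f = T := Local.map_conj_eq_of_mem_normalizer (Subgroup.le_normalizer ht)
  have hK' : IsComp (thompsonSubgroupOf 2 (T : Subgroup M)) (K.map f) := by
    have := (isComp_map_iff f hinj _ K).mpr hK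
    rwa [← thompsonOf_map f hinj, hTt] at this
  refine Local.mem_normalizer_of_map_conj_eq (hM.comp_eq T T hK' hK ?_)
  obtain ⟨⟨w, hw⟩, hw1⟩ := Subgroup.ne_bot_iff_exists_ne_one.mp hZ
  set W := wOf K with hW
  have hwt : w ∈ wOf (K.map f) := by
    rw [wOf_map f hinj]
    refine ⟨w, hw.2, ?_⟩
    show t * w * t⁻¹ = w
    rw [hw.1.2 t ht, mul_inv_cancel_right]
  obtain ⟨x, a, F⟩ := exists_facts hM T hK
  obtain ⟨x', a', F'⟩ := exists_facts hM T hK'
  have hint : 2 ≤ Nat.card ↥(wOf (K.map f) ⊓ W) := by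
    haveI : Nontrivial ↥(wOf (K.map f) ⊓ W) := ⟨⟨⟨w, hwt, hw.2⟩, 1, fun e => hw1 (Subtype.ext (show w = 1 from congrArg Subtype.val e))⟩⟩
    exact Finite.one_lt_card_iff_nontrivial.mpr this
  -- the join of two commuting four groups
  have hV1 : wOf (K.map f) ≤ vee M := F'.range ▸ Subgroup.map_subtype_le _
  have hV2 : W ≤ vee M := by rw [hW, ← F.range]; exact Subgroup.map_subtype_le _
  have hn : wOf (K.map f) ≤ Subgroup.normalizer (W : Set M) := fun u hu =>
    mem_normalizer_of_conj_mem fun z hz => by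
      rw [elem_comm vee_elem (hV1 hu) (hV2 hz), mul_inv_cancel_right]; exact hz
  have hcard : Nat.card ↥(wOf (K.map f) ⊔ W) * Nat.card ↥(wOf (K.map f) ⊓ W) = Nat.card ↥(wOf (K.map f)) * Nat.card W := by
    exact card_sup_mul_card_inf hn
  rw [hK'.card, hK.card] at hcard
  by_contra h9
  push Not at h9
  nlinarith

/-- A component with normal four group is normal. -/
theorem comp_normal (T : Sylow 2 M) {K : Subgroup M} (hK : IsComp (thompsonSubgroupOf 2 (T : Subgroup M)) K)
    (hW : (wOf K).Normal) : K.Normal := by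
  refine normal_of_conj fun g => ?_
  set f := (MulAut.conj g).toMonoidHom with hf
  have hinj : Function.Injective f := MulEquiv.injective (MulAut.conj g)
  have hK' : IsComp (thompsonSubgroupOf 2 ((g • T : Sylow 2 M) : Subgroup M)) (K.map f) := by
    have := (isComp_map_iff f hinj _ K).mpr hK
    rwa [← thompsonOf_map f hinj] at this
  refine hM.comp_eq _ T hK' hK ?_
  rw [wOf_map f hinj, sup_eq_right.mpr (map_conj_le_normal hW g), hK.card]
  norm_num

end Over

end CfsgLib.JComp
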