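import Mathlib
import Cfsg.Agent.Lib.JComp.Comp

/-!
From members of `ℒ(T)` in an ambient group to the abstract setting.
-/

set_option autoImplicit false
set_option linter.unusedSectionVars false

universe u

namespace CfsgLib.JComp

open Cfsg CfsgLib.PLocal CfsgLib.Offender

variable {G : Type u} [Group G] [Finite G]

theorem isComp_of_isJComponent {T K : Subgroup G} (h : IsJComponent T K) : IsComp (thompsonSubgroupOf 2 T) K :=
  ⟨h.1, h.2.1, h.2.2.1, h.2.2.2.2.1⟩

theorem omegaCenterOf_le (X : Subgroup G) : omegaCenterOf X ≤ X :=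
  (Subgroup.closure_le _).mpr fun _ hx => hx.1.1

theorem pCoreOf_le' (X : Subgroup G) : pCoreOf 2 X ≤ X := Subgroup.map_subtype_le _

theorem isPGroup_pCoreOf (X : Subgroup G) : IsPGroup 2 ↥(pCoreOf 2 X) := (CfsgLib.isPGroup_pCore 2).map _

theorem le_normalizer_pCoreOf' (X : Subgroup G) : X ≤ Subgroup.normalizer (pCoreOf 2 X : Set G) := by
  intro x hx
  have h : (⟨x, hx⟩ : ↥X) ∈ Subgroup.normalizer (pCore 2 ↥X : Set ↥X) := by
    rw [Subgroup.normalizer_eq_top]; exact Subgroup.mem_top _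
  exact Subgroup.le_normalizer_map X.subtype ⟨_, h, rfl⟩

/-- A group whose 2-core contains its centralizer. -/
theorem pCoreOf_ne_bot {L : Subgroup G} (hC : Subgroup.centralizer (pCoreOf 2 L : Set G) ≤ pCoreOf 2 L)
    [Nontrivial G] : pCoreOf 2 L ≠ ⊥ := by
  intro e
  rw [e] at hC
  have h : (Subgroup.centralizer ((⊥ : Subgroup G) : Set G)) = ⊤ := by
    rw [Subgroup.coe_bot, eq_top_iff]
    intro g _ x hx
    rw [Set.mem_singleton_iff] at hx
    simp [hx]
  rw [h, top_le_iff] at hC
  exact absurd hC.symm top_ne_bot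

theorem over_of_core {L : Subgroup G} (hN : ∀ N : Subgroup G, Cfsg.IsTwoLocal N → Group.IsSolvable ↥N)
    (hZ : ∀ S : Sylow 2 G, Subgroup.centralizer (Cfsg.omegaCenterOf (S : Subgroup G) : Set G) ≤
      Subgroup.normalizer ((S : Subgroup G) : Set G))
    (hC : Subgroup.centralizer (pCoreOf 2 L : Set G) ≤ pCoreOf 2 L) : Over ↥L := by
  refine ⟨?_, ?_, ?_⟩
  · rcases subsingleton_or_nontrivial G with hs | hnt
    · infer_instance
    · haveI := hN _ ⟨pCoreOf 2 L, isPGroup_pCoreOf L, pCoreOf_ne_bot hC, rfl⟩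
      exact Group.isSolvable_of_isSolvable_injective (Subgroup.inclusion_injective (le_normalizer_pCoreOf' L))
  · intro c hc
    have h : (c : G) ∈ Subgroup.centralizer (pCoreOf 2 L : Set G) := by
      rintro _ ⟨q, hq, rfl⟩
      exact congrArg Subtype.val (hc q hq)
    obtain ⟨d, hd, e⟩ := hC h
    rwa [← Subtype.ext e]
  · intro T c hc
    set T' := (T : Subgroup ↥L).map L.subtype with hT'
    obtain ⟨S, hS⟩ := (T.isPGroup'.map L.subtype).exists_le_sylow
    have hO : pCoreOf 2 L ≤ T' := Subgroup.map_mono (CfsgLib.pCore_le_sylow T)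
    have hle : omegaCenterOf (S : Subgroup G) ≤ omegaCenterOf T' := by
      refine (Subgroup.closure_le _).mpr fun z hz => Subgroup.subset_closure ⟨⟨?_, fun t ht => hz.1.2 t (hS ht)⟩, hz.2⟩
      exact hO (hC fun q hq => hz.1.2 q (hS (hO hq)))
    have hcS : (c : G) ∈ Subgroup.normalizer ((S : Subgroup G) : Set G) := by
      refine hZ S (Subgroup.centralizer_le hle ?_)
      rw [hT', omegaCenterOf_map L.subtype L.subtype_injective]
      rintro _ ⟨z, hz, rfl⟩
      exact congrArg Subtype.val (hc z hz)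
    -- `T` is the 2-part of `S ∩ L`
    have heq : (S : Subgroup G).subgroupOf L = (T : Subgroup ↥L) := by
      refine T.is_maximal' (S.isPGroup'.comap_of_injective L.subtype L.subtype_injective) fun t ht => hS ⟨t, ht, rfl⟩
    rw [← heq]
    refine mem_normalizer_of_conj_mem fun t ht => ?_
    exact (Subgroup.mem_normalizer_iff.mp hcS t).mp ht

theorem exists_sylowOf {T L : Subgroup G} (h : IsSylowTwoIn T L) :
    ∃ P : Sylow 2 ↥L, (P : Subgroup ↥L) = T.subgroupOf L := by
  have hp : IsPGroup 2 ↥(T.subgroupOf L) := h.2.1.comap_of_injective L.subtype L.subtype_injective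
  have hi : ¬ 2 ∣ (T.subgroupOf L).index := by
    intro h2
    exact Nat.not_even_iff_odd.mpr h.2.2 (even_iff_two_dvd.mpr h2)
  exact ⟨hp.toSylow hi, rfl⟩

theorem thompsonOf_subgroupOf {T L : Subgroup G} (hT : T ≤ L) :
    (thompsonSubgroupOf 2 (T.subgroupOf L)).map L.subtype = thompsonSubgroupOf 2 T := by
  rw [← thompsonOf_map L.subtype L.subtype_injective, Subgroup.map_subgroupOf_eq_of_le hT]

theorem wOf_subgroupOf {K L : Subgroup G} (hK : K ≤ L) : (wOf (K.subgroupOf L)).map L.subtype = wOf K := by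
  rw [← wOf_map L.subtype L.subtype_injective, Subgroup.map_subgroupOf_eq_of_le hK]

theorem isComp_subgroupOf {T K L : Subgroup G} (hT : T ≤ L) (hK : K ≤ L) (h : IsComp (thompsonSubgroupOf 2 T) K) :
    IsComp (thompsonSubgroupOf 2 (T.subgroupOf L)) (K.subgroupOf L) := by
  refine (isComp_map_iff L.subtype L.subtype_injective _ _).mp ?_
  rwa [thompsonOf_subgroupOf hT, Subgroup.map_subgroupOf_eq_of_le hK]

/-- `J(T)` is normalised by `T`. -/
theorem le_normalizer_thompsonOf (T : Subgroup G) :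
    T ≤ Subgroup.normalizer (thompsonSubgroupOf 2 T : Set G) := by
  intro t ht
  haveI : (thompsonSubgroup 2 ↥T).Normal := thompsonSubgroup_normal'
  have h : (⟨t, ht⟩ : ↥T) ∈ Subgroup.normalizer (thompsonSubgroup 2 ↥T : Set ↥T) := by
    rw [Subgroup.normalizer_eq_top]; exact Subgroup.mem_top _
  exact Subgroup.le_normalizer_map T.subtype ⟨_, h, rfl⟩

theorem thompsonOf_le' (T : Subgroup G) : thompsonSubgroupOf 2 T ≤ T := Subgroup.map_subtype_le _

end CfsgLib.JComp
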