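import Mathlib
import Cfsg.Agent.Lib.JComp.Bridge

/-!
The central involutions of `J(T)` relative to a component.
-/

set_option autoImplicit false
set_option linter.unusedSectionVars false

universe u

namespace CfsgLib.JComp

open Cfsg CfsgLib.PLocal
open scoped commutatorElement

variable {G : Type u} [Group G] [Finite G]

theorem omegaCenterOf_comm (X : Subgroup G) : omegaCenterOf X ≤ X ⊓ Subgroup.centralizer (X : Set G) :=
  (Subgroup.closure_le _).mpr fun _ hx => hx.1

theorem omegaCenterOf_elem (X : Subgroup G) : IsElementaryAbelian 2 (omegaCenterOf X) := by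
  have hc : ∀ a ∈ omegaCenterOf X, ∀ b ∈ omegaCenterOf X, a * b = b * a := fun a ha b hb =>
    (omegaCenterOf_comm X hb).2 a (omegaCenterOf_comm X ha).1
  refine ⟨⟨⟨fun a b => Subtype.ext (hc a a.2 b b.2)⟩⟩, fun a ha => ?_⟩
  induction ha using Subgroup.closure_induction with
  | mem y hy => exact hy.2
  | one => exact one_pow 2
  | mul y w hy hw h1 h2 => rw [(show Commute y w from hc y hy w hw).mul_pow, h1, h2, one_mul]
  | inv y _ h1 => rw [inv_pow, h1, inv_one]

theorem omegaCenterOf_conj {X : Subgroup G} {g : G} (hg : g ∈ Subgroup.normalizer (X : Set G)) :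
    g ∈ Subgroup.normalizer (omegaCenterOf X : Set G) := by
  refine Local.mem_normalizer_of_map_conj_eq ?_
  rw [← omegaCenterOf_map _ (MulEquiv.injective (MulAut.conj g)), Local.map_conj_eq_of_mem_normalizer hg]

theorem pCoreOf_conj {X : Subgroup G} {g : G} (hg : g ∈ Subgroup.normalizer (X : Set G)) :
    g ∈ Subgroup.normalizer (pCoreOf 2 X : Set G) := by
  refine Local.mem_normalizer_of_map_conj_eq ?_
  rw [← pCoreOf_map _ (MulEquiv.injective (MulAut.conj g)), Local.map_conj_eq_of_mem_normalizer hg]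

theorem wOf_conj {X : Subgroup G} {g : G} (hg : g ∈ Subgroup.normalizer (X : Set G)) :
    g ∈ Subgroup.normalizer (wOf X : Set G) := by
  refine Local.mem_normalizer_of_map_conj_eq ?_
  rw [← wOf_map _ (MulEquiv.injective (MulAut.conj g)), Local.map_conj_eq_of_mem_normalizer hg]

theorem conj_mem' {g y : G} {H : Subgroup G} (hg : g ∈ Subgroup.normalizer (H : Set G)) (hy : y ∈ H) :
    g * y * g⁻¹ ∈ H := (Subgroup.mem_normalizer_iff.mp hg y).mp hy

/-- A generator of a component, acting freely on its four group. -/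
theorem exists_fpf {K : Subgroup G} (hidx : (pCoreOf 2 K).relIndex K = 3) :
    ∃ x ∈ K, x ^ 3 ∈ pCoreOf 2 K ∧ (∀ k ∈ K, ∃ i : ℤ, (x ^ i)⁻¹ * k ∈ pCoreOf 2 K) ∧
      ∀ w ∈ wOf K, w * cj x w * cj x (cj x w) = 1 := by
  obtain ⟨x, hxK, -, hx3, hgen⟩ := exists_gen hidx
  refine ⟨x, hxK, hx3, hgen, ?_⟩
  set O := pCoreOf 2 K with hO
  set U := omegaCenterOf O with hU
  have hUel := omegaCenterOf_elem O
  have hOU : ∀ o ∈ O, ∀ u ∈ U, o * u * o⁻¹ = u := fun o ho u hu => by
    rw [(omegaCenterOf_comm O hu).2 o ho, mul_inv_cancel_right]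
  have hKU : ∀ k ∈ K, ∀ u ∈ U, cj k u ∈ U := fun k hk u hu =>
    conj_mem' (omegaCenterOf_conj (le_normalizer_pCoreOf' K hk)) hu
  have hcube : ∀ u ∈ U, cj x (cj x (cj x u)) = u := fun u hu => by
    rw [← cj_comp, ← cj_comp, show x * x * x = x ^ 3 by simp [pow_succ, mul_assoc]]
    exact hOU _ hx3 u hu
  -- commutators with `x` satisfy the relation
  have hxU : ∀ u ∈ U, cj x u ∈ U := hKU x hxK
  let P : Subgroup G := (Subgroup.closure {r : G | ∃ u ∈ U, r = cj x u * u⁻¹})
  have hPU : P ≤ U := (Subgroup.closure_le _).mpr fun r ⟨u, hu, e⟩ => e ▸ U.mul_mem (hxU u hu) (U.inv_mem hu)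
  have hPsum : ∀ r ∈ P, r * cj x r * cj x (cj x r) = 1 := by
    intro r hr
    induction hr using Subgroup.closure_induction with
    | mem r hr =>
      obtain ⟨u, hu, rfl⟩ := hr
      have e1 : cj x (cj x u * u⁻¹) = cj x (cj x u) * (cj x u)⁻¹ := by simp [cj, mul_assoc]
      have e2 : cj x (cj x (cj x u * u⁻¹)) = cj x (cj x (cj x u)) * (cj x (cj x u))⁻¹ := by simp [cj, mul_assoc]
      rw [e2, e1, hcube u hu]
      have hd := hxU _ (hxU u hu)
      calc cj x u * u⁻¹ * (cj x (cj x u) * (cj x u)⁻¹) * (u * (cj x (cj x u))⁻¹)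
          = cj x u * u⁻¹ * ((cj x (cj x u) * (cj x u)⁻¹) * u) * (cj x (cj x u))⁻¹ := by group
        _ = cj x u * u⁻¹ * (u * (cj x (cj x u) * (cj x u)⁻¹)) * (cj x (cj x u))⁻¹ := by
            rw [elem_comm hUel (U.mul_mem hd (U.inv_mem (hxU u hu))) hu]
        _ = cj x u * ((cj x (cj x u) * (cj x u)⁻¹) * (cj x (cj x u))⁻¹) := by group
        _ = cj x u * ((cj x u)⁻¹ * cj x (cj x u) * (cj x (cj x u))⁻¹) := by
            rw [elem_comm hUel hd (U.inv_mem (hxU u hu))]
        _ = 1 := by simp [cj, mul_assoc]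
    | one => simp [cj]
    | mul r s hr hs h1 h2 =>
      have hrU := hPU hr
      have hsU := hPU hs
      have e1 : cj x (r * s) = cj x r * cj x s := by simp [cj, mul_assoc]
      have e2 : cj x (cj x r * cj x s) = cj x (cj x r) * cj x (cj x s) := by simp [cj, mul_assoc]
      rw [e1, e2]
      calc r * s * (cj x r * cj x s) * (cj x (cj x r) * cj x (cj x s))
          = r * (s * cj x r) * (cj x s * cj x (cj x r)) * cj x (cj x s) := by group
        _ = r * (cj x r * s) * (cj x (cj x r) * cj x s) * cj x (cj x s) := by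
            rw [elem_comm hUel hsU (hxU r hrU), elem_comm hUel (hxU s hsU) (hxU _ (hxU r hrU))]
        _ = r * cj x r * (s * cj x (cj x r)) * cj x s * cj x (cj x s) := by group
        _ = r * cj x r * (cj x (cj x r) * s) * cj x s * cj x (cj x s) := by
            rw [elem_comm hUel hsU (hxU _ (hxU r hrU))]
        _ = (r * cj x r * cj x (cj x r)) * (s * cj x s * cj x (cj x s)) := by group
        _ = 1 := by rw [h1, h2, one_mul]
    | inv r hr h1 => rwa [elem_inv hUel (hPU hr)]
  have hWP : wOf K ≤ P := by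
    rw [wOf, Subgroup.commutator_le]
    intro u hu k hk
    have hstep : ∀ i : ℕ, ∀ u ∈ U, cj (x ^ i) u * u⁻¹ ∈ P := by
      intro i
      induction i with
      | zero => intro u _; simp [cj]
      | succ i ih =>
        intro u hu
        have hiU := hKU _ (K.pow_mem hxK i) u hu
        have e : cj (x ^ (i + 1)) u * u⁻¹ = (cj x (cj (x ^ i) u) * (cj (x ^ i) u)⁻¹) * (cj (x ^ i) u * u⁻¹) := by
          rw [pow_succ', cj_comp]; group
        rw [e]
        exact P.mul_mem (Subgroup.subset_closure ⟨_, hiU, rfl⟩) (ih u hu)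
    obtain ⟨i, hi⟩ := hgen k hk
    obtain ⟨n, hn⟩ := ((isOfFinOrder_of_finite x).mem_powers_iff_mem_zpowers).mpr (Subgroup.zpow_mem _ (Subgroup.mem_zpowers x) i)
    change x ^ n = x ^ i at hn
    rw [← hn] at hi
    have e : cj k u = cj (x ^ n) u := by
      conv_lhs => rw [show k = x ^ n * ((x ^ n)⁻¹ * k) by group]
      rw [cj_comp, show cj ((x ^ n)⁻¹ * k) u = u from hOU _ hi u hu]
    have h2 := P.inv_mem (hstep n u hu)
    rw [← e] at h2
    rw [commutatorElement_def, show u * k * u⁻¹ * k⁻¹ = (cj k u * u⁻¹) ⁻¹ * 1 by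
      rw [mul_one, mul_inv_rev, inv_inv]; simp [cj, mul_assoc]]
    exact P.mul_mem h2 P.one_mem
  exact fun w hw => hPsum w (hWP hw)

/-- The four elements of a four group moved freely by `x`. -/
theorem four_elems {W : Subgroup G} (hW : IsElementaryAbelian 2 W) (h4 : Nat.card W = 4) {x : G}
    (hxW : ∀ w ∈ W, cj x w ∈ W) (hsum : ∀ w ∈ W, w * cj x w * cj x (cj x w) = 1) {r : G} (hr : r ∈ W) (hr1 : r ≠ 1) :
    cj x r ≠ r ∧ cj x (cj x r) = r * cj x r ∧ ∀ u ∈ W, u = 1 ∨ u = r ∨ u = cj x r ∨ u = cj x (cj x r) := by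
  classical
  have h2 : cj x (cj x r) = r * cj x r := by
    have h := eq_inv_of_mul_eq_one_right (hsum r hr)
    rwa [elem_inv hW (W.mul_mem hr (hxW r hr))] at h
  have hne : cj x r ≠ r := fun e => hr1 (fixed_one hW hr (hsum r hr) e)
  refine ⟨hne, h2, fun u hu => ?_⟩
  by_contra hne'
  simp only [not_or] at hne'
  rw [h2] at hne'
  have hr2 : cj x r ≠ 1 := fun e => hr1 (by
    have := congrArg (fun t => x⁻¹ * t * x) e
    simpa [cj, mul_assoc] using this)
  have h5 : ({u, 1, r, cj x r, r * cj x r} : Finset G).card = 5 := by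
    rw [Finset.card_insert_of_notMem, Finset.card_insert_of_notMem, Finset.card_insert_of_notMem, Finset.card_pair]
    · exact fun e => hr1 (mul_eq_right.mp e.symm)
    · simp only [Finset.mem_insert, Finset.mem_singleton, not_or]
      exact ⟨hne.symm, fun e => hr2 (mul_eq_left.mp e.symm)⟩
    · simp only [Finset.mem_insert, Finset.mem_singleton, not_or]
      refine ⟨hr1.symm, hr2.symm, fun e => hne ?_⟩
      have := congrArg (fun t => r * t) e.symm
      simp only [← mul_assoc, elem_sq hW hr, one_mul, mul_one] at this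
      exact this
    · simp only [Finset.mem_insert, Finset.mem_singleton, not_or]
      exact hne'
  have hle : Nat.card ({u, 1, r, cj x r, r * cj x r} : Finset G) ≤ Nat.card W := by
    refine Nat.card_le_card_of_injective (fun t => (⟨t.1, ?_⟩ : ↥W)) fun a b e => Subtype.ext (by simpa using e)
    have ht := t.2
    simp only [Finset.mem_insert, Finset.mem_singleton] at ht
    rcases ht with e | e | e | e | e <;> rw [e]
    exacts [hu, one_mem _, hr, hxW r hr, W.mul_mem hr (hxW r hr)]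
  rw [Nat.card_eq_fintype_card, Fintype.card_coe, h5, h4] at hle
  omega

/-- `Ω₁Z(J(T))` splits over a component. -/
theorem center_split {T K : Subgroup G} (hT : IsPGroup 2 ↥T) (hK : IsJComponent T K) :
    Nat.card ↥(omegaCenterOf (thompsonSubgroupOf 2 T) ⊓ wOf K) = 2 ∧
      (omegaCenterOf (thompsonSubgroupOf 2 T) ⊓ ((K ⊔ thompsonSubgroupOf 2 T) ⊓
        Subgroup.centralizer ((K ⊔ thompsonSubgroupOf 2 T : Subgroup G) : Set G))) ⊔
        (omegaCenterOf (thompsonSubgroupOf 2 T) ⊓ wOf K) = omegaCenterOf (thompsonSubgroupOf 2 T) := by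
  classical
  haveI : Fact (Nat.Prime 2) := ⟨Nat.prime_two⟩
  set J := thompsonSubgroupOf 2 T with hJ
  set Z0 := omegaCenterOf J with hZ0
  set X := K ⊔ J with hX
  set O := pCoreOf 2 K with hO
  set W := wOf K with hW
  obtain ⟨hgenK, hcommK, hidx, hSyl, hW4, -⟩ := hK
  have hJK := le_normalizer_of_commutator_eq hcommK
  have hJp : IsPGroup 2 ↥J := hT.to_le (thompsonOf_le' T)
  obtain ⟨x, hxK, hx3, hgen, hsum⟩ := exists_fpf hidx
  have hWU : W ≤ omegaCenterOf O := by
    rw [hW, wOf]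
    refine Subgroup.le_normalizer_iff_commutator_le_left.mp fun k hk => ?_
    exact omegaCenterOf_conj (le_normalizer_pCoreOf' K hk)
  have hWel : IsElementaryAbelian 2 W :=
    ⟨⟨⟨fun a b => Subtype.ext (elem_comm (omegaCenterOf_elem O) (hWU a.2) (hWU b.2))⟩⟩,
      fun a ha => (omegaCenterOf_elem O).2 a (hWU ha)⟩
  have hWK : W ≤ K := hWU.trans ((omegaCenterOf_le O).trans (pCoreOf_le' K))
  have hOW : ∀ o ∈ O, ∀ w ∈ W, o * w = w * o := fun o ho w hw => (omegaCenterOf_comm O (hWU hw)).2 o ho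
  have hXW : X ≤ Subgroup.normalizer (W : Set G) :=
    sup_le (fun k hk => wOf_conj (Subgroup.le_normalizer hk)) fun j hj => wOf_conj (hJK hj)
  have hxW : ∀ w ∈ W, cj x w ∈ W := fun w hw => conj_mem' (hXW (Subgroup.mem_sup_left hxK)) hw
  -- largest elementary subgroups of `T`
  have hA2 : ∀ {A : Subgroup ↥T}, A ∈ maxElementaryAbelianSubgroups 2 ↥T →
      IsElementaryAbelian 2 (A.map T.subtype) ∧ A.map T.subtype ≤ J := fun hA =>
    ⟨PLocal.isElementary_map _ hA.1, Subgroup.map_mono (le_sSup hA)⟩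
  obtain ⟨A0, hA0⟩ : (maxElementaryAbelianSubgroups 2 ↥T).Nonempty := by
    obtain ⟨A, hA, hmax⟩ := Set.exists_max_image {A : Subgroup ↥T | IsElementaryAbelian 2 A} (fun A => Nat.card A)
      (Set.toFinite _) ⟨⊥, ⟨⟨⟨fun a b => Subtype.ext (by
        show (a : ↥T) * b = b * a
        rw [Subgroup.mem_bot.mp a.2, Subgroup.mem_bot.mp b.2])⟩⟩, fun a ha => by rw [Subgroup.mem_bot.mp ha, one_pow]⟩⟩
    exact ⟨A, hA, hmax⟩
  set α := Nat.card A0 with hα
  have hcardA : ∀ {A : Subgroup ↥T}, A ∈ maxElementaryAbelianSubgroups 2 ↥T → Nat.card (A.map T.subtype) = α := fun hA => by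
    rw [Subgroup.card_map_of_injective T.subtype_injective, hα]
    exact le_antisymm (hA0.2 _ hA.1) (hA.2 _ hA0.1)
  -- in 2-subgroups of `X` containing `J`
  have hP2 : ∀ P : Subgroup G, IsPGroup 2 ↥P → J ≤ P → P ≤ X →
      (∀ E, IsElementaryAbelian 2 E → E ≤ P → Nat.card E ≤ α ∧ (α ≤ Nat.card E → E ≤ J)) ∧
      P ≤ Subgroup.normalizer (J : Set G) := by
    intro P hP hJP hPX
    obtain ⟨S, hS⟩ := (hP.comap_of_injective X.subtype X.subtype_injective).exists_le_sylow
    set S' := (S : Subgroup ↥X).map X.subtype with hS'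
    have hPS : P ≤ S' := fun p hp => ⟨⟨p, hPX hp⟩, hS hp, rfl⟩
    have hS'syl : IsSylowTwoIn S' X := by
      refine ⟨Subgroup.map_subtype_le _, S.isPGroup'.map _, ?_⟩
      rw [Subgroup.relIndex, hS', Subgroup.subgroupOf, Subgroup.comap_map_eq_self_of_injective X.subtype_injective]
      exact Nat.not_even_iff_odd.mp fun he => S.not_dvd_index (even_iff_two_dvd.mp he)
    have hJS : thompsonSubgroupOf 2 S' = J := hSyl S' hS'syl (hJP.trans hPS)
    refine ⟨fun E hE hEP => ?_, fun p hp => hJS ▸ le_normalizer_thompsonOf S' (hPS hp)⟩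
    obtain ⟨A', hA', hmax'⟩ := Set.exists_max_image {A : Subgroup ↥S' | IsElementaryAbelian 2 A} (fun A => Nat.card A)
      (Set.toFinite _) ⟨_, PLocal.isElementary_comap (S := S') hE⟩
    have hA'J : A'.map S'.subtype ≤ T := by
      have : A'.map S'.subtype ≤ thompsonSubgroupOf 2 S' := Subgroup.map_mono (le_sSup ⟨hA', hmax'⟩)
      exact this.trans (hJS.le.trans (thompsonOf_le' T))
    have h1 : Nat.card A' ≤ α := by
      have := hA0.2 _ (PLocal.isElementary_comap (S := T) (PLocal.isElementary_map S'.subtype hA'))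
      rwa [Nat.card_congr (Subgroup.subgroupOfEquivOfLe hA'J).toEquiv,
        Subgroup.card_map_of_injective S'.subtype_injective] at this
    have hEc : Nat.card (E.subgroupOf S') = Nat.card E :=
      Nat.card_congr (Subgroup.subgroupOfEquivOfLe (hEP.trans hPS)).toEquiv
    refine ⟨hEc ▸ (hmax' _ (PLocal.isElementary_comap hE)).trans h1, fun hge => ?_⟩
    have hmem : E.subgroupOf S' ∈ maxElementaryAbelianSubgroups 2 ↥S' :=
      ⟨PLocal.isElementary_comap hE, fun B hB => (hmax' B hB).trans (h1.trans (hge.trans hEc.ge))⟩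
    intro e he
    exact hJS.le ⟨⟨e, hPS (hEP he)⟩, le_sSup hmem he, rfl⟩
  -- `K` does not centralise `W`, nor does `J`
  obtain ⟨⟨r, hr⟩, hr1⟩ : ∃ r : ↥W, r ≠ 1 := by
    haveI : Nontrivial ↥W := Finite.one_lt_card_iff_nontrivial.mp (by rw [hW4]; norm_num)
    exact exists_ne 1
  have hr1' : r ≠ 1 := fun e => hr1 (Subtype.ext e)
  have hnotK : x ∉ Subgroup.centralizer (W : Set G) := fun hx => by
    refine hr1' (fixed_one hWel hr (hsum r hr) ?_)
    show x * r * x⁻¹ = r
    rw [← hx r hr, mul_inv_cancel_right]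
  obtain ⟨a, haJ, haW⟩ : ∃ a ∈ J, a ∉ Subgroup.centralizer (W : Set G) := by
    by_contra hall
    push Not at hall
    refine hnotK ?_
    have hKW : K ≤ Subgroup.centralizer (W : Set G) := hcommK.ge.trans (by
      rw [Subgroup.commutator_le]
      intro k hk j hj
      rw [commutatorElement_def, show k * j * k⁻¹ * j⁻¹ = (k * j * k⁻¹) * j⁻¹ from rfl]
      refine mul_mem ?_ (inv_mem (hall j hj))
      intro w hw
      have h1 := hall j hj (k⁻¹ * w * k) (by
        have := conj_mem' (inv_mem (hXW (Subgroup.mem_sup_left hk))) hw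
        rwa [inv_inv] at this)
      calc w * (k * j * k⁻¹) = k * (k⁻¹ * w * k * j) * k⁻¹ := by group
        _ = k * (j * (k⁻¹ * w * k)) * k⁻¹ := by rw [h1]
        _ = k * j * k⁻¹ * w := by group)
    exact hKW hxK
  -- the fixed point of `J` on `W`
  obtain ⟨w0, hw0, hw01, hw0J⟩ : ∃ w0 ∈ W, w0 ≠ 1 ∧ ∀ j ∈ J, j * w0 = w0 * j := by
    let _ : MulAction ↥J ↥W :=
      { smul := fun g d => ⟨(g : G) * d * (g : G)⁻¹, conj_mem' (hXW (Subgroup.mem_sup_right g.2)) d.2⟩
        one_smul := fun d => Subtype.ext (show (1 : G) * d * (1 : G)⁻¹ = d by group)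
        mul_smul := fun g h d => Subtype.ext (show ((g : G) * h) * d * ((g : G) * h)⁻¹ =
          (g : G) * ((h : G) * d * (h : G)⁻¹) * (g : G)⁻¹ by group) }
    obtain ⟨y, hy, hy1⟩ := hJp.exists_fixed_point_of_prime_dvd_card_of_fixed_point ↥W (by rw [hW4]; norm_num)
      (a := 1) (fun g => Subtype.ext (show (g : G) * 1 * (g : G)⁻¹ = 1 by group))
    exact ⟨y, y.2, fun e => hy1 (Subtype.ext e.symm), fun j hj =>
      mul_inv_eq_iff_eq_mul.mp (congrArg Subtype.val (hy ⟨j, hj⟩))⟩
  obtain ⟨hx0, hxx0, hlist⟩ := four_elems hWel hW4 hxW hsum hw0 hw01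
  have hw0fix : ∀ j ∈ J, cj j w0 = w0 := fun j hj => by
    show j * w0 * j⁻¹ = w0
    rw [hw0J j hj, mul_inv_cancel_right]
  -- an element of `J` fixing a second point centralises `W`
  have hfix2 : ∀ j ∈ J, cj j (cj x w0) = cj x w0 → j ∈ Subgroup.centralizer (W : Set G) := by
    intro j hj hjx u hu
    have huf : cj j u = u := by
      rcases hlist u hu with e | e | e | e <;> rw [e]
      · simp [cj]
      · exact hw0fix j hj
      · exact hjx
      · rw [hxx0, show cj j (w0 * cj x w0) = cj j w0 * cj j (cj x w0) by simp [cj, mul_assoc], hw0fix j hj, hjx]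
    exact (mul_inv_eq_iff_eq_mul.mp huf).symm
  have hmove : ∀ j ∈ J, j ∉ Subgroup.centralizer (W : Set G) → cj j (cj x w0) = cj x (cj x w0) := by
    intro j hj hjW
    have hjm : cj j (cj x w0) ∈ W := conj_mem' (hXW (Subgroup.mem_sup_right hj)) (hxW w0 hw0)
    rcases hlist _ hjm with e | e | e | e
    · exfalso
      have : cj x w0 = 1 := by
        have := congrArg (fun t => j⁻¹ * t * j) e
        simpa [cj, mul_assoc] using this
      exact hw01 (by
        have := congrArg (fun t => x⁻¹ * t * x) this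
        simpa [cj, mul_assoc] using this)
    · exfalso
      refine hx0 ?_
      exact mul_left_cancel (mul_right_cancel (show j * cj x w0 * j⁻¹ = j * w0 * j⁻¹ from e.trans (hw0fix j hj).symm))
    · exact absurd (hfix2 j hj e) hjW
    · exact e
  have hWC : ∀ u ∈ W, (∀ j ∈ J, cj j u = u) → u = 1 ∨ u = w0 := by
    intro u hu hfix
    rcases hlist u hu with e | e | e | e
    · exact Or.inl e
    · exact Or.inr e
    · exfalso; exact haW (hfix2 a haJ (e ▸ hfix a haJ))
    · exfalso
      have h1 := hfix a haJ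
      rw [e, hxx0, show cj a (w0 * cj x w0) = cj a w0 * cj a (cj x w0) by simp [cj, mul_assoc], hw0fix a haJ] at h1
      exact haW (hfix2 a haJ (mul_left_cancel h1))
  -- the centralizer of `W` in `X` is a 2-group
  set Q := X ⊓ Subgroup.centralizer (W : Set G) with hQ
  have hQp : IsPGroup 2 ↥Q := by
    rintro ⟨q, hqX, hqW⟩
    have hqX' : q ∈ ((K ⊔ J : Subgroup G) : Set G) := hqX
    rw [Subgroup.coe_mul_of_right_le_normalizer_left K J hJK] at hqX'
    obtain ⟨k, hk, j, hj, e⟩ := hqX'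
    obtain ⟨n, hn⟩ := hJp ⟨j, hj⟩
    have hmem : q ^ 2 ^ n ∈ K := by
      haveI : (K.subgroupOf X).Normal :=
        (Subgroup.normal_subgroupOf_iff_le_normalizer le_sup_left).mpr (sup_le Subgroup.le_normalizer hJK)
      set qq := QuotientGroup.mk' (K.subgroupOf X)
      have hqX' : q ∈ X := e ▸ Subgroup.mul_mem_sup hk hj
      have h1 : qq ⟨q, hqX'⟩ = qq ⟨j, Subgroup.mem_sup_right hj⟩ := by
        rw [show (⟨q, hqX'⟩ : ↥X) = ⟨k, Subgroup.mem_sup_left hk⟩ * ⟨j, Subgroup.mem_sup_right hj⟩ from Subtype.ext e.symm,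
          map_mul, show qq ⟨k, Subgroup.mem_sup_left hk⟩ = 1 from (QuotientGroup.eq_one_iff _).mpr hk, one_mul]
      have h2 : qq (⟨q, hqX'⟩ ^ 2 ^ n) = 1 := by
        rw [map_pow, h1, ← map_pow, show (⟨j, Subgroup.mem_sup_right hj⟩ : ↥X) ^ 2 ^ n = 1 from
          Subtype.ext (show j ^ 2 ^ n = 1 from congrArg Subtype.val hn), map_one]
      exact Subgroup.mem_subgroupOf.mp ((QuotientGroup.eq_one_iff _).mp h2)
    obtain ⟨i, hi⟩ := hgen _ hmem
    have hxi : x ^ i ∈ Subgroup.centralizer (W : Set G) := by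
      have h1 : q ^ 2 ^ n ∈ Subgroup.centralizer (W : Set G) := pow_mem hqW _
      have h2 : (x ^ i)⁻¹ * q ^ 2 ^ n ∈ Subgroup.centralizer (W : Set G) := fun w hw => (hOW _ hi w hw).symm
      have := mul_mem h1 (inv_mem h2)
      rwa [mul_inv_rev, inv_inv, mul_inv_cancel_left] at this
    have h3i : (3 : ℤ) ∣ i := by
      by_contra h3
      have hx3C : x ^ (3 : ℤ) ∈ Subgroup.centralizer (W : Set G) := by
        rw [show (3 : ℤ) = ((3 : ℕ) : ℤ) by norm_num, zpow_natCast]
        exact fun w hw => (hOW _ hx3 w hw).symm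
      have hcop : Int.gcd i 3 = 1 := by
        rw [Int.gcd_eq_natAbs]
        exact ((Nat.prime_three.coprime_iff_not_dvd).mpr (fun h => h3 (Int.natAbs_dvd_natAbs.mp h))).symm
      have hb := Int.gcd_eq_gcd_ab i 3
      rw [hcop, Nat.cast_one] at hb
      refine hnotK ?_
      rw [← zpow_one x, hb, zpow_add, zpow_mul, zpow_mul]
      exact mul_mem (zpow_mem hxi _) (zpow_mem hx3C _)
    obtain ⟨l, rfl⟩ := h3i
    have hqO : q ^ 2 ^ n ∈ O := by
      have h1 : x ^ (3 * l) ∈ O := by
        rw [zpow_mul, show (3 : ℤ) = ((3 : ℕ) : ℤ) by norm_num, zpow_natCast]; exact O.zpow_mem hx3 l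
      have := O.mul_mem h1 hi
      rwa [mul_inv_cancel_left] at this
    obtain ⟨m, hm⟩ := isPGroup_pCoreOf K ⟨_, hqO⟩
    refine ⟨n + m, Subtype.ext ?_⟩
    show q ^ 2 ^ (n + m) = 1
    rw [pow_add, pow_mul]
    exact congrArg Subtype.val hm
  have hXC : X ≤ Subgroup.normalizer (Subgroup.centralizer (W : Set G) : Set G) := fun g hg =>
    mem_normalizer_of_conj_mem fun c hc w hw => by
      have h1 := hc (g⁻¹ * w * g) (by
        have := conj_mem' (inv_mem (hXW hg)) hw
        rwa [inv_inv] at this)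
      calc w * (g * c * g⁻¹) = g * (g⁻¹ * w * g * c) * g⁻¹ := by group
        _ = g * (c * (g⁻¹ * w * g)) * g⁻¹ := by rw [h1]
        _ = g * c * g⁻¹ * w := by group
  have hQn : X ≤ Subgroup.normalizer (Q : Set G) := fun g hg => mem_normalizer_of_conj_mem fun c hc =>
    ⟨X.mul_mem (X.mul_mem hg hc.1) (X.inv_mem hg), conj_mem' (hXC hg) hc.2⟩
  have hJn : J ≤ Subgroup.normalizer (Q : Set G) := le_sup_right.trans hQn
  obtain ⟨hP, hPn⟩ := hP2 (Q ⊔ J) (hQp.to_sup_of_normal_left' hJp hJn) le_sup_right (sup_le inf_le_left le_sup_right)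
  have hWQ : W ≤ Q := fun w hw => ⟨Subgroup.mem_sup_left (hWK hw), fun u hu => elem_comm hWel hu hw⟩
  -- modified largest subgroups
  have hE : ∀ {A : Subgroup ↥T}, A ∈ maxElementaryAbelianSubgroups 2 ↥T →
      IsElementaryAbelian 2 ((A.map T.subtype ⊓ Subgroup.centralizer (W : Set G)) ⊔ W) ∧
      (A.map T.subtype ⊓ Subgroup.centralizer (W : Set G)) ⊔ W ≤ Q ∧
      Nat.card ↥((A.map T.subtype ⊓ Subgroup.centralizer (W : Set G)) ⊔ W) = α := by
    intro A hA
    obtain ⟨hAel, hAJ⟩ := hA2 hA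
    set A' := A.map T.subtype with hA'
    set B := A' ⊓ Subgroup.centralizer (W : Set G) with hB
    have hBel : IsElementaryAbelian 2 B :=
      ⟨⟨⟨fun u v => Subtype.ext (elem_comm hAel u.2.1 v.2.1)⟩⟩, fun u hu => hAel.2 u hu.1⟩
    have hel := isElementaryAbelian_sup' hBel hWel fun b hb w hw => (hb.2 w hw).symm
    have hle : B ⊔ W ≤ Q := sup_le (fun b hb => ⟨Subgroup.mem_sup_right (hAJ hb.1), hb.2⟩) hWQ
    refine ⟨hel, hle, le_antisymm (hP _ hel (hle.trans le_sup_left)).1 ?_⟩
    rw [← hcardA hA]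
    have hprod := CfsgLib.Products.card_mul_card_le B W
    by_cases hAW : A' ≤ Subgroup.centralizer (W : Set G)
    · exact Nat.card_le_card_of_injective _
        (Subgroup.inclusion_injective ((le_inf le_rfl hAW).trans (le_sup_left : B ≤ B ⊔ W)))
    · obtain ⟨b0, hb0, hb0W⟩ := SetLike.not_le_iff_exists.mp hAW
      have hBW2 : Nat.card ↥(B ⊓ W) ≤ 2 := by
        classical
        have hsub : ∀ u ∈ B ⊓ W, u ∈ ({1, w0} : Finset G) := by
          intro u hu
          have hc : cj b0 u = u := by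
            show b0 * u * b0⁻¹ = u
            rw [elem_comm hAel hb0 hu.1.1, mul_inv_cancel_right]
          simp only [Finset.mem_insert, Finset.mem_singleton]
          rcases hlist u hu.2 with e | e | e | e
          · exact Or.inl e
          · exact Or.inr e
          · exfalso; exact hb0W (hfix2 b0 (hAJ hb0) (e ▸ hc))
          · exfalso
            rw [e, hxx0, show cj b0 (w0 * cj x w0) = cj b0 w0 * cj b0 (cj x w0) by simp [cj, mul_assoc],
              hw0fix b0 (hAJ hb0)] at hc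
            exact hb0W (hfix2 b0 (hAJ hb0) (mul_left_cancel hc))
        calc Nat.card ↥(B ⊓ W) ≤ Nat.card ({1, w0} : Finset G) :=
              Nat.card_le_card_of_injective (fun u => (⟨u.1, hsub _ u.2⟩ : ({1, w0} : Finset G)))
                fun u v e => Subtype.ext (by simpa using e)
          _ ≤ 2 := by rw [Nat.card_eq_fintype_card, Fintype.card_coe]; exact Finset.card_le_two
      have hidx2 : Nat.card A' ≤ 2 * Nat.card B := by
        let φ : ↥A' → ↥B × Bool := fun t => if h : (t : G) ∈ Subgroup.centralizer (W : Set G) then (⟨t, t.2, h⟩, false)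
          else (⟨b0 * t, A'.mul_mem hb0 t.2, by
            refine hfix2 _ (J.mul_mem (hAJ hb0) (hAJ t.2)) ?_
            rw [cj_comp, hmove _ (hAJ t.2) h, hxx0,
              show cj b0 (w0 * cj x w0) = cj b0 w0 * cj b0 (cj x w0) by simp [cj, mul_assoc],
              hw0fix b0 (hAJ hb0), hmove b0 (hAJ hb0) hb0W, hxx0, ← mul_assoc, elem_sq hWel hw0, one_mul]⟩, true)
        have hφ : Function.Injective φ := by
          intro s t h
          by_cases hs : (s : G) ∈ Subgroup.centralizer (W : Set G) <;>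
            by_cases ht : (t : G) ∈ Subgroup.centralizer (W : Set G) <;> simp [φ, hs, ht] at h
          · exact Subtype.ext (congrArg Subtype.val h :)
          · exact Subtype.ext (mul_left_cancel (congrArg Subtype.val h :))
        have := Nat.card_le_card_of_injective φ hφ
        rwa [Nat.card_prod, Nat.card_eq_fintype_card (α := Bool), Fintype.card_bool, mul_comm] at this
      rw [hW4] at hprod
      have h4 : Nat.card ↥(B ⊔ W) * Nat.card ↥(B ⊓ W) ≤ Nat.card ↥(B ⊔ W) * 2 := Nat.mul_le_mul_left _ hBW2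
      have h5 : Nat.card A' = Nat.card (A.map T.subtype) := rfl
      omega
  have hWJ : W ≤ J := le_sup_right.trans ((hP _ (hE hA0).1 ((hE hA0).2.1.trans le_sup_left)).2 (hE hA0).2.2.ge)
  have hw0Z : w0 ∈ Z0 := Subgroup.subset_closure ⟨⟨hWJ hw0, fun j hj => hw0J j hj⟩, hWel.2 w0 hw0⟩
  have hZW : ∀ u ∈ Z0 ⊓ W, u = 1 ∨ u = w0 := fun u hu => hWC u hu.2 fun j hj => by
    show j * u * j⁻¹ = u
    rw [(omegaCenterOf_comm J hu.1).2 j hj, mul_inv_cancel_right]
  refine ⟨?_, le_antisymm (sup_le inf_le_left inf_le_left) fun z hz => ?_⟩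
  · have h1 : Z0 ⊓ W = Subgroup.zpowers w0 := le_antisymm (fun u hu => by
      rcases hZW u hu with e | e <;> rw [e]
      exacts [one_mem _, Subgroup.mem_zpowers w0]) (Subgroup.zpowers_le.mpr ⟨hw0Z, hw0⟩)
    rw [h1, Nat.card_zpowers]
    exact orderOf_eq_prime (hWel.2 w0 hw0) hw01
  -- conjugates of `z` lie in the modified subgroups
  have hzsq : z ^ 2 = 1 := (omegaCenterOf_elem J).2 z hz
  have hzJ : z ∈ J ∧ ∀ j ∈ J, j * z = z * j := ⟨omegaCenterOf_le J hz, fun j hj => (omegaCenterOf_comm J hz).2 j hj⟩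
  have hconj : ∀ g ∈ X, ∀ {A : Subgroup ↥T}, A ∈ maxElementaryAbelianSubgroups 2 ↥T →
      cj g z ∈ (A.map T.subtype ⊓ Subgroup.centralizer (W : Set G)) ⊔ W := by
    intro g hg A hA
    obtain ⟨hel, hle, hc⟩ := hE hA
    set E := (A.map T.subtype ⊓ Subgroup.centralizer (W : Set G)) ⊔ W with hEdef
    set E' := E.map (MulAut.conj g⁻¹).toMonoidHom with hE'
    have hinj : Function.Injective (MulAut.conj g⁻¹).toMonoidHom := MulEquiv.injective (MulAut.conj g⁻¹)
    have hel' : IsElementaryAbelian 2 E' := PLocal.isElementary_map _ hel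
    have hle' : E' ≤ Q := by
      rintro _ ⟨e, he, rfl⟩
      exact conj_mem' (hQn (X.inv_mem hg)) (hle he)
    have hc' : Nat.card E' = α := by rw [hE', Subgroup.card_map_of_injective hinj, hc]
    have hEJ : E' ≤ J := (hP _ hel' (hle'.trans le_sup_left)).2 hc'.ge
    have hzE : z ∈ E' := by
      have hel2 : IsElementaryAbelian 2 (E' ⊔ Subgroup.zpowers z) := by
        refine isElementaryAbelian_sup' hel' ⟨inferInstance, ?_⟩ fun e he u hu => ?_
        · rintro _ ⟨i, rfl⟩
          show (z ^ i) ^ 2 = 1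
          rw [← zpow_natCast, ← zpow_mul, mul_comm, zpow_mul, zpow_natCast, hzsq, one_zpow]
        · obtain ⟨i, rfl⟩ := Subgroup.mem_zpowers_iff.mp hu
          exact ((show Commute e z from hzJ.2 e (hEJ he)).zpow_right i).eq
      have hb := (hP _ hel2 (sup_le (hle'.trans le_sup_left) ((Subgroup.zpowers_le.mpr hzJ.1).trans le_sup_right))).1
      exact (Subgroup.eq_of_le_of_card_ge le_sup_left (hb.trans hc'.ge)).ge (Subgroup.mem_sup_right (Subgroup.mem_zpowers z))
    obtain ⟨e, he, hez⟩ := hzE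
    have : cj g z = e := by rw [← hez]; simp [cj, mul_assoc]
    rw [this]; exact he
  -- `X` fixes `z` modulo `W`
  set D : Subgroup G :=
    { carrier := {d | d ∈ X ∧ ∀ g ∈ X, cj d (cj g z) * (cj g z)⁻¹ ∈ W}
      one_mem' := ⟨X.one_mem, fun g _ => by simp [cj]⟩
      mul_mem' := fun {d e} hd he => ⟨X.mul_mem hd.1 he.1, fun g hg => by
        have h1 := hd.2 (e * g) (X.mul_mem he.1 hg)
        rw [cj_comp] at h1
        rw [cj_comp]
        have := W.mul_mem h1 (he.2 g hg)
        simpa [mul_assoc] using this⟩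
      inv_mem' := fun {d} hd => ⟨X.inv_mem hd.1, fun g hg => by
        have h1 := W.inv_mem (hd.2 (d⁻¹ * g) (X.mul_mem (X.inv_mem hd.1) hg))
        rw [← cj_comp d (d⁻¹ * g), mul_inv_cancel_left, cj_comp] at h1
        simpa [mul_assoc] using h1⟩ } with hD
  have hJD : J ≤ D := by
    rw [hJ, thompsonSubgroupOf, Subgroup.map_le_iff_le_comap]
    refine sSup_le fun A hA => ?_
    rw [← Subgroup.map_le_iff_le_comap]
    intro b hb
    refine ⟨Subgroup.mem_sup_right ((hA2 hA).2 hb), fun g hg => ?_⟩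
    obtain ⟨hel, -, -⟩ := hE hA
    have hmem := hconj g hg hA
    have hn : (A.map T.subtype ⊓ Subgroup.centralizer (W : Set G)) ≤ Subgroup.normalizer (W : Set G) := fun c hc =>
      mem_normalizer_of_conj_mem fun w hw => by rw [← hc.2 w hw, mul_inv_cancel_right]; exact hw
    rw [← SetLike.mem_coe, Subgroup.coe_mul_of_left_le_normalizer_right _ W hn] at hmem
    obtain ⟨c, hc, w, hw, e⟩ := hmem
    have e' : c * w = cj g z := e
    rw [← e']
    have hbW := conj_mem' (hXW (Subgroup.mem_sup_right ((hA2 hA).2 hb))) hw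
    have e2 : cj b (c * w) * (c * w)⁻¹ = (cj b c) * (cj b w * w⁻¹) * c⁻¹ := by simp [cj, mul_assoc]
    have e3 : cj b c = c := by
      show b * c * b⁻¹ = c
      rw [elem_comm (hA2 hA).1 hb hc.1, mul_inv_cancel_right]
    rw [e2, e3]
    exact conj_mem' (hn hc) (W.mul_mem hbW (W.inv_mem hw))
  have hDn : X ≤ Subgroup.normalizer (D : Set G) := fun g hg => mem_normalizer_of_conj_mem fun d hd =>
    ⟨X.mul_mem (X.mul_mem hg hd.1) (X.inv_mem hg), fun g' hg' => by
      have h1 := conj_mem' (hXW hg) (hd.2 (g⁻¹ * g') (X.mul_mem (X.inv_mem hg) hg'))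
      simpa [cj, mul_assoc] using h1⟩
  have hKD : K ≤ D := hcommK.ge.trans (by
    rw [Subgroup.commutator_le]
    intro k hk j hj
    exact D.mul_mem (conj_mem' (hDn (Subgroup.mem_sup_left hk)) (hJD hj)) (D.inv_mem (hJD hj)))
  have hkz : ∀ k ∈ K, cj k z * z⁻¹ ∈ W := fun k hk => by
    simpa [cj] using (hKD hk).2 1 X.one_mem
  -- `O` centralises `z`
  have hOQ : O ≤ Q := fun o ho =>
    ⟨Subgroup.mem_sup_left (pCoreOf_le' K ho), fun w hw => (hOW o ho w hw).symm⟩
  have hOz : ∀ o ∈ O, cj o z = z := by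
    intro o ho
    have hc0 : ∀ o' ∈ O, cj o' z * z⁻¹ = 1 ∨ cj o' z * z⁻¹ = w0 := by
      intro o' ho'
      have hn : o' ∈ Subgroup.normalizer (J : Set G) := hPn (Subgroup.mem_sup_left (hOQ ho'))
      exact hZW _ ⟨Z0.mul_mem (conj_mem' (omegaCenterOf_conj hn) hz) (Z0.inv_mem hz), hkz o' (pCoreOf_le' K ho')⟩
    rcases hc0 o ho with e | e
    · exact mul_inv_eq_one.mp e
    exfalso
    have ho' : cj x o ∈ O := conj_mem' (le_normalizer_pCoreOf' K hxK) ho
    obtain ⟨w, hw, hw'⟩ : ∃ w ∈ W, cj x z = w * z := ⟨_, hkz x hxK, (inv_mul_cancel_right _ _).symm⟩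
    have h1 : cj x w0 = cj (cj x o) z * z⁻¹ := by
      calc cj x w0 = cj x (cj o z * z⁻¹) := by rw [e]
        _ = cj (cj x o) (cj x z) * (cj x z)⁻¹ := by simp [cj, mul_assoc]
        _ = cj (cj x o) w * (cj (cj x o) z * z⁻¹) * w⁻¹ := by rw [hw']; simp [cj, mul_assoc]
        _ = w * (cj (cj x o) z * z⁻¹) * w⁻¹ := by
            rw [show cj (cj x o) w = w by
              show cj x o * w * (cj x o)⁻¹ = w
              rw [hOW _ ho' w hw, mul_inv_cancel_right]]
        _ = cj (cj x o) z * z⁻¹ := by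
            rw [elem_comm hWel hw (hkz _ (pCoreOf_le' K ho')), mul_inv_cancel_right]
    rcases hc0 _ ho' with e' | e' <;> rw [e'] at h1
    · refine hw01 ?_
      have := congrArg (fun t => x⁻¹ * t * x) h1
      simpa [cj, mul_assoc] using this
    · exact hx0 h1
  -- the part centralised by `K`
  obtain ⟨w, hw, hzw⟩ : ∃ w ∈ W, cj x z = w * z := ⟨_, hkz x hxK, (inv_mul_cancel_right _ _).symm⟩
  have hzW : ∀ u ∈ W, u * z = z * u := fun u hu => hzJ.2 u (hWJ hu)
  set w' := cj x (w * z) * (w * z)⁻¹ with hw'def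
  obtain ⟨v, hv, hzv⟩ : ∃ v ∈ W, cj x (z * cj x z * cj x (cj x z)) = z * cj x z * cj x (cj x z) ∧
      z * cj x z * cj x (cj x z) = v * z := by
    have hxx : cj x (cj x z) = cj x w * w * z := by
      rw [hzw, show cj x (w * z) = cj x w * cj x z by simp [cj, mul_assoc], hzw, ← mul_assoc]
    have hxxx : cj x (cj x (cj x z)) = z := by
      rw [← cj_comp, ← cj_comp, show x * x * x = x ^ 3 by simp [pow_succ, mul_assoc]]
      exact hOz _ hx3
    refine ⟨cj x w, hxW w hw, ?_, ?_⟩
    · rw [show cj x (z * cj x z * cj x (cj x z)) = cj x z * cj x (cj x z) * cj x (cj x (cj x z)) by simp [cj, mul_assoc], hxxx,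
        hxx, hzw]
      set u := cj x w * w with hu'
      have hu : u ∈ W := W.mul_mem (hxW w hw) hw
      calc w * z * (u * z) * z = w * (z * u) * (z * z) := by group
        _ = (w * u) * z * (z * z) := by rw [← hzW u hu]; group
        _ = z * (w * u) * (z * z) := by rw [hzW _ (W.mul_mem hw hu)]
        _ = z * (w * (u * z)) * z := by group
        _ = z * (w * (z * u)) * z := by rw [hzW u hu]
        _ = z * (w * z) * (u * z) := by group
    · rw [hxx, hzw]
      have hxwW := hxW w hw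
      calc z * (w * z) * (cj x w * w * z) = (z * w) * (z * (cj x w * w)) * z := by group
        _ = (w * z) * ((cj x w * w) * z) * z := by rw [← hzW w hw, ← hzW _ (W.mul_mem hxwW hw)]
        _ = w * (z * (cj x w * w)) * (z * z) := by group
        _ = w * ((cj x w * w) * z) * (z * z) := by rw [← hzW _ (W.mul_mem hxwW hw)]
        _ = (w * (cj x w * w)) * z * z ^ 2 := by rw [pow_two]; group
        _ = cj x w * z := by
            rw [hzsq, mul_one, elem_comm hWel hw (W.mul_mem hxwW hw), mul_assoc (cj x w), elem_sq hWel hw, mul_one]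
  obtain ⟨hfixx, hz1⟩ := hzv
  set z1 := z * cj x z * cj x (cj x z) with hz1def
  have hz1K : ∀ k ∈ K, k * z1 = z1 * k := by
    intro k hk
    obtain ⟨i, hi⟩ := hgen k hk
    have h1 : Commute x z1 := mul_inv_eq_iff_eq_mul.mp hfixx
    have h2 : Commute ((x ^ i)⁻¹ * k) z1 := by
      have e : cj ((x ^ i)⁻¹ * k) z1 = z1 := by
        rw [hz1, show cj ((x ^ i)⁻¹ * k) (v * z) = cj ((x ^ i)⁻¹ * k) v * cj ((x ^ i)⁻¹ * k) z by simp [cj, mul_assoc],
          hOz _ hi, show cj ((x ^ i)⁻¹ * k) v = v by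
            show (x ^ i)⁻¹ * k * v * ((x ^ i)⁻¹ * k)⁻¹ = v
            rw [hOW _ hi v hv, mul_inv_cancel_right]]
      exact mul_inv_eq_iff_eq_mul.mp e
    have := (h1.zpow_left i).mul_left h2
    rw [mul_inv_cancel_left] at this
    exact this.eq
  have hz1J : ∀ j ∈ J, j * z1 = z1 * j := by
    intro j hj
    have h1 : cj j z1 * z1⁻¹ ∈ W := by
      rw [hz1, show cj j (v * z) = cj j v * cj j z by simp [cj, mul_assoc], show cj j z = z by
        show j * z * j⁻¹ = z
        rw [hzJ.2 j hj, mul_inv_cancel_right], mul_inv_rev, mul_assoc, mul_inv_cancel_left]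
      exact W.mul_mem (conj_mem' (hXW (Subgroup.mem_sup_right hj)) hv) (W.inv_mem hv)
    have h2 : ∀ k ∈ K, cj k (cj j z1 * z1⁻¹) = cj j z1 * z1⁻¹ := by
      intro k hk
      have h3 := hz1K (j⁻¹ * k * j) (by
        have := conj_mem' (inv_mem (hJK hj)) hk
        rwa [inv_inv] at this)
      have h4 : k * (j * z1 * j⁻¹) = (j * z1 * j⁻¹) * k := by
        calc k * (j * z1 * j⁻¹) = j * ((j⁻¹ * k * j) * z1) * j⁻¹ := by group
          _ = j * (z1 * (j⁻¹ * k * j)) * j⁻¹ := by rw [h3]
          _ = (j * z1 * j⁻¹) * k := by group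
      have h5 : Commute k (cj j z1 * z1⁻¹) := (show Commute k (cj j z1) from h4).mul_right (show Commute k z1 from hz1K k hk).inv_right
      show k * (cj j z1 * z1⁻¹) * k⁻¹ = _
      rw [h5.eq, mul_inv_cancel_right]
    exact mul_inv_eq_iff_eq_mul.mp (mul_inv_eq_one.mp (fixed_one hWel h1 (hsum _ h1) (h2 x hxK)))
  have hz1mem : z1 ∈ Z0 ⊓ (X ⊓ Subgroup.centralizer (X : Set G)) := by
    have hz1Jmem : z1 ∈ J := hz1 ▸ J.mul_mem (hWJ hv) hzJ.1
    refine ⟨Subgroup.subset_closure ⟨⟨hz1Jmem, hz1J⟩, ?_⟩, Subgroup.mem_sup_right hz1Jmem, ?_⟩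
    · rw [hz1, (show Commute v z from hzW v hv).mul_pow, hWel.2 v hv, hzsq, one_mul]
    · have : X ≤ Subgroup.centralizer ({z1} : Set G) :=
        sup_le (fun k hk => Subgroup.mem_centralizer_singleton_iff.mpr (hz1K k hk))
          (fun j hj => Subgroup.mem_centralizer_singleton_iff.mpr (hz1J j hj))
      exact fun g hg => Subgroup.mem_centralizer_singleton_iff.mp (this hg)
  have hvZ : v ∈ Z0 ⊓ W := ⟨by
    have := Z0.mul_mem hz1mem.1 (Z0.inv_mem hz)
    rwa [hz1, mul_inv_cancel_right] at this, hv⟩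
  have e : z = v⁻¹ * z1 := by rw [hz1, inv_mul_cancel_left]
  rw [e]
  exact mul_mem (inv_mem (Subgroup.mem_sup_right hvZ)) (Subgroup.mem_sup_left hz1mem)

end CfsgLib.JComp
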