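import Mathlib
import Cfsg.Agent.Lib.JComp.Center

/-!
Largest elementary abelian subgroups and the Thompson subgroup, seen inside the ambient group.
-/

set_option autoImplicit false
set_option linter.unusedSectionVars false

universe u

namespace CfsgLib.JComp

open Cfsg CfsgLib.PLocal CfsgLib.Offender

variable {G : Type u} [Group G] [Finite G]

/-- `E` is a largest elementary abelian 2-subgroup of `P`. -/
def IsTop (P E : Subgroup G) : Prop :=
  IsElementaryAbelian 2 E ∧ E ≤ P ∧ ∀ F : Subgroup G, IsElementaryAbelian 2 F → F ≤ P → Nat.card F ≤ Nat.card E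

theorem card_subgroupOf_le {F P : Subgroup G} (h : F ≤ P) : Nat.card (F.subgroupOf P) = Nat.card F := by
  rw [← Subgroup.card_map_of_injective P.subtype_injective (K := F.subgroupOf P), Subgroup.map_subgroupOf_eq_of_le h]

theorem isTop_map {P : Subgroup G} {A : Subgroup ↥P} (hA : A ∈ maxElementaryAbelianSubgroups 2 ↥P) :
    IsTop P (A.map P.subtype) := by
  refine ⟨PLocal.isElementary_map _ hA.1, Subgroup.map_subtype_le _, fun F hF hFP => ?_⟩
  rw [Subgroup.card_map_of_injective P.subtype_injective, ← card_subgroupOf_le hFP]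
  exact hA.2 _ (PLocal.isElementary_comap hF)

theorem isTop_subgroupOf {P E : Subgroup G} (h : IsTop P E) :
    E.subgroupOf P ∈ maxElementaryAbelianSubgroups 2 ↥P := by
  refine ⟨PLocal.isElementary_comap h.1, fun B hB => ?_⟩
  rw [card_subgroupOf_le h.2.1, ← Subgroup.card_map_of_injective P.subtype_injective (K := B)]
  exact h.2.2 _ (PLocal.isElementary_map _ hB) (Subgroup.map_subtype_le _)

theorem top_le {P E : Subgroup G} (h : IsTop P E) : E ≤ thompsonSubgroupOf 2 P :=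
  (Subgroup.map_subgroupOf_eq_of_le h.2.1).ge.trans (Subgroup.map_mono (le_sSup (isTop_subgroupOf h)))

theorem thompsonOf_le_iff {P X : Subgroup G} :
    thompsonSubgroupOf 2 P ≤ X ↔ ∀ E, IsTop P E → E ≤ X := by
  refine ⟨fun h E hE => (top_le hE).trans h, fun h => ?_⟩
  rw [thompsonSubgroupOf, Subgroup.map_le_iff_le_comap]
  exact sSup_le fun A hA => Subgroup.map_le_iff_le_comap.mp (h _ (isTop_map hA))

theorem exists_top (P : Subgroup G) : ∃ E, IsTop P E := by
  obtain ⟨A, hA, hmax⟩ := Set.exists_max_image {A : Subgroup ↥P | IsElementaryAbelian 2 A} (fun A => Nat.card A)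
    (Set.toFinite _) ⟨⊥, ⟨⟨⟨fun a b => Subtype.ext (by
      show (a : ↥P) * b = b * a
      rw [Subgroup.mem_bot.mp a.2, Subgroup.mem_bot.mp b.2])⟩⟩, fun a ha => by rw [Subgroup.mem_bot.mp ha, one_pow]⟩⟩
  exact ⟨_, isTop_map ⟨hA, hmax⟩⟩

theorem maxElemAbelianOrder_eq {P E : Subgroup G} (h : IsTop P E) : maxElemAbelianOrder P = Nat.card E := by
  have hset : (fun A : Subgroup ↥P => Nat.card ↥A) '' maxElementaryAbelianSubgroups 2 ↥P = {Nat.card E} := by
    refine Set.eq_singleton_iff_unique_mem.mpr ⟨⟨_, isTop_subgroupOf h, card_subgroupOf_le h.2.1⟩, ?_⟩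
    rintro _ ⟨A, hA, rfl⟩
    show Nat.card A = Nat.card E
    rw [← card_subgroupOf_le h.2.1]
    exact le_antisymm ((isTop_subgroupOf h).2 _ hA.1) (hA.2 _ (isTop_subgroupOf h).1)
  rw [maxElemAbelianOrder, hset, csSup_singleton]

/-- A larger group with no larger elementary abelian subgroup has a larger Thompson subgroup. -/
theorem thompsonOf_mono {P Q : Subgroup G} (hle : thompsonSubgroupOf 2 P ≤ Q)
    (h : ∀ F, IsElementaryAbelian 2 F → F ≤ Q → ∃ F', IsElementaryAbelian 2 F' ∧ F' ≤ P ∧ Nat.card F ≤ Nat.card F') :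
    thompsonSubgroupOf 2 P ≤ thompsonSubgroupOf 2 Q := by
  refine thompsonOf_le_iff.mpr fun E hE => top_le ⟨hE.1, (top_le hE).trans hle, fun F hF hFQ => ?_⟩
  obtain ⟨F', hF', hF'P, hc⟩ := h F hF hFQ
  exact hc.trans (hE.2.2 F' hF' hF'P)

theorem exists_conj_le {T L Q : Subgroup G} (hTL : IsSylowTwoIn T L) (hQ : IsPGroup 2 ↥Q) (hQL : Q ≤ L) :
    ∃ l ∈ L, Q.map (MulAut.conj l).toMonoidHom ≤ T := by
  obtain ⟨P, hP⟩ := exists_sylowOf hTL
  obtain ⟨P', hP'⟩ := (hQ.comap_of_injective L.subtype L.subtype_injective).exists_le_sylow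
  obtain ⟨l, hl⟩ := MulAction.exists_smul_eq ↥L P' P
  refine ⟨l, l.2, ?_⟩
  rintro _ ⟨q, hq, rfl⟩
  have h1 : (⟨q, hQL hq⟩ : ↥L) ∈ (P' : Subgroup ↥L) := hP' hq
  have h2 : l * ⟨q, hQL hq⟩ * l⁻¹ ∈ (P : Subgroup ↥L) := by
    rw [← hl]; exact ⟨_, h1, rfl⟩
  rw [hP] at h2
  exact h2

theorem exists_elem_le {T L F : Subgroup G} (hTL : IsSylowTwoIn T L) (hF : IsElementaryAbelian 2 F) (hFL : F ≤ L) :
    ∃ F', IsElementaryAbelian 2 F' ∧ F' ≤ T ∧ Nat.card F ≤ Nat.card F' := by
  obtain ⟨l, -, hl⟩ := exists_conj_le hTL (isPGroup_two_of_sq hF.2) hFL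
  exact ⟨_, PLocal.isElementary_map _ hF, hl, (Subgroup.card_map_of_injective (MulEquiv.injective _)).ge⟩

theorem exists_sylowTwoIn {Q L : Subgroup G} (hQ : IsPGroup 2 ↥Q) (hQL : Q ≤ L) :
    ∃ S, IsSylowTwoIn S L ∧ Q ≤ S := by
  haveI : Fact (Nat.Prime 2) := ⟨Nat.prime_two⟩
  obtain ⟨P, hP⟩ := (hQ.comap_of_injective L.subtype L.subtype_injective).exists_le_sylow
  refine ⟨(P : Subgroup ↥L).map L.subtype, ⟨Subgroup.map_subtype_le _, P.isPGroup'.map _, ?_⟩,
    fun q hq => ⟨⟨q, hQL hq⟩, hP hq, rfl⟩⟩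
  rw [Subgroup.relIndex, Subgroup.subgroupOf, Subgroup.comap_map_eq_self_of_injective L.subtype_injective]
  rw [← Nat.not_even_iff_odd, even_iff_two_dvd]
  exact P.not_dvd_index

theorem isSylowTwoIn_map {H : Type u} [Group H] (f : G →* H) (hf : Function.Injective f) {T L : Subgroup G}
    (h : IsSylowTwoIn T L) : IsSylowTwoIn (T.map f) (L.map f) :=
  ⟨Subgroup.map_mono h.1, h.2.1.map f, by rw [Subgroup.relIndex_map_map_of_injective _ _ hf]; exact h.2.2⟩

theorem conj_map_map (g h : G) (X : Subgroup G) :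
    (X.map (MulAut.conj h).toMonoidHom).map (MulAut.conj g).toMonoidHom = X.map (MulAut.conj (g * h)).toMonoidHom := by
  rw [Subgroup.map_map]
  congr 1
  ext y
  simp [mul_assoc]

theorem conj_map_one (X : Subgroup G) : X.map (MulAut.conj (1 : G)).toMonoidHom = X := by
  conv_rhs => rw [← Subgroup.map_id X]
  congr 1
  ext y
  simp

end CfsgLib.JComp
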