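import Mathlib
import Cfsg.Agent.Lib.JComp.Top

/-!
Two minimal parabolic subgroups over a common Sylow 2-subgroup, each acting on a four group.
-/

set_option autoImplicit false
set_option linter.unusedSectionVars false

universe u

namespace CfsgLib.JComp

open Cfsg CfsgLib.PLocal CfsgLib.Offender
open scoped Pointwise commutatorElement

variable {G : Type u} [Group G]

/-- The centralizer of the four group in `T`. -/
def qd (T K : Subgroup G) : Subgroup G := T ⊓ Subgroup.centralizer (wOf K : Set G)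

/-- The part of `Ω₁(Z(T))` centralised by `K`. -/
def ck (T K : Subgroup G) : Subgroup G := omegaCenterOf T ⊓ Subgroup.centralizer (K : Set G)

/-- The part of `Ω₁(Z(T))` in the four group. -/
def lk (T K : Subgroup G) : Subgroup G := omegaCenterOf T ⊓ wOf K

/-- The natural module together with its fixed part. -/
def vd (T K : Subgroup G) : Subgroup G := wOf K ⊔ ck T K

variable [Finite G]

/-- A minimal parabolic subgroup `K T`. -/
structure Par (T K : Subgroup G) : Prop where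
  p2 : IsPGroup 2 ↥T
  idx : (pCoreOf 2 K).relIndex K = 3
  card : Nat.card ↥(wOf K) = 4
  sq : ∀ w ∈ wOf K, w * w = 1
  norm : T ≤ Subgroup.normalizer (K : Set G)
  syl : IsSylowTwoIn T (K ⊔ T)
  moves : ¬ T ≤ Subgroup.centralizer (wOf K : Set G)
  labc : Nat.card ↥(lk T K) = 2
  split : ck T K ⊔ lk T K = omegaCenterOf T

theorem card_two_eq {A B : Subgroup G} (hA : Nat.card A = 2) (hB : Nat.card B = 2) {c : G} (ha : c ∈ A) (hb : c ∈ B)
    (hc : c ≠ 1) : A = B := by
  have h : ∀ {X : Subgroup G}, Nat.card X = 2 → c ∈ X → X = Subgroup.zpowers c := by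
    intro X hX hcX
    refine (Subgroup.eq_of_le_of_card_ge (Subgroup.zpowers_le.mpr hcX) ?_).symm
    rw [hX]
    haveI : Nontrivial ↥(Subgroup.zpowers c) :=
      ⟨⟨⟨c, Subgroup.mem_zpowers c⟩, 1, fun e => hc (congrArg Subtype.val e)⟩⟩
    exact Finite.one_lt_card_iff_nontrivial.mpr this
  rw [h hA ha, h hB hb]

theorem card_two_mem {A : Subgroup G} (hA : Nat.card A = 2) {w : G} (hw : w ∈ A) (hw1 : w ≠ 1) :
    ∀ a ∈ A, a = 1 ∨ a = w := by
  classical
  intro a ha
  by_contra h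
  simp only [not_or] at h
  have h3 : ({1, w, a} : Finset G).card = 3 := by
    rw [Finset.card_insert_of_notMem, Finset.card_pair (fun e => h.2 e.symm)]
    simp only [Finset.mem_insert, Finset.mem_singleton, not_or]
    exact ⟨fun e => hw1 e.symm, fun e => h.1 e.symm⟩
  have hle : Nat.card ({1, w, a} : Finset G) ≤ Nat.card A := by
    refine Nat.card_le_card_of_injective (fun t => (⟨t.1, ?_⟩ : ↥A)) fun p q e => Subtype.ext (by simpa using e)
    have ht := t.2
    simp only [Finset.mem_insert, Finset.mem_singleton] at ht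
    rcases ht with e | e | e <;> rw [e]
    exacts [one_mem _, hw, ha]
  rw [Nat.card_eq_fintype_card, Fintype.card_coe, h3, hA] at hle
  omega

theorem sylow_in_max {T L R : Subgroup G} (hT : IsSylowTwoIn T L) (hR : IsPGroup 2 ↥R) (hTR : T ≤ R) (hRL : R ≤ L) :
    R ≤ T := by
  obtain ⟨l, -, hl⟩ := exists_conj_le hT hR hRL
  refine (Subgroup.eq_of_le_of_card_ge hTR ?_).ge
  rw [← Subgroup.card_map_of_injective (f := (MulAut.conj l).toMonoidHom) (MulEquiv.injective (MulAut.conj l))]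
  exact Subgroup.card_le_of_le hl

theorem omegaCenterOf_le_centralizer (T : Subgroup G) : omegaCenterOf T ≤ Subgroup.centralizer (T : Set G) :=
  (omegaCenterOf_comm T).trans inf_le_right

namespace Par

variable {T K : Subgroup G} (hP : Par T K)
include hP

theorem w_elem : IsElementaryAbelian 2 (wOf K) := by
  have hsq : ∀ a ∈ wOf K, a ^ 2 = 1 := fun a ha => by rw [pow_two]; exact hP.sq a ha
  refine ⟨⟨⟨fun a b => Subtype.ext ?_⟩⟩, hsq⟩
  show (a : G) * b = b * a
  have h1 := hP.sq _ ((wOf K).mul_mem a.2 b.2)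
  have ha := inv_eq_of_mul_eq_one_right (hP.sq _ a.2)
  have hb := inv_eq_of_mul_eq_one_right (hP.sq _ b.2)
  rw [← inv_eq_of_mul_eq_one_right h1, mul_inv_rev, ha, hb]

theorem core_le : pCoreOf 2 K ≤ T := by
  have hn : T ≤ Subgroup.normalizer (pCoreOf 2 K : Set G) := fun t ht => pCoreOf_conj (hP.norm ht)
  refine le_trans le_sup_left (sylow_in_max hP.syl ((isPGroup_pCoreOf K).to_sup_of_normal_left' hP.p2 hn) le_sup_right ?_)
  exact sup_le ((pCoreOf_le' K).trans le_sup_left) le_sup_right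

theorem w_le_core : wOf K ≤ omegaCenterOf (pCoreOf 2 K) := by
  rw [wOf, Subgroup.commutator_le]
  intro d hd k hk
  rw [commutatorElement_def, show d * k * d⁻¹ * k⁻¹ = d * (k * d⁻¹ * k⁻¹) by group]
  exact mul_mem hd (conj_mem' (omegaCenterOf_conj (le_normalizer_pCoreOf' K hk)) (inv_mem hd))

theorem w_le : wOf K ≤ T := hP.w_le_core.trans ((omegaCenterOf_le _).trans hP.core_le)

theorem core_fix : ∀ o ∈ pCoreOf 2 K, ∀ w ∈ wOf K, cj o w = w := fun o ho w hw => by
  show o * w * o⁻¹ = w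
  rw [(omegaCenterOf_comm _ (hP.w_le_core hw)).2 o ho, mul_inv_cancel_right]

theorem norm_w : K ⊔ T ≤ Subgroup.normalizer (wOf K : Set G) :=
  sup_le (fun k hk => wOf_conj (Subgroup.le_normalizer hk)) (fun t ht => wOf_conj (hP.norm ht))

/-- The standard generator. -/
theorem data : ∃ x ∈ K, x ^ 3 ∈ T ∧ (∀ w ∈ wOf K, cj x (cj x (cj x w)) = w) ∧
    (∀ w ∈ wOf K, w * cj x w * cj x (cj x w) = 1) ∧
    ∀ g ∈ K ⊔ T, ∃ i : ℕ, ∃ t ∈ T, g = x ^ i * t := by
  obtain ⟨x, hxK, hx3, hgen, hsum⟩ := exists_fpf hP.idx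
  refine ⟨x, hxK, hP.core_le hx3, fun w hw => ?_, hsum, fun g hg => ?_⟩
  · rw [← cj_comp, ← cj_comp, show x * x * x = x ^ 3 by simp [pow_succ, mul_assoc]]
    exact hP.core_fix _ hx3 w hw
  · have hg' : g ∈ ((K ⊔ T : Subgroup G) : Set G) := hg
    rw [Subgroup.coe_mul_of_right_le_normalizer_left K T hP.norm] at hg'
    obtain ⟨k, hk, t, ht, rfl⟩ := hg'
    obtain ⟨i, hi⟩ := hgen k hk
    obtain ⟨n, hn⟩ := ((isOfFinOrder_of_finite x).mem_powers_iff_mem_zpowers).mpr
      (Subgroup.zpow_mem _ (Subgroup.mem_zpowers x) i)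
    change x ^ n = x ^ i at hn
    refine ⟨n, (x ^ i)⁻¹ * k * t, mul_mem (hP.core_le hi) ht, ?_⟩
    rw [hn]; group

theorem lab_elt : ∃ w ∈ lk T K, w ≠ 1 ∧ ∀ a ∈ lk T K, a = 1 ∨ a = w := by
  haveI : Nontrivial ↥(lk T K) := Finite.one_lt_card_iff_nontrivial.mp (by rw [hP.labc]; norm_num)
  obtain ⟨⟨w, hw⟩, hw1⟩ := exists_ne (1 : ↥(lk T K))
  have hw1' : w ≠ 1 := fun e => hw1 (Subtype.ext e)
  exact ⟨w, hw, hw1', card_two_mem hP.labc hw hw1'⟩

theorem fix_lab {t w : G} (ht : t ∈ T) (hw : w ∈ omegaCenterOf T) : cj t w = w := by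
  show t * w * t⁻¹ = w
  rw [(omegaCenterOf_le_centralizer T hw) t ht, mul_inv_cancel_right]

theorem four {x : G} (hxK : x ∈ K) (hsum : ∀ w ∈ wOf K, w * cj x w * cj x (cj x w) = 1) {w : G} (hw : w ∈ wOf K)
    (hw1 : w ≠ 1) : cj x w ≠ w ∧ cj x (cj x w) = w * cj x w ∧
      ∀ u ∈ wOf K, u = 1 ∨ u = w ∨ u = cj x w ∨ u = cj x (cj x w) :=
  four_elems hP.w_elem hP.card (fun u hu => conj_mem' (hP.norm_w (Subgroup.mem_sup_left hxK)) hu) hsum hw hw1

/-- Elements outside `Q` swap the two moved vectors. -/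
theorem act_out {t x : G} (ht : t ∈ T) (htq : t ∉ qd T K) (hxK : x ∈ K)
    (hsum : ∀ w ∈ wOf K, w * cj x w * cj x (cj x w) = 1) {w : G} (hw : w ∈ lk T K) (hw1 : w ≠ 1) :
    cj t (cj x w) = cj x (cj x w) ∧ cj t (cj x (cj x w)) = cj x w := by
  obtain ⟨hne, hxx, hlist⟩ := hP.four hxK hsum hw.2 hw1
  have htw : cj t w = w := hP.fix_lab ht hw.1
  have hxW : cj x w ∈ wOf K := conj_mem' (hP.norm_w (Subgroup.mem_sup_left hxK)) hw.2
  have hm : cj t (cj x w) ∈ wOf K := conj_mem' (hP.norm_w (Subgroup.mem_sup_right ht)) hxW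
  have h1 : cj t (cj x w) = cj x (cj x w) := by
    rcases hlist _ hm with e | e | e | e
    · exfalso
      have : cj x w = 1 := (MulAut.conj t).injective (e.trans (map_one _).symm)
      exact hw1 ((MulAut.conj x).injective (this.trans (map_one _).symm))
    · exact absurd ((MulAut.conj t).injective (e.trans htw.symm)) hne
    · exfalso
      refine htq ⟨ht, fun u hu => ?_⟩
      have hfix : cj t u = u := by
        rcases hlist u hu with r | r | r | r <;> subst r
        · simp [cj]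
        · exact htw
        · exact e
        · rw [hxx, show cj t (w * cj x w) = cj t w * cj t (cj x w) by simp [cj, mul_assoc], htw, e]
      exact (mul_inv_eq_iff_eq_mul.mp hfix).symm
    · exact e
  refine ⟨h1, ?_⟩
  rw [hxx, show cj t (w * cj x w) = cj t w * cj t (cj x w) by simp [cj, mul_assoc], htw, h1, hxx, ← mul_assoc,
    hP.sq w hw.2, one_mul]

theorem index_two {a b : G} (ha : a ∈ T) (haq : a ∉ qd T K) (hb : b ∈ T) (hbq : b ∉ qd T K) :
    a⁻¹ * b ∈ qd T K := by
  refine ⟨T.mul_mem (T.inv_mem ha) hb, fun u hu => ?_⟩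
  obtain ⟨x, hxK, -, -, hsum, -⟩ := hP.data
  obtain ⟨w, hw, hw1, -⟩ := hP.lab_elt
  obtain ⟨-, -, hlist⟩ := hP.four hxK hsum hw.2 hw1
  obtain ⟨a1, a2⟩ := hP.act_out ha haq hxK hsum hw hw1
  obtain ⟨b1, b2⟩ := hP.act_out hb hbq hxK hsum hw hw1
  have hinj : ∀ p q : G, cj a p = q → cj a⁻¹ q = p := fun p q e => by rw [← e]; simp [cj, mul_assoc]
  have hfix : cj (a⁻¹ * b) u = u := by
    rw [cj_comp]
    rcases hlist u hu with r | r | r | r <;> subst r
    · simp [cj]
    · rw [hP.fix_lab hb hw.1, hP.fix_lab (T.inv_mem ha) hw.1]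
    · rw [b1]; exact hinj _ _ a1
    · rw [b2]; exact hinj _ _ a2
  exact (mul_inv_eq_iff_eq_mul.mp hfix).symm

theorem exists_out : ∃ t ∈ T, t ∉ qd T K := by
  by_contra h
  push Not at h
  exact hP.moves fun t ht => (h t ht).2

theorem ck_central : ck T K ≤ Subgroup.centralizer ((K ⊔ T : Subgroup G) : Set G) := by
  intro c hc
  have h : K ⊔ T ≤ Subgroup.centralizer ({c} : Set G) :=
    sup_le (fun k hk => Subgroup.mem_centralizer_singleton_iff.mpr (hc.2 k hk))
      (fun t ht => Subgroup.mem_centralizer_singleton_iff.mpr (omegaCenterOf_le_centralizer T hc.1 t ht))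
  exact fun g hg => Subgroup.mem_centralizer_singleton_iff.mp (h hg)

theorem z_le : omegaCenterOf T ≤ vd T K :=
  hP.split.ge.trans (sup_le le_sup_right (inf_le_right.trans le_sup_left))

theorem v_le : vd T K ≤ qd T K := by
  refine sup_le (le_inf hP.w_le ?_) (le_inf (inf_le_left.trans (omegaCenterOf_le T)) ?_)
  · exact fun a ha b hb => elem_comm hP.w_elem hb ha
  · exact fun c hc w hw => hP.ck_central hc w (Subgroup.mem_sup_right (hP.w_le hw))

theorem v_le_T : vd T K ≤ T := hP.v_le.trans inf_le_left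

theorem q_fix {t v : G} (ht : t ∈ qd T K) (hv : v ∈ vd T K) : cj t v = v := by
  have h : vd T K ≤ Subgroup.centralizer ({t} : Set G) :=
    sup_le (fun w hw => Subgroup.mem_centralizer_singleton_iff.mpr (ht.2 w hw))
      (fun c hc => Subgroup.mem_centralizer_singleton_iff.mpr (hP.ck_central hc t (Subgroup.mem_sup_right ht.1)).symm)
  show t * v * t⁻¹ = v
  rw [← Subgroup.mem_centralizer_singleton_iff.mp (h hv), mul_inv_cancel_right]

theorem v_elem : IsElementaryAbelian 2 (vd T K) :=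
  isElementaryAbelian_sup' hP.w_elem (PLocal.isElementaryAbelian_of_le (omegaCenterOf_elem T) inf_le_left)
    fun a ha b hb => (hP.ck_central hb a (Subgroup.mem_sup_right (hP.w_le ha)))

theorem v_cases {v : G} (hv : v ∈ vd T K) : ∃ a ∈ wOf K, ∃ c ∈ ck T K, v = a * c := by
  have hn : ck T K ≤ Subgroup.normalizer (wOf K : Set G) := fun c hc => mem_normalizer_of_conj_mem fun w hw => by
    rw [← hP.ck_central hc w (Subgroup.mem_sup_right (hP.w_le hw)), mul_inv_cancel_right]; exact hw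
  have hv' : v ∈ ((wOf K ⊔ ck T K : Subgroup G) : Set G) := hv
  rw [Subgroup.coe_mul_of_right_le_normalizer_left _ _ hn] at hv'
  obtain ⟨a, ha, c, hc, rfl⟩ := hv'
  exact ⟨a, ha, c, hc, rfl⟩

theorem comm_lab {t v : G} (ht : t ∈ T) (hv : v ∈ vd T K) : cj t v * v⁻¹ ∈ lk T K := by
  by_cases htq : t ∈ qd T K
  · rw [hP.q_fix htq hv, mul_inv_cancel]; exact one_mem _
  obtain ⟨a, ha, c, hc, rfl⟩ := hP.v_cases hv
  rw [show cj t (a * c) * (a * c)⁻¹ = cj t a * cj t c * c⁻¹ * a⁻¹ by simp [cj, mul_assoc],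
    hP.fix_lab ht hc.1, mul_inv_cancel_right]
  obtain ⟨x, hxK, -, -, hsum, -⟩ := hP.data
  obtain ⟨w, hw, hw1, -⟩ := hP.lab_elt
  obtain ⟨-, hxx, hlist⟩ := hP.four hxK hsum hw.2 hw1
  obtain ⟨h1, h2⟩ := hP.act_out ht htq hxK hsum hw hw1
  have hxW : cj x w ∈ wOf K := conj_mem' (hP.norm_w (Subgroup.mem_sup_left hxK)) hw.2
  rcases hlist a ha with r | r | r | r <;> subst r
  · simp [cj]
  · rw [hP.fix_lab ht hw.1, mul_inv_cancel]; exact one_mem _
  · rw [h1, hxx, mul_inv_cancel_right]; exact hw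
  · rw [h2, hxx, elem_inv hP.w_elem ((wOf K).mul_mem hw.2 hxW), elem_comm hP.w_elem hw.2 hxW, ← mul_assoc,
      hP.sq _ hxW, one_mul]
    exact hw

theorem moved {t v : G} (ht : t ∈ T) (htq : t ∉ qd T K) (hv : v ∈ vd T K) (hvz : v ∉ omegaCenterOf T) :
    cj t v ≠ v := by
  obtain ⟨a, ha, c, hc, rfl⟩ := hP.v_cases hv
  intro e
  rw [show cj t (a * c) = cj t a * cj t c by simp [cj, mul_assoc], hP.fix_lab ht hc.1] at e
  have e' : cj t a = a := mul_right_cancel e
  obtain ⟨x, hxK, -, hx3, hsum, -⟩ := hP.data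
  obtain ⟨w, hw, hw1, -⟩ := hP.lab_elt
  obtain ⟨hne, hxx, hlist⟩ := hP.four hxK hsum hw.2 hw1
  obtain ⟨h1, h2⟩ := hP.act_out ht htq hxK hsum hw hw1
  have hne2 : cj x (cj x w) ≠ cj x w := fun r => hne ((MulAut.conj x).injective r)
  rcases hlist a ha with r | r | r | r <;> subst r
  · exact hvz (mul_mem (one_mem _) hc.1)
  · exact hvz (mul_mem hw.1 hc.1)
  · exact hne2 (h1.symm.trans e')
  · exact hne2 (e'.symm.trans h2)

theorem coset {a b : G} (ha : a ∈ vd T K) (haz : a ∉ omegaCenterOf T) (hb : b ∈ vd T K) (hbz : b ∉ omegaCenterOf T) :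
    a * b ∈ omegaCenterOf T := by
  obtain ⟨t, ht, htq⟩ := hP.exists_out
  by_contra hab
  have h1 := hP.moved ht htq ha haz
  have h2 := hP.moved ht htq hb hbz
  have h3 := hP.moved ht htq (mul_mem ha hb) hab
  obtain ⟨w, hw, hw1, hwl⟩ := hP.lab_elt
  have e1 : cj t a = w * a := by
    rcases hwl _ (hP.comm_lab ht ha) with e | e
    · exact absurd (mul_inv_eq_one.mp e) h1
    · rw [← e, inv_mul_cancel_right]
  have e2 : cj t b = w * b := by
    rcases hwl _ (hP.comm_lab ht hb) with e | e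
    · exact absurd (mul_inv_eq_one.mp e) h2
    · rw [← e, inv_mul_cancel_right]
  refine h3 ?_
  rw [show cj t (a * b) = cj t a * cj t b by simp [cj, mul_assoc], e1, e2]
  calc w * a * (w * b) = w * (a * w) * b := by group
    _ = w * (w * a) * b := by rw [elem_comm hP.v_elem ha ((hP.z_le) hw.1)]
    _ = a * b := by rw [← mul_assoc, hP.sq w hw.2, one_mul]

theorem v_normal : K ⊔ T ≤ Subgroup.normalizer (vd T K : Set G) := fun g hg => mem_normalizer_of_conj_mem fun v hv => by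
  obtain ⟨a, ha, c, hc, rfl⟩ := hP.v_cases hv
  rw [show g * (a * c) * g⁻¹ = g * a * g⁻¹ * (g * c * g⁻¹) by group]
  refine mul_mem (Subgroup.mem_sup_left (conj_mem' (hP.norm_w hg) ha)) (Subgroup.mem_sup_right ?_)
  rw [hP.ck_central hc g hg, mul_inv_cancel_right]
  exact hc

theorem q_normal : K ⊔ T ≤ Subgroup.normalizer (qd T K : Set G) := by
  intro g hg
  refine mem_normalizer_of_conj_mem fun y hy => ?_
  have hcent : g * y * g⁻¹ ∈ Subgroup.centralizer (wOf K : Set G) := fun w hw => by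
    have hw' := conj_mem' (inv_mem (hP.norm_w hg)) hw
    have h := hy.2 _ hw'
    calc w * (g * y * g⁻¹) = g * ((g⁻¹ * w * g⁻¹⁻¹) * y) * g⁻¹ := by group
      _ = g * (y * (g⁻¹ * w * g⁻¹⁻¹)) * g⁻¹ := by rw [h]
      _ = (g * y * g⁻¹) * w := by group
  have hmem : g * y * g⁻¹ ∈ K ⊔ T := mul_mem (mul_mem hg (Subgroup.mem_sup_right hy.1)) (inv_mem hg)
  obtain ⟨x, hxK, hx3T, hx3, hsum, hdec⟩ := hP.data
  obtain ⟨i, t, ht, e⟩ := hdec _ hmem
  obtain ⟨w, hw, hw1, -⟩ := hP.lab_elt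
  obtain ⟨hne, hxx, -⟩ := hP.four hxK hsum hw.2 hw1
  have hxi : cj (x ^ i) w = w := by
    have h : cj (g * y * g⁻¹) w = w := by
      show g * y * g⁻¹ * w * (g * y * g⁻¹)⁻¹ = w
      rw [← hcent w hw.2, mul_inv_cancel_right]
    rwa [e, cj_comp, hP.fix_lab ht hw.1] at h
  have hi : i % 3 = 0 := by
    have hxp : cj (x ^ i) w = cj (x ^ (i % 3)) w := by
      conv_lhs => rw [← Nat.mod_add_div i 3]
      rw [pow_add, cj_comp, pow_mul]
      congr 1
      exact hP.fix_lab (T.pow_mem hx3T _) hw.1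
    rw [hxp] at hxi
    rcases (show i % 3 = 0 ∨ i % 3 = 1 ∨ i % 3 = 2 by omega) with h | h | h
    · exact h
    · rw [h, pow_one] at hxi; exact absurd hxi hne
    · exfalso
      rw [h, pow_two, cj_comp] at hxi
      exact hne ((congrArg (cj x) hxi).symm.trans (hx3 w hw.2))
  refine ⟨?_, hcent⟩
  rw [e]
  refine T.mul_mem ?_ ht
  rw [← Nat.mod_add_div i 3, hi, zero_add, pow_mul]
  exact T.pow_mem hx3T _

/-- A subgroup containing `T` and an element of `K T` moving the central involution contains `K T`. -/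
theorem le_of_moves {N : Subgroup G} (hTN : T ≤ N) {g w : G} (hgN : g ∈ N) (hgP : g ∈ K ⊔ T) (hw : w ∈ lk T K)
    (hne : cj g w ≠ w) : K ⊔ T ≤ N := by
  obtain ⟨x, hxK, hx3T, hx3, hsum, hdec⟩ := hP.data
  obtain ⟨i, t, ht, e⟩ := hdec g hgP
  have hxiN : x ^ i ∈ N := by
    have := N.mul_mem hgN (N.inv_mem (hTN ht))
    rwa [e, mul_inv_cancel_right] at this
  have hi : i % 3 ≠ 0 := by
    intro h0
    refine hne ?_
    rw [e, cj_comp, hP.fix_lab ht hw.1, ← Nat.mod_add_div i 3, h0, zero_add, pow_mul]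
    exact hP.fix_lab (T.pow_mem hx3T _) hw.1
  have hxN : x ∈ N := by
    have hcop : Nat.gcd i 3 = 1 := by
      rcases (Nat.dvd_prime Nat.prime_three).mp (Nat.gcd_dvd_right i 3) with h | h
      · exact h
      · exact absurd (Nat.dvd_iff_mod_eq_zero.mp (h ▸ Nat.gcd_dvd_left i 3)) hi
    have hb := Nat.gcd_eq_gcd_ab i 3
    rw [hcop, Nat.cast_one] at hb
    rw [← zpow_one x, hb, zpow_add, zpow_mul, zpow_mul, zpow_natCast, zpow_natCast]
    exact mul_mem (N.zpow_mem hxiN _) (N.zpow_mem (hTN hx3T) _)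
  intro y hy
  obtain ⟨j, s, hs, rfl⟩ := hdec y hy
  exact N.mul_mem (N.pow_mem hxN j) (hTN hs)

end Par

/-- Alternating types along a path. -/
def ty (i : Bool) : ℕ → Bool
  | 0 => i
  | n + 1 => !(ty i n)

theorem ty_not (i : Bool) : ∀ n, ty (!i) n = !(ty i n)
  | 0 => rfl
  | n + 1 => by rw [ty, ty, ty_not i n]

theorem ty_shift (i : Bool) (n : ℕ) : ty (!i) n = ty i (n + 1) := ty_not i n

theorem ty_ty (i : Bool) : ∀ n, ty (ty i n) n = i
  | 0 => rfl
  | n + 1 => by
    show (!(ty (!(ty i n)) n)) = i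
    rw [ty_not, ty_ty i n, Bool.not_not]

/-- Elements reached by paths of a given length. -/
def rs (K : Bool → Subgroup G) (T : Subgroup G) (i : Bool) : ℕ → Set G
  | 0 => ((K i ⊔ T : Subgroup G) : Set G)
  | n + 1 => rs K T i n * ((K (ty i (n + 1)) ⊔ T : Subgroup G) : Set G)

section Graph

variable {K : Bool → Subgroup G} {T : Subgroup G}

theorem rs_right {i : Bool} {n : ℕ} {g p : G} (hg : g ∈ rs K T i n) (hp : p ∈ K (ty i n) ⊔ T) : g * p ∈ rs K T i n := by
  cases n with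
  | zero => exact mul_mem (S := Subgroup G) hg hp
  | succ n =>
    obtain ⟨h, hh, q, hq, rfl⟩ := hg
    exact ⟨h, hh, q * p, mul_mem (S := Subgroup G) hq hp, (mul_assoc h q p).symm⟩

theorem rs_step {i : Bool} {n : ℕ} {g p : G} (hg : g ∈ rs K T i n) (hp : p ∈ K (ty i (n + 1)) ⊔ T) :
    g * p ∈ rs K T i (n + 1) := ⟨g, hg, p, hp, rfl⟩

theorem rs_mem_succ {i : Bool} {n : ℕ} {g : G} (hg : g ∈ rs K T i n) : g ∈ rs K T i (n + 1) := by
  have := rs_step hg (one_mem (K (ty i (n + 1)) ⊔ T))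
  rwa [mul_one] at this

theorem rs_left {i : Bool} : ∀ {n : ℕ} {g p : G}, g ∈ rs K T i n → p ∈ K i ⊔ T → p * g ∈ rs K T i n
  | 0, g, p, hg, hp => mul_mem (S := Subgroup G) hp hg
  | n + 1, g, p, hg, hp => by
    obtain ⟨h, hh, q, hq, rfl⟩ := hg
    exact ⟨p * h, rs_left hh hp, q, hq, mul_assoc p h q⟩

theorem rs_prepend {i : Bool} : ∀ {n : ℕ} {g p : G}, p ∈ K i ⊔ T → g ∈ rs K T (!i) n → p * g ∈ rs K T i (n + 1)
  | 0, g, p, hp, hg => ⟨p, hp, g, hg, rfl⟩
  | n + 1, g, p, hp, hg => by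
    obtain ⟨h, hh, q, hq, rfl⟩ := hg
    rw [ty_shift] at hq
    exact ⟨p * h, rs_prepend hp hh, q, hq, mul_assoc p h q⟩

theorem rs_cons {i : Bool} : ∀ {n : ℕ} {g : G}, g ∈ rs K T i (n + 1) →
    ∃ p ∈ K i ⊔ T, ∃ h ∈ rs K T (!i) n, g = p * h
  | 0, g, hg => by
    obtain ⟨h, hh, q, hq, rfl⟩ := hg
    exact ⟨h, hh, q, hq, rfl⟩
  | n + 1, g, hg => by
    obtain ⟨h, hh, q, hq, rfl⟩ := hg
    obtain ⟨p, hp, h', hh', rfl⟩ := rs_cons hh
    refine ⟨p, hp, h' * q, ?_, (mul_assoc p h' q)⟩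
    refine rs_step hh' ?_
    rw [ty_shift]; exact hq

theorem rs_inv {i : Bool} : ∀ {n : ℕ} {g : G}, g ∈ rs K T i n → g⁻¹ ∈ rs K T (ty i n) n
  | 0, g, hg => by
    show g⁻¹ ∈ ((K i ⊔ T : Subgroup G) : Set G)
    exact inv_mem (show g ∈ K i ⊔ T from hg)
  | n + 1, g, hg => by
    obtain ⟨h, hh, q, hq, rfl⟩ := hg
    have h1 := rs_inv hh
    rw [mul_inv_rev]
    refine rs_prepend (inv_mem hq) ?_
    show h⁻¹ ∈ rs K T (!(!(ty i n))) n
    rw [Bool.not_not]
    exact h1

end Graph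

/-- No critical pair below level `b`. -/
def Below (K : Bool → Subgroup G) (T : Subgroup G) (b : ℕ) : Prop :=
  ∀ m, m < b → ∀ i g, g ∈ rs K T i m → vd T (K i) ≤ (qd T (K (ty i m))).map (MulAut.conj g).toMonoidHom

/-- No nontrivial subgroup of `T` is normalised by both parabolics. -/
def NoCore (K : Bool → Subgroup G) (T : Subgroup G) : Prop :=
  ∀ N : Subgroup G, N ≤ T → (∀ i, K i ⊔ T ≤ Subgroup.normalizer (N : Set G)) → N = ⊥

section Amalgam

variable {K : Bool → Subgroup G} {T : Subgroup G} (hP : ∀ i, Par T (K i))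
include hP

theorem vd_ne_bot (i : Bool) : vd T (K i) ≠ ⊥ := fun e => by
  have h := (hP i).card
  rw [show wOf (K i) = ⊥ from le_bot_iff.mp (e ▸ le_sup_left), Subgroup.card_bot] at h
  omega

theorem v_map {i : Bool} {g : G} (hg : g ∈ K i ⊔ T) :
    (vd T (K i)).map (MulAut.conj g).toMonoidHom = vd T (K i) :=
  Local.map_conj_eq_of_mem_normalizer ((hP i).v_normal hg)

theorem q_map {i : Bool} {g : G} (hg : g ∈ K i ⊔ T) :
    (qd T (K i)).map (MulAut.conj g).toMonoidHom = qd T (K i) :=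
  Local.map_conj_eq_of_mem_normalizer ((hP i).q_normal hg)

theorem exists_crit (hcore : NoCore K T) :
    ∃ n i g, g ∈ rs K T i n ∧ ¬ vd T (K i) ≤ (qd T (K (ty i n))).map (MulAut.conj g).toMonoidHom := by
  by_contra hno
  push Not at hno
  set Γ := (K true ⊔ T) ⊔ (K false ⊔ T) with hΓ
  have hall : ∀ g ∈ Γ, ∃ n, g ∈ rs K T true n := by
    have hclose : ∀ n g, g ∈ rs K T true n → ∀ i, ∀ p ∈ K i ⊔ T, ∃ m, g * p ∈ rs K T true m := by
      intro n g hg i p hp
      by_cases h : i = ty true n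
      · subst h; exact ⟨n, rs_right hg hp⟩
      · refine ⟨n + 1, rs_step hg ?_⟩
        rw [show ty true (n + 1) = i by rw [ty]; cases i <;> cases hty : ty true n <;> simp_all]
        exact hp
    intro g hg
    rw [hΓ, Subgroup.sup_eq_closure] at hg
    induction hg using Subgroup.closure_induction_right with
    | one => exact ⟨0, one_mem (K true ⊔ T)⟩
    | mul_right x hx y hy ih =>
      obtain ⟨n, hn⟩ := ih
      rcases hy with hy | hy
      · exact hclose n x hn true y hy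
      · exact hclose n x hn false y hy
    | mul_inv_cancel x hx y hy ih =>
      obtain ⟨n, hn⟩ := ih
      rcases hy with hy | hy
      · exact hclose n x hn true y⁻¹ (inv_mem hy)
      · exact hclose n x hn false y⁻¹ (inv_mem hy)
  let C : Subgroup G := Subgroup.closure {y | ∃ g ∈ Γ, ∃ v ∈ vd T (K true), y = g * v * g⁻¹}
  have hCT : C ≤ T := by
    refine (Subgroup.closure_le _).mpr ?_
    rintro y ⟨g, hg, v, hv, rfl⟩
    obtain ⟨n, hn⟩ := hall g⁻¹ (inv_mem hg)
    have h1 := hno n true g⁻¹ hn hv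
    rw [Local.mem_map_conj, inv_inv] at h1
    exact h1.1
  have hCn : Γ ≤ Subgroup.normalizer (C : Set G) := fun a ha => mem_normalizer_of_conj_mem fun y hy => by
    have hle : C ≤ C.comap (MulAut.conj a).toMonoidHom := (Subgroup.closure_le _).mpr (by
      rintro y ⟨g, hg, v, hv, rfl⟩
      exact Subgroup.subset_closure ⟨a * g, mul_mem ha hg, v, hv, by simp [mul_assoc]⟩)
    exact hle hy
  have hb := hcore C hCT (fun i => by cases i; exacts [le_sup_right.trans hCn, le_sup_left.trans hCn])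
  refine vd_ne_bot hP true (le_bot_iff.mp fun v hv => ?_)
  rw [← hb]
  exact Subgroup.subset_closure ⟨1, one_mem _, v, hv, by simp⟩

/-- Commutators of noncommuting elements give the labels. -/
theorem label_eq {i e : Bool} {g v u : G} (hv : v ∈ vd T (K i)) (hu : u ∈ vd T (K e)) (hgu : g * u * g⁻¹ ∈ T)
    (hgv : g⁻¹ * v * g ∈ T) (hne : ¬ Commute v (g * u * g⁻¹)) :
    (lk T (K e)).map (MulAut.conj g).toMonoidHom = lk T (K i) := by
  set c := cj (g * u * g⁻¹) v * v⁻¹ with hc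
  have hc1 : c ≠ 1 := fun e => hne (mul_inv_eq_iff_eq_mul.mp (mul_inv_eq_one.mp e)).symm
  have hci : c ∈ lk T (K i) := (hP i).comm_lab hgu hv
  have hce : c ∈ (lk T (K e)).map (MulAut.conj g).toMonoidHom := by
    rw [Local.mem_map_conj]
    have h := inv_mem ((hP e).comm_lab hgv hu)
    rwa [show (cj (g⁻¹ * v * g) u * u⁻¹)⁻¹ = g⁻¹ * c * g by simp [hc, cj, mul_assoc]] at h
  exact card_two_eq (by rw [Subgroup.card_map_of_injective (MulEquiv.injective (MulAut.conj g)), (hP e).labc])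
    (hP i).labc hce hci hc1

theorem exists_noncomm {i e : Bool} {g : G} (h1 : ∀ v ∈ vd T (K i), g⁻¹ * v * g ∈ T)
    (h : ¬ vd T (K i) ≤ (qd T (K e)).map (MulAut.conj g).toMonoidHom) :
    ∃ v ∈ vd T (K i), ∃ u ∈ vd T (K e), ¬ Commute v (g * u * g⁻¹) := by
  obtain ⟨v, hv, hvq⟩ := SetLike.not_le_iff_exists.mp h
  refine ⟨v, hv, ?_⟩
  by_contra hall
  push Not at hall
  refine hvq ?_
  rw [Local.mem_map_conj]
  refine ⟨h1 v hv, fun w hw => ?_⟩
  have hc := (hall w (Subgroup.mem_sup_left hw)).eq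
  calc w * (g⁻¹ * v * g) = g⁻¹ * ((g * w * g⁻¹) * v) * g := by group
    _ = g⁻¹ * (v * (g * w * g⁻¹)) * g := by rw [hc]
    _ = g⁻¹ * v * g * w := by group

/-- Distance one. -/
theorem one_label {i : Bool} (h : ¬ vd T (K i) ≤ qd T (K (!i))) :
    lk T (K i) = lk T (K (!i)) ∧ ∃ v ∈ vd T (K i), ∃ u ∈ vd T (K (!i)), ¬ Commute v u := by
  have h' : ¬ vd T (K i) ≤ (qd T (K (!i))).map (MulAut.conj (1 : G)).toMonoidHom := by rwa [conj_map_one]
  have hT : ∀ v ∈ vd T (K i), (1 : G)⁻¹ * v * 1 ∈ T := fun v hv => by simpa using (hP i).v_le_T hv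
  obtain ⟨v, hv, u, hu, hne⟩ := exists_noncomm hP hT h'
  have h2 := label_eq hP hv hu (by simpa using (hP (!i)).v_le_T hu) (hT v hv) hne
  rw [conj_map_one] at h2
  exact ⟨h2.symm, v, hv, u, hu, by simpa using hne⟩

/-- Distance one determines everything. -/
theorem one_structure (hcore : NoCore K T) {i : Bool} (h : ¬ vd T (K i) ≤ qd T (K (!i))) :
    qd T (K i) = vd T (K i) ∧ qd T (K (!i)) = vd T (K (!i)) ∧
      ∀ E : Subgroup G, IsElementaryAbelian 2 E → E ≤ T → E ≤ vd T (K i) ∨ E ≤ vd T (K (!i)) := by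
  obtain ⟨-, v, hv, u, hu, hne⟩ := one_label hP h
  set j := !i with hj
  set Qi := qd T (K i) with hQi
  set Qj := qd T (K j) with hQj
  have hvT := (hP i).v_le_T hv
  have huT := (hP j).v_le_T hu
  have hvQ : v ∉ Qj := fun hq => hne (mul_inv_eq_iff_eq_mul.mp ((hP j).q_fix hq hu))
  have huQ : u ∉ Qi := fun hq => hne (mul_inv_eq_iff_eq_mul.mp ((hP i).q_fix hq hv)).symm
  have hv2 : v * v = 1 := elem_sq (hP i).v_elem hv
  have hu2 : u * u = 1 := elem_sq (hP j).v_elem hu
  have hvi : v⁻¹ = v := inv_eq_of_mul_eq_one_right hv2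
  have hui : u⁻¹ = u := inv_eq_of_mul_eq_one_right hu2
  set D := Qi ⊓ Qj with hD
  have hDv : ∀ d ∈ D, d * v = v * d := fun d hd => mul_inv_eq_iff_eq_mul.mp ((hP i).q_fix hd.1 hv)
  have hDu : ∀ d ∈ D, d * u = u * d := fun d hd => mul_inv_eq_iff_eq_mul.mp ((hP j).q_fix hd.2 hu)
  have hdeci : ∀ q ∈ Qi, q ∈ D ∨ q * v ∈ D := fun q hq => by
    by_cases hqj : q ∈ Qj
    · exact Or.inl ⟨hq, hqj⟩
    refine Or.inr ⟨mul_mem hq ((hP i).v_le hv), ?_⟩
    have := (hP j).index_two (T.inv_mem hq.1) (fun h => hqj (by simpa using inv_mem h)) hvT hvQ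
    rwa [inv_inv] at this
  have hdecj : ∀ q ∈ Qj, q ∈ D ∨ q * u ∈ D := fun q hq => by
    by_cases hqi : q ∈ Qi
    · exact Or.inl ⟨hqi, hq⟩
    refine Or.inr ⟨?_, mul_mem hq ((hP j).v_le hu)⟩
    have := (hP i).index_two (T.inv_mem hq.1) (fun h => hqi (by simpa using inv_mem h)) huT huQ
    rwa [inv_inv] at this
  let Sq : Subgroup G := Subgroup.closure {y | ∃ d ∈ D, y = d * d}
  have hnorm : ∀ l, ∀ e ∈ vd T (K l), (∀ d ∈ D, d * e = e * d) → D ≤ qd T (K l) →
      (∀ q ∈ qd T (K l), q ∈ D ∨ q * e ∈ D) → e * e = 1 → K l ⊔ T ≤ Subgroup.normalizer (Sq : Set G) := by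
    intro l e _ hDe hDl hdec he2 g hg
    refine mem_normalizer_of_conj_mem fun y hy => ?_
    have hle : Sq ≤ Sq.comap (MulAut.conj g).toMonoidHom := by
      refine (Subgroup.closure_le _).mpr ?_
      rintro z ⟨d, hd, rfl⟩
      show g * (d * d) * g⁻¹ ∈ Sq
      have hq : g * d * g⁻¹ ∈ qd T (K l) := conj_mem' ((hP l).q_normal hg) (hDl hd)
      rw [show g * (d * d) * g⁻¹ = (g * d * g⁻¹) * (g * d * g⁻¹) by group]
      rcases hdec _ hq with h | h
      · exact Subgroup.subset_closure ⟨_, h, rfl⟩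
      · refine Subgroup.subset_closure ⟨_, h, ?_⟩
        set q := g * d * g⁻¹ with hqdef
        have hcq : e * q = q * e := by
          have h1 := hDe _ h
          calc e * q = e * (q * e) * e⁻¹ := by group
            _ = (q * e) * e * e⁻¹ := by rw [← h1]
            _ = q * e := by group
        symm
        calc q * e * (q * e) = q * (e * q) * e := by group
          _ = q * (q * e) * e := by rw [hcq]
          _ = q * q * (e * e) := by group
          _ = q * q := by rw [he2, mul_one]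
    exact hle hy
  have hSqb : Sq = ⊥ := hcore Sq ((Subgroup.closure_le _).mpr (by rintro y ⟨d, hd, rfl⟩; exact T.mul_mem hd.1.1 hd.1.1))
    fun l => by
      rcases (show l = i ∨ l = j by rw [hj]; cases l <;> cases i <;> simp) with rfl | rfl
      · exact hnorm _ v hv hDv inf_le_left hdeci hv2
      · exact hnorm _ u hu hDu inf_le_right hdecj hu2
  have hD2 : ∀ d ∈ D, d * d = 1 := fun d hd =>
    Subgroup.mem_bot.mp (hSqb ▸ (Subgroup.subset_closure ⟨d, hd, rfl⟩ : d * d ∈ Sq))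
  have hDab : ∀ d ∈ D, ∀ d' ∈ D, d * d' = d' * d := fun d hd d' hd' => by
    have e := inv_eq_of_mul_eq_one_right (hD2 _ (mul_mem hd hd'))
    rw [mul_inv_rev, inv_eq_of_mul_eq_one_right (hD2 d hd), inv_eq_of_mul_eq_one_right (hD2 d' hd')] at e
    exact e.symm
  have hTdec : ∀ t ∈ T, t ∈ Qi ∨ t * u ∈ Qi := fun t ht => by
    by_cases htq : t ∈ Qi
    · exact Or.inl htq
    · refine Or.inr ?_
      have := (hP i).index_two (T.inv_mem ht) (fun h => htq (by simpa using inv_mem h)) huT huQ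
      rwa [inv_inv] at this
  have hDZ : D ≤ omegaCenterOf T := by
    intro d hd
    refine Subgroup.subset_closure ⟨⟨hd.1.1, ?_⟩, by rw [pow_two]; exact hD2 d hd⟩
    intro t ht
    have hQc : ∀ q ∈ Qi, Commute q d := by
      intro q hq
      rcases hdeci q hq with h | h
      · exact hDab q h d hd
      · have h1 : Commute (q * v) d := hDab _ h d hd
        have h2 : Commute v⁻¹ d := (show Commute d v from hDv d hd).symm.inv_left
        have := h1.mul_left h2
        rwa [mul_inv_cancel_right] at this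
    rcases hTdec t ht with h | h
    · exact (hQc t h).eq
    · have h2 : Commute u⁻¹ d := (show Commute d u from hDu d hd).symm.inv_left
      have := (hQc _ h).mul_left h2
      rw [mul_inv_cancel_right] at this
      exact this.eq
  have hQiV : Qi = vd T (K i) := le_antisymm (fun q hq => by
    rcases hdeci q hq with h | h
    · exact (hP i).z_le (hDZ h)
    · have := mul_mem ((hP i).z_le (hDZ h)) (inv_mem hv)
      rwa [mul_inv_cancel_right] at this) (hP i).v_le
  have hQjV : Qj = vd T (K j) := le_antisymm (fun q hq => by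
    rcases hdecj q hq with h | h
    · exact (hP j).z_le (hDZ h)
    · have := mul_mem ((hP j).z_le (hDZ h)) (inv_mem hu)
      rwa [mul_inv_cancel_right] at this) (hP j).v_le
  refine ⟨hQiV, hQjV, fun E hE hET => ?_⟩
  rw [← hQiV, ← hQjV]
  by_contra hcon
  rw [not_or] at hcon
  obtain ⟨a, haE, haQ⟩ := SetLike.not_le_iff_exists.mp hcon.1
  obtain ⟨b, hbE, hbQ⟩ := SetLike.not_le_iff_exists.mp hcon.2
  obtain ⟨e, heE, hei, hej⟩ : ∃ e ∈ E, e ∉ Qi ∧ e ∉ Qj := by
    by_cases h1 : a ∈ Qj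
    · by_cases h2 : b ∈ Qi
      · refine ⟨a * b, E.mul_mem haE hbE, fun h => haQ ?_, fun h => hbQ ?_⟩
        · have := mul_mem h (inv_mem h2)
          rwa [mul_inv_cancel_right] at this
        · have := mul_mem (inv_mem h1) h
          rwa [inv_mul_cancel_left] at this
      · exact ⟨b, hbE, h2, hbQ⟩
    · exact ⟨a, haE, haQ, h1⟩
  have heu : e * u ∈ Qi := (hTdec e (hET heE)).resolve_left hei
  rcases hdeci _ heu with h | h
  · refine hej ?_
    have := mul_mem (show e * u ∈ Qj from h.2) (inv_mem ((hP j).v_le hu))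
    rwa [mul_inv_cancel_right] at this
  · obtain ⟨d, hd, hed⟩ : ∃ d ∈ D, e = d * v * u := ⟨e * u * v, h, by
      rw [mul_assoc (e * u) v v, hv2, mul_one, mul_assoc, hu2, mul_one]⟩
    have h1 : e * e = 1 := elem_sq hE heE
    have h3 : v * u * (v * u) = 1 := by
      calc v * u * (v * u) = (d * d) * (v * u * (v * u)) := by rw [hD2 d hd, one_mul]
        _ = d * (d * (v * u)) * (v * u) := by group
        _ = d * ((v * u) * d) * (v * u) := by rw [((show Commute d v from hDv d hd).mul_right (hDu d hd)).eq]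
        _ = e * e := by rw [hed]; group
        _ = 1 := h1
    refine hne ?_
    show v * u = u * v
    rw [← inv_eq_of_mul_eq_one_right h3, mul_inv_rev, hvi, hui]

variable {n : ℕ}

/-- Normal form of a critical pair. -/
theorem crit_normal {i : Bool} {g : G} (hg : g ∈ rs K T i (n + 2))
    (hc : ¬ vd T (K i) ≤ (qd T (K (ty i (n + 2)))).map (MulAut.conj g).toMonoidHom) :
    ∃ g', g' ∈ rs K T i (n + 1) ∧ g' ∈ rs K T (!i) (n + 1) ∧
      ¬ vd T (K i) ≤ (qd T (K (ty i (n + 2)))).map (MulAut.conj g').toMonoidHom := by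
  obtain ⟨h2, hh2, p, hp, rfl⟩ := hg
  obtain ⟨y, hy, h, hh, e⟩ := rs_cons (rs_step hh2 hp)
  refine ⟨y⁻¹ * h2, rs_left hh2 (inv_mem hy), ?_, fun hle => hc ?_⟩
  · rw [show y⁻¹ * h2 = h * p⁻¹ by
      calc y⁻¹ * h2 = y⁻¹ * (h2 * p) * p⁻¹ := by group
        _ = h * p⁻¹ := by rw [e]; group]
    exact rs_right hh (by rw [ty_shift]; exact inv_mem hp)
  · have h1 := Subgroup.map_mono (f := (MulAut.conj y).toMonoidHom) hle
    rw [v_map hP hy, conj_map_map, mul_inv_cancel_left] at h1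
    rwa [← conj_map_map, q_map hP hp]

theorem below_mem (hb : Below K T (n + 2)) {m : ℕ} (hm : m < n + 2) {i : Bool} {g v : G} (hg : g ∈ rs K T i m)
    (hv : v ∈ vd T (K i)) : g⁻¹ * v * g ∈ qd T (K (ty i m)) :=
  Local.mem_map_conj.mp (hb m hm i g hg hv)

theorem below_one (hb : Below K T (n + 2)) (i : Bool) : vd T (K i) ≤ qd T (K (!i)) := fun v hv => by
  have := below_mem hP hb (show 1 < n + 2 by omega) (rs_mem_succ (one_mem (K i ⊔ T) : (1 : G) ∈ rs K T i 0)) hv
  simpa [ty] using this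

/-- The basic facts on a critical pair in normal form. -/
theorem crit_label (hb : Below K T (n + 2)) {i : Bool} {g : G} (h1 : g ∈ rs K T i (n + 1))
    (h2 : g ∈ rs K T (!i) (n + 1))
    (hc : ¬ vd T (K i) ≤ (qd T (K (ty i (n + 2)))).map (MulAut.conj g).toMonoidHom) :
    (∀ v ∈ vd T (K (ty i (n + 2))), g * v * g⁻¹ ∈ qd T (K (!i))) ∧
      (lk T (K (ty i (n + 2)))).map (MulAut.conj g).toMonoidHom = lk T (K i) ∧
      ∃ v ∈ vd T (K i), ∃ u ∈ vd T (K (ty i (n + 2))), ¬ Commute v (g * u * g⁻¹) := by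
  have hright : ∀ v ∈ vd T (K (ty i (n + 2))), g * v * g⁻¹ ∈ qd T (K (!i)) := by
    intro v hv
    have h := rs_inv h2
    rw [ty_shift] at h
    have hm := below_mem hP hb (show n + 1 < n + 2 by omega) h hv
    rwa [← ty_shift i (n + 1), ty_ty, inv_inv] at hm
  have hleft : ∀ v ∈ vd T (K i), g⁻¹ * v * g ∈ T := fun v hv => (below_mem hP hb (by omega) h1 hv).1
  obtain ⟨v, hv, u, hu, hne⟩ := exists_noncomm hP hleft hc
  exact ⟨hright, label_eq hP hv hu (hright u hu).1 (hleft v hv) hne, v, hv, u, hu, hne⟩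

/-- Either a neighbour gives a normal join, or a neighbour is critical and the labels coincide. -/
theorem neighbour (hb : Below K T (n + 2)) {i : Bool} {g : G} (h1 : g ∈ rs K T i (n + 1))
    (h2 : g ∈ rs K T (!i) (n + 1))
    (hc : ¬ vd T (K i) ≤ (qd T (K (ty i (n + 2)))).map (MulAut.conj g).toMonoidHom) :
    K i ⊔ T ≤ Subgroup.normalizer ((vd T (K i) ⊔ vd T (K (!i)) : Subgroup G) : Set G) ∨
      (lk T (K (!i)) ≤ ck T (K i) ∧
        ∃ g', g' ∈ rs K T (!i) (n + 2) ∧
          ¬ vd T (K (!i)) ≤ (qd T (K (ty (!i) (n + 2)))).map (MulAut.conj g').toMonoidHom) := by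
  obtain ⟨x, hxK, hx3T, hx3, hsum, hdec⟩ := (hP i).data
  set j := !i with hj
  set e := ty i (n + 2) with he
  have hxP : x ∈ K i ⊔ T := Subgroup.mem_sup_left hxK
  have hje : ty j (n + 2) = !e := by rw [hj, ty_not]
  by_cases hall : ∀ s : G, s = x ∨ s = x * x →
      ¬ vd T (K j) ≤ (qd T (K (!e))).map (MulAut.conj (s⁻¹ * g)).toMonoidHom
  · right
    have hin : ∀ s, s = x ∨ s = x * x → s ∈ K i ⊔ T := by
      rintro s (rfl | rfl)
      exacts [hxP, mul_mem hxP hxP]
    have hrs : ∀ s, s = x ∨ s = x * x → s⁻¹ * g ∈ rs K T j (n + 2) := fun s hs => by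
      have hg' : s⁻¹ * g ∈ rs K T i (n + 1) := rs_left h1 (inv_mem (hin s hs))
      have := rs_prepend (i := j) (one_mem (K j ⊔ T)) (g := s⁻¹ * g) (n := n + 1)
        (by rw [hj, Bool.not_not]; exact hg')
      rwa [one_mul] at this
    refine ⟨?_, x⁻¹ * g, hrs x (Or.inl rfl), by rw [hje]; exact hall x (Or.inl rfl)⟩
    obtain ⟨h, hh, p, hp, hgp⟩ := h1
    have hgp' : g = h * p := hgp.symm
    have hqh : ∀ s : G, (qd T (K (!e))).map (MulAut.conj (s⁻¹ * g)).toMonoidHom =
        (qd T (K (!e))).map (MulAut.conj (s⁻¹ * h)).toMonoidHom := fun s => by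
      have hp' : p ∈ K (!e) ⊔ T := by
        have : ty i (n + 1) = !e := by rw [he]; show _ = !(!(ty i (n + 1))); rw [Bool.not_not]
        rw [← this]; exact hp
      rw [hgp', ← mul_assoc, ← conj_map_map, q_map hP hp']
    have key : ∀ s, s = x ∨ s = x * x →
        (lk T (K (!e))).map (MulAut.conj h).toMonoidHom = (lk T (K j)).map (MulAut.conj s).toMonoidHom := by
      intro s hs
      have hs' := hall s hs
      rw [hqh s] at hs'
      have hh' : s⁻¹ * h ∈ rs K T i n := rs_left hh (inv_mem (hin s hs))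
      have hpre : s⁻¹ * h ∈ rs K T j (n + 1) := by
        have := rs_prepend (i := j) (one_mem (K j ⊔ T)) (g := s⁻¹ * h) (n := n) (by rw [hj, Bool.not_not]; exact hh')
        rwa [one_mul] at this
      have hleft : ∀ v ∈ vd T (K j), (s⁻¹ * h)⁻¹ * v * (s⁻¹ * h) ∈ T := fun v hv =>
        (below_mem hP hb (by omega) hpre hv).1
      obtain ⟨v, hv, u, hu, hne⟩ := exists_noncomm hP hleft hs'
      have hgu : s⁻¹ * h * u * (s⁻¹ * h)⁻¹ ∈ T := by
        have hti : ty i (n + 1) = !e := by rw [he]; show _ = !(!(ty i (n + 1))); rw [Bool.not_not]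
        have hmem : h ∈ rs K T i (n + 1) := rs_mem_succ hh
        have hi := rs_inv hmem
        have hq := below_mem hP hb (show n + 1 < n + 2 by omega) hi (v := u) (by rw [hti]; exact hu)
        rw [ty_ty, inv_inv] at hq
        have h3 := conj_mem' ((hP i).q_normal (inv_mem (hin s hs))) hq
        rw [show s⁻¹ * (h * u * h⁻¹) * s⁻¹⁻¹ = s⁻¹ * h * u * (s⁻¹ * h)⁻¹ by group] at h3
        exact h3.1
      have h4 := congrArg (Subgroup.map (MulAut.conj s).toMonoidHom) (label_eq hP hv hu hgu (hleft v hv) hne)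
      rwa [conj_map_map, mul_inv_cancel_left] at h4
    have heq : (lk T (K j)).map (MulAut.conj x).toMonoidHom = (lk T (K j)).map (MulAut.conj (x * x)).toMonoidHom :=
      (key x (Or.inl rfl)).symm.trans (key (x * x) (Or.inr rfl))
    obtain ⟨w, hw, hw1, hwl⟩ := (hP j).lab_elt
    have hxw : cj x w = w := by
      have h1' : cj (x * x) w ∈ (lk T (K j)).map (MulAut.conj x).toMonoidHom := heq ▸ ⟨w, hw, rfl⟩
      obtain ⟨a, ha, hae⟩ := h1'
      have ha1 : a ≠ 1 := by
        rintro rfl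
        exact hw1 (conj_eq_one_iff.mp (hae.symm.trans (map_one _)) : w = 1)
      rw [(hwl a ha).resolve_left ha1] at hae
      rw [cj_comp] at hae
      exact ((MulAut.conj x).injective hae).symm
    intro a ha
    rcases hwl a ha with rfl | rfl
    · exact one_mem _
    refine ⟨ha.1, fun k hk => ?_⟩
    have hsub : K i ⊔ T ≤ Subgroup.centralizer ({a} : Set G) := by
      intro y hy
      obtain ⟨m, t, ht, rfl⟩ := hdec y hy
      exact mul_mem (Subgroup.pow_mem _ (Subgroup.mem_centralizer_singleton_iff.mpr (mul_inv_eq_iff_eq_mul.mp hxw)) m)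
        (Subgroup.mem_centralizer_singleton_iff.mpr (omegaCenterOf_le_centralizer T ha.1 t ht))
    exact Subgroup.mem_centralizer_singleton_iff.mp (hsub (Subgroup.mem_sup_left hk))
  · left
    push Not at hall
    obtain ⟨s, hs, hle⟩ := hall
    have hsP : s ∈ K i ⊔ T := by rcases hs with rfl | rfl; exacts [hxP, mul_mem hxP hxP]
    obtain ⟨hright, hlab, v0, hv0, u0, hu0, hne⟩ := crit_label hP hb h1 h2 hc
    set u := g * u0 * g⁻¹ with hu
    have huT : u ∈ T := (hright u0 hu0).1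
    have huQ : u ∉ qd T (K i) := fun hq => hne (mul_inv_eq_iff_eq_mul.mp ((hP i).q_fix hq hv0)).symm
    set U := vd T (K i) ⊔ (vd T (K j)).map (MulAut.conj s).toMonoidHom with hU
    set N := Subgroup.normalizer (U : Set G) with hN
    have hboth : ∀ y, y ∈ K i ⊔ T → s⁻¹ * y * s ∈ T → y ∈ N := by
      intro y hy hyT
      refine Local.mem_normalizer_of_map_conj_eq ?_
      rw [hU, Subgroup.map_sup, v_map hP hy, conj_map_map, show y * s = s * (s⁻¹ * y * s) by group, ← conj_map_map,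
        v_map hP (i := j) (Subgroup.mem_sup_right hyT)]
    have huN : u ∈ N := by
      refine mem_normalizer_of_conj_mem fun y hy => ?_
      have hle' : U ≤ U.comap (MulAut.conj u).toMonoidHom := by
        refine sup_le (fun y hy => Subgroup.mem_sup_left (conj_mem' ((hP i).v_normal (Subgroup.mem_sup_right huT)) hy)) ?_
        rintro _ ⟨d, hd, rfl⟩
        show u * (s * d * s⁻¹) * u⁻¹ ∈ U
        have hd' := hle hd
        rw [Local.mem_map_conj] at hd'
        set d' := s * d * s⁻¹ with hd'def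
        have hdT : g⁻¹ * d' * g ∈ T := by
          rw [show g⁻¹ * d' * g = (s⁻¹ * g)⁻¹ * d * (s⁻¹ * g) by rw [hd'def]; group]
          exact hd'.1
        have hc1 := inv_mem ((hP e).comm_lab hdT hu0)
        have hc2 : cj u d' * d'⁻¹ ∈ lk T (K i) := by
          rw [← hlab, Local.mem_map_conj]
          rwa [show (cj (g⁻¹ * d' * g) u0 * u0⁻¹)⁻¹ = g⁻¹ * (cj u d' * d'⁻¹) * g by
            simp [hu, cj, mul_assoc]] at hc1
        have h3 : (cj u d' * d'⁻¹) * d' ∈ U :=
          mul_mem (Subgroup.mem_sup_left ((hP i).z_le hc2.1)) (Subgroup.mem_sup_right ⟨d, hd, rfl⟩)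
        rwa [inv_mul_cancel_right] at h3
      exact hle' hy
    have hQN : qd T (K i) ≤ N := fun y hy => by
      have h3 := conj_mem' ((hP i).q_normal (inv_mem hsP)) hy
      rw [inv_inv] at h3
      exact hboth y (Subgroup.mem_sup_right hy.1) h3.1
    have hTN : T ≤ N := fun t ht => by
      by_cases htq : t ∈ qd T (K i)
      · exact hQN htq
      · have h3 := (hP i).index_two huT huQ ht htq
        have := N.mul_mem huN (hQN h3)
        rwa [mul_inv_cancel_left] at this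
    obtain ⟨w, hw, hw1, hwl⟩ := (hP i).lab_elt
    have hgN : s * u * s⁻¹ ∈ N := hboth _ (mul_mem (mul_mem hsP (Subgroup.mem_sup_right huT)) (inv_mem hsP))
      (by rwa [show s⁻¹ * (s * u * s⁻¹) * s = u by group])
    have hmove : cj (s * u * s⁻¹) w ≠ w := by
      intro e1
      have e2 : cj u (cj s⁻¹ w) = cj s⁻¹ w := by
        rw [cj_comp, cj_comp] at e1
        have := congrArg (cj s⁻¹) e1
        rwa [← cj_comp s⁻¹ s, inv_mul_cancel, show ∀ y, cj (1 : G) y = y from fun y => by simp [cj]] at this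
      have hsw : cj s⁻¹ w ∈ vd T (K i) :=
        Subgroup.mem_sup_left (conj_mem' ((hP i).norm_w (inv_mem hsP)) hw.2)
      have hz : cj s⁻¹ w ∈ omegaCenterOf T := by
        by_contra hz; exact (hP i).moved huT huQ hsw hz e2
      have hlk : cj s⁻¹ w ∈ lk T (K i) := ⟨hz, conj_mem' ((hP i).norm_w (inv_mem hsP)) hw.2⟩
      obtain ⟨hxne, -, -⟩ := (hP i).four hxK hsum hw.2 hw1
      rcases hwl _ hlk with r | r
      · exact hw1 ((MulAut.conj s⁻¹).injective (r.trans (map_one _).symm))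
      · have r' : cj s w = w := by
          have := congrArg (cj s) r
          rwa [← cj_comp, mul_inv_cancel, show cj (1 : G) w = w by simp [cj], eq_comm] at this
        rcases hs with hs | hs <;> rw [hs] at r'
        · exact hxne r'
        · rw [cj_comp] at r'
          exact hxne ((congrArg (cj x) r').symm.trans (hx3 w hw.2))
    have hPN := (hP i).le_of_moves hTN hgN (mul_mem (mul_mem hsP (Subgroup.mem_sup_right huT)) (inv_mem hsP)) hw hmove
    have heU : U = vd T (K i) ⊔ vd T (K j) := by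
      rw [← Local.map_conj_eq_of_mem_normalizer (hPN (inv_mem hsP)), hU, Subgroup.map_sup, v_map hP (inv_mem hsP),
        conj_map_map, inv_mul_cancel, conj_map_one]
    rw [← heU]; exact hPN

theorem join_normal_cases {i : Bool} (hb : Below K T (n + 2)) (hcore : NoCore K T)
    (hU : K i ⊔ T ≤ Subgroup.normalizer ((vd T (K i) ⊔ vd T (K (!i)) : Subgroup G) : Set G)) :
    lk T (K (!i)) ≤ ck T (K i) := by
  set j := !i with hj
  by_contra hnot
  obtain ⟨x, hxK, hx3T, -, hsum, hdec⟩ := (hP i).data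
  have hxP : x ∈ K i ⊔ T := Subgroup.mem_sup_left hxK
  obtain ⟨w, hw, hw1, hwl⟩ := (hP j).lab_elt
  have hxw : cj x w ≠ w := by
    intro hxw
    refine hnot fun a ha => ?_
    rcases hwl a ha with rfl | rfl
    · exact one_mem _
    refine ⟨ha.1, fun k hk => ?_⟩
    have hsub : K i ⊔ T ≤ Subgroup.centralizer ({a} : Set G) := by
      intro y hy
      obtain ⟨m, t, ht, rfl⟩ := hdec y hy
      exact mul_mem (Subgroup.pow_mem _ (Subgroup.mem_centralizer_singleton_iff.mpr (mul_inv_eq_iff_eq_mul.mp hxw)) m)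
        (Subgroup.mem_centralizer_singleton_iff.mpr (omegaCenterOf_le_centralizer T ha.1 t ht))
    exact Subgroup.mem_centralizer_singleton_iff.mp (hsub (Subgroup.mem_sup_left hk))
  have hUx : vd T (K i) ⊔ (vd T (K j)).map (MulAut.conj x).toMonoidHom = vd T (K i) ⊔ vd T (K j) := by
    conv_rhs => rw [← Local.map_conj_eq_of_mem_normalizer (hU hxP), Subgroup.map_sup, v_map hP hxP]
  have hqc : qd T (K i) ≤ qd T (K j) := by
    intro q hq
    have hq' : x⁻¹ * q * x ∈ T := by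
      have h3 := conj_mem' ((hP i).q_normal (inv_mem hxP)) hq
      rw [inv_inv] at h3
      exact h3.1
    refine ⟨hq.1, fun u hu => ?_⟩
    have huU : u ∈ vd T (K i) ⊔ (vd T (K j)).map (MulAut.conj x).toMonoidHom :=
      hUx ▸ Subgroup.mem_sup_right (Subgroup.mem_sup_left hu)
    have hnorm : (vd T (K j)).map (MulAut.conj x).toMonoidHom ≤ Subgroup.normalizer (vd T (K i) : Set G) := by
      rintro _ ⟨b, hb', rfl⟩
      exact (hP i).v_normal (mul_mem (mul_mem hxP (Subgroup.mem_sup_right ((hP j).v_le_T hb'))) (inv_mem hxP))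
    have huU' : u ∈ ((vd T (K i) ⊔ (vd T (K j)).map (MulAut.conj x).toMonoidHom : Subgroup G) : Set G) := huU
    rw [Subgroup.coe_mul_of_right_le_normalizer_left _ _ hnorm] at huU'
    obtain ⟨a, ha, _, ⟨b, hb', rfl⟩, hab⟩ := huU'
    set c' := cj (x⁻¹ * q * x) b * b⁻¹ with hc'
    have hc'm : c' ∈ lk T (K j) := (hP j).comm_lab hq' hb'
    have hxc : cj x c' ∈ vd T (K i) := conj_mem' ((hP i).v_normal hxP) ((hP i).z_le hc'm.1)
    have hcu : cj q u * u⁻¹ = cj x c' := by
      calc cj q u * u⁻¹ = cj q (a * (x * b * x⁻¹)) * (a * (x * b * x⁻¹))⁻¹ := by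
            rw [show a * (x * b * x⁻¹) = u from hab]
        _ = cj q a * cj x c' * a⁻¹ := by rw [hc']; simp [cj, mul_assoc]
        _ = cj x c' := by
            rw [(hP i).q_fix hq ha, elem_comm (hP i).v_elem ha hxc, mul_inv_cancel_right]
    have hcu' : cj q u * u⁻¹ ∈ lk T (K j) := (hP j).comm_lab hq.1 (Subgroup.mem_sup_left hu)
    have hone : cj q u * u⁻¹ = 1 := by
      by_contra h1
      have e1 := (hwl _ hcu').resolve_left h1
      rw [hcu] at e1 h1
      have e2 := (hwl _ hc'm).resolve_left fun e0 => h1 (by rw [e0]; simp [cj])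
      rw [e2] at e1
      exact hxw e1
    exact (mul_inv_eq_iff_eq_mul.mp (mul_inv_eq_one.mp hone)).symm
  have hqe : qd T (K i) = qd T (K j) := by
    refine le_antisymm hqc fun t ht => ?_
    by_contra htq
    obtain ⟨t', ht', ht'q⟩ := (hP j).exists_out
    refine ht'q ?_
    by_cases h : t' ∈ qd T (K i)
    · exact hqc h
    · have := mul_mem ht (hqc ((hP i).index_two ht.1 htq ht' h))
      rwa [mul_inv_cancel_left] at this
  have hbot := hcore (qd T (K i)) inf_le_left fun l => by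
    rcases (show l = i ∨ l = j by rw [hj]; cases l <;> cases i <;> simp) with rfl | rfl
    · exact (hP _).q_normal
    · rw [hqe]; exact (hP _).q_normal
  exact vd_ne_bot hP i (le_bot_iff.mp (hbot ▸ (hP i).v_le))

theorem join_core_normal {i : Bool} (hb : Below K T (n + 2))
    (hU : K i ⊔ T ≤ Subgroup.normalizer ((vd T (K i) ⊔ vd T (K (!i)) : Subgroup G) : Set G)) :
    K i ⊔ T ≤ Subgroup.normalizer ((qd T (K i) ⊓ qd T (K (!i)) : Subgroup G) : Set G) := by
  set U := vd T (K i) ⊔ vd T (K (!i)) with hU'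
  have heq : qd T (K i) ⊓ qd T (K (!i)) = qd T (K i) ⊓ Subgroup.centralizer (U : Set G) := by
    refine le_antisymm (fun q hq => ⟨hq.1, ?_⟩) fun q hq => ⟨hq.1, hq.1.1, fun w hw => hq.2 w
      (Subgroup.mem_sup_right (Subgroup.mem_sup_left hw))⟩
    have hle : U ≤ Subgroup.centralizer ({q} : Set G) := sup_le
      (fun v hv => Subgroup.mem_centralizer_singleton_iff.mpr (mul_inv_eq_iff_eq_mul.mp ((hP i).q_fix hq.1 hv)).symm)
      (fun v hv => Subgroup.mem_centralizer_singleton_iff.mpr (mul_inv_eq_iff_eq_mul.mp ((hP (!i)).q_fix hq.2 hv)).symm)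
    exact fun v hv => Subgroup.mem_centralizer_singleton_iff.mp (hle hv)
  intro g hg
  refine Local.mem_normalizer_of_map_conj_eq ?_
  rw [heq, Subgroup.map_inf _ _ _ (MulEquiv.injective (MulAut.conj g)), q_map hP hg]
  congr 1
  ext y
  constructor
  · rintro ⟨c, hc, rfl⟩ v hv
    have hv' : g⁻¹ * v * g ∈ U := by
      have := conj_mem' (inv_mem (hU hg)) hv
      rwa [inv_inv] at this
    show v * (g * c * g⁻¹) = g * c * g⁻¹ * v
    calc v * (g * c * g⁻¹) = g * ((g⁻¹ * v * g) * c) * g⁻¹ := by group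
      _ = g * (c * (g⁻¹ * v * g)) * g⁻¹ := by rw [hc _ hv']
      _ = g * c * g⁻¹ * v := by group
  · intro hy
    refine ⟨g⁻¹ * y * g, fun v hv => ?_, by simp [mul_assoc]⟩
    have hv' : g * v * g⁻¹ ∈ U := conj_mem' (hU hg) hv
    calc v * (g⁻¹ * y * g) = g⁻¹ * ((g * v * g⁻¹) * y) * g := by group
      _ = g⁻¹ * (y * (g * v * g⁻¹)) * g := by rw [hy _ hv']
      _ = g⁻¹ * y * g * v := by group

/-- A critical pair of length at least two puts the neighbouring label into the fixed part. -/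
theorem lab_of_crit (hb : Below K T (n + 2)) (hcore : NoCore K T) {i : Bool} {g : G} (hg : g ∈ rs K T i (n + 2))
    (hc : ¬ vd T (K i) ≤ (qd T (K (ty i (n + 2)))).map (MulAut.conj g).toMonoidHom) :
    lk T (K (!i)) ≤ ck T (K i) := by
  obtain ⟨g', h1, h2, hc'⟩ := crit_normal hP hg hc
  rcases neighbour hP hb h1 h2 hc' with h | ⟨h, -⟩
  · exact join_normal_cases hP hb hcore h
  · exact h

theorem crit_rev (hb : Below K T (n + 2)) {i : Bool} {g : G} (h1 : g ∈ rs K T i (n + 1))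
    (h2 : g ∈ rs K T (!i) (n + 1))
    (hc : ¬ vd T (K i) ≤ (qd T (K (ty i (n + 2)))).map (MulAut.conj g).toMonoidHom) :
    g⁻¹ ∈ rs K T (ty i (n + 2)) (n + 2) ∧
      ¬ vd T (K (ty i (n + 2))) ≤ (qd T (K i)).map (MulAut.conj g⁻¹).toMonoidHom := by
  obtain ⟨-, -, v, hv, u, hu, hne⟩ := crit_label hP hb h1 h2 hc
  refine ⟨?_, fun hle => ?_⟩
  · have h := rs_inv h2
    rw [ty_shift] at h
    exact rs_mem_succ h
  · have h := hle hu
    rw [Local.mem_map_conj, inv_inv] at h
    exact hne (mul_inv_eq_iff_eq_mul.mp ((hP i).q_fix h hv)).symm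

/-- The symmetric configuration is impossible. -/
theorem mutual_false {i : Bool} (h1 : ∀ l, vd T (K l) ≤ qd T (K (!l)))
    (hli : lk T (K i) ≤ ck T (K (!i))) (hlj : lk T (K (!i)) ≤ ck T (K i))
    {k : G} (hk : k ∈ K (!i)) (hne : ∃ a ∈ vd T (K i), ∃ a' ∈ vd T (K i), ¬ Commute a (k * a' * k⁻¹))
    (halt : (K i ⊔ T ≤ Subgroup.normalizer ((qd T (K i) ⊓ qd T (K (!i)) : Subgroup G) : Set G)) ∨
      ∃ k' ∈ K i, ∃ b ∈ vd T (K (!i)), ∃ b' ∈ vd T (K (!i)), ¬ Commute b (k' * b' * k'⁻¹)) : False := by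
  set j := !i with hj
  have hi1 : vd T (K i) ≤ qd T (K j) := h1 i
  have hj1 : vd T (K j) ≤ qd T (K i) := by
    have := h1 j
    rwa [hj, Bool.not_not] at this
  obtain ⟨x, hxK, hx3T, hx3, hsum, hdec⟩ := (hP j).data
  have hxP : x ∈ K j ⊔ T := Subgroup.mem_sup_left hxK
  set Z := omegaCenterOf T with hZ
  -- elements of `Q_j` commute with the centre and its translates
  have hQj : ∀ z ∈ vd T (K j), ∀ q ∈ qd T (K j), Commute z q := fun z hz q hq =>
    (mul_inv_eq_iff_eq_mul.mp ((hP j).q_fix hq hz)).symm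
  obtain ⟨a, ha, a', ha', hne⟩ := hne
  obtain ⟨l, t, ht, hkt⟩ := hdec k (Subgroup.mem_sup_left hk)
  set b := t * a' * t⁻¹ with hb
  have hbV : b ∈ vd T (K i) := conj_mem' ((hP i).v_normal (Subgroup.mem_sup_right ht)) ha'
  have hne' : ¬ Commute a (cj (x ^ l) b) := by
    rwa [show k * a' * k⁻¹ = cj (x ^ l) b by rw [hkt, hb]; simp [cj, mul_assoc]] at hne
  have hxq : ∀ m : ℕ, ∀ q ∈ qd T (K j), cj (x ^ m) q ∈ qd T (K j) := fun m q hq =>
    conj_mem' ((hP j).q_normal (Subgroup.pow_mem _ hxP m)) hq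
  have haz : a ∉ Z := fun h => hne' (hQj a ((hP j).z_le h) _ (hxq l _ (hi1 hbV)))
  -- reduce the exponent
  have hred : cj (x ^ l) b = cj (x ^ (l % 3)) (cj ((x ^ 3) ^ (l / 3)) b) := by
    rw [← cj_comp (x ^ (l % 3)), ← pow_mul, ← pow_add, Nat.mod_add_div]
  set b1 := cj ((x ^ 3) ^ (l / 3)) b with hb1
  have hb1V : b1 ∈ vd T (K i) := conj_mem' ((hP i).v_normal (Subgroup.mem_sup_right (T.pow_mem hx3T _))) hbV
  rw [hred] at hne'
  set u0 := a with hu0
  set u1 := cj x u0 with hu1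
  set u2 := cj x u1 with hu2
  set u3 := cj x u2 with hu3
  have hu0Q : u0 ∈ qd T (K j) := hi1 ha
  have hu1Q : u1 ∈ qd T (K j) := by simpa using hxq 1 u0 hu0Q
  have hu2Q : u2 ∈ qd T (K j) := conj_mem' ((hP j).q_normal hxP) hu1Q
  have hu3Q : u3 ∈ qd T (K j) := conj_mem' ((hP j).q_normal hxP) hu2Q
  have hu3' : u3 = cj (x ^ 3) u0 := by rw [hu3, hu2, hu1, pow_succ, pow_two, cj_comp, cj_comp]
  have hu3V : u3 ∈ vd T (K i) := hu3' ▸ conj_mem' ((hP i).v_normal (Subgroup.mem_sup_right hx3T)) ha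
  have hu3z : u3 ∉ Z := by
    rw [hu3']
    intro h
    refine haz ?_
    have e := (hP i).fix_lab (T.inv_mem hx3T) h
    rw [← cj_comp, inv_mul_cancel, show cj (1 : G) u0 = u0 by simp [cj]] at e
    rwa [← e] at h
  have hswap : ∀ {p q r : G}, p * q ∈ Z → r ∈ qd T (K j) → q * q = 1 → Commute q r → Commute p r := by
    intro p q r hpq hr hq2 hc
    have h := (hQj _ ((hP j).z_le hpq) r hr).mul_left hc
    rwa [mul_assoc, hq2, mul_one] at h
  have h03 : u0 * u3 ∈ Z := (hP i).coset ha haz hu3V hu3z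
  have h30 : u3 * u0 ∈ Z := (hP i).coset hu3V hu3z ha haz
  have hu0sq : u0 * u0 = 1 := elem_sq (hP i).v_elem ha
  have hu3sq : u3 * u3 = 1 := elem_sq (hP i).v_elem hu3V
  have hcx : ∀ {p q : G}, Commute p q ↔ Commute (cj x p) (cj x q) := by
    intro p q
    constructor
    · exact fun h => h.map (MulAut.conj x)
    · intro h
      have := h.map (MulAut.conj x⁻¹)
      have e : ∀ y, (MulAut.conj x⁻¹) (cj x y) = y := fun y => by simp [cj, mul_assoc]
      rwa [e, e] at this
  -- pairwise noncommuting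
  have n01 : ¬ Commute u0 u1 := by
    intro h01
    rcases (show l % 3 = 0 ∨ l % 3 = 1 ∨ l % 3 = 2 by omega) with h | h | h <;> rw [h] at hne'
    · refine hne' ?_
      rw [pow_zero, show cj (1 : G) b1 = b1 by simp [cj]]
      exact elem_comm (hP i).v_elem ha hb1V
    all_goals
      by_cases hbz : b1 ∈ Z
      · refine hne' (hQj _ (conj_mem' ((hP j).v_normal (Subgroup.pow_mem _ hxP _)) ((hP j).z_le hbz)) u0 hu0Q).symm
    all_goals have hzb : b1 * u0 ∈ Z := (hP i).coset hb1V hbz ha haz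
    · refine hne' ?_
      rw [pow_one]
      have hz1 : Commute u0 (cj x (b1 * u0)) :=
        (hQj _ (conj_mem' ((hP j).v_normal hxP) ((hP j).z_le hzb)) u0 hu0Q).symm
      have := hz1.mul_right h01
      rwa [show cj x (b1 * u0) * u1 = cj x b1 by
        rw [hu1]; simp [cj, mul_assoc]; rw [← mul_assoc u0 u0, hu0sq, one_mul]] at this
    · refine hne' ?_
      have h13 : Commute u1 u3 := (hswap h30 hu1Q hu0sq h01).symm
      have h02 : Commute u0 u2 := hcx.mpr (by rw [← hu3, ← hu1]; exact h13)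
      rw [pow_two, cj_comp]
      have hz1 : Commute u0 (cj x (cj x (b1 * u0))) :=
        (hQj _ (conj_mem' ((hP j).v_normal hxP) (conj_mem' ((hP j).v_normal hxP) ((hP j).z_le hzb))) u0 hu0Q).symm
      have := hz1.mul_right h02
      rwa [show cj x (cj x (b1 * u0)) * u2 = cj x (cj x b1) by
        rw [hu2, hu1]; simp [cj, mul_assoc]; rw [← mul_assoc u0 u0, hu0sq, one_mul]] at this
  have n12 : ¬ Commute u1 u2 := fun h => n01 (hcx.mpr (by rw [← hu1, ← hu2]; exact h))
  have n02 : ¬ Commute u0 u2 := fun h => n12 (hcx.mpr (by rw [← hu2, ← hu3]; exact (hswap h30 hu2Q hu0sq h).symm))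
  obtain ⟨v, hv, hv1, hvl⟩ := (hP i).lab_elt
  have hvc := hli hv
  have hxv : cj x v = v := by
    show x * v * x⁻¹ = v
    rw [hvc.2 x hxK, mul_inv_cancel_right]
  have rel0 : ∀ q ∈ qd T (K j), ¬ Commute u0 q → q * u0 = v * (u0 * q) := by
    intro q hq hn
    rcases hvl _ ((hP i).comm_lab hq.1 ha) with e | e
    · exact absurd (mul_inv_eq_iff_eq_mul.mp (mul_inv_eq_one.mp e)).symm hn
    · rw [← e]; simp [cj, mul_assoc]
  have r10 : u1 * u0 = v * (u0 * u1) := rel0 u1 hu1Q n01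
  have r20 : u2 * u0 = v * (u0 * u2) := rel0 u2 hu2Q n02
  have r21 : u2 * u1 = v * (u1 * u2) := by
    have h := congrArg (cj x) r10
    rw [show cj x (u1 * u0) = u2 * u1 by rw [hu2, hu1]; simp [cj, mul_assoc],
      show cj x (v * (u0 * u1)) = cj x v * (u1 * u2) by rw [hu2, hu1]; simp [cj, mul_assoc], hxv] at h
    exact h
  have hvcomm : ∀ q ∈ T, Commute v q := fun q hq => ((omegaCenterOf_le_centralizer T hv.1) q hq).symm
  have hv2 : v * v = 1 := elem_sq (omegaCenterOf_elem T) hv.1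
  have sqx : ∀ p : G, p * p = 1 → cj x p * cj x p = 1 := fun p hp => by
    rw [show cj x p * cj x p = x * (p * p) * x⁻¹ by simp [cj, mul_assoc], hp, mul_one, mul_inv_cancel]
  have hu1sq : u1 * u1 = 1 := sqx u0 hu0sq
  have hu2sq : u2 * u2 = 1 := sqx u1 hu1sq
  set s := u0 * u1 * u2 with hs
  have hsu : s * u0 = u0 * s := by
    calc s * u0 = u0 * u1 * (u2 * u0) := by rw [hs]; group
      _ = u0 * (u1 * v) * u0 * u2 := by rw [r20]; group
      _ = u0 * (v * u1) * u0 * u2 := by rw [(hvcomm u1 hu1Q.1).eq]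
      _ = u0 * v * (u1 * u0) * u2 := by group
      _ = u0 * (v * v) * u0 * u1 * u2 := by rw [r10]; group
      _ = u0 * s := by rw [hv2, hs]; group
  have hss : s * s = v := by
    have e2 : u1 * (u2 * u1) * u2 = v := by
      rw [r21]
      calc u1 * (v * (u1 * u2)) * u2 = (u1 * v) * u1 * (u2 * u2) := by group
        _ = (v * u1) * u1 * (u2 * u2) := by rw [(hvcomm u1 hu1Q.1).eq]
        _ = v * (u1 * u1) * (u2 * u2) := by group
        _ = v := by rw [hu1sq, hu2sq, mul_one, mul_one]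
    calc s * s = (s * u0) * (u1 * u2) := by rw [hs]; group
      _ = (u0 * s) * (u1 * u2) := by rw [hsu]
      _ = (u0 * u0) * (u1 * (u2 * u1) * u2) := by rw [hs]; group
      _ = v := by rw [hu0sq, one_mul, e2]
  have hsQj : s ∈ qd T (K j) := mul_mem (mul_mem hu0Q hu1Q) hu2Q
  have hsQi : s ∈ qd T (K i) := by
    by_contra hsq
    exact (hP i).moved hsQj.1 hsq ha haz (mul_inv_eq_iff_eq_mul.mpr hsu)
  obtain ⟨xi, hxiK, -, hxi3, hxisum, -⟩ := (hP i).data
  have hxiP : xi ∈ K i ⊔ T := Subgroup.mem_sup_left hxiK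
  set y := cj xi s with hy
  have hyQi : y ∈ qd T (K i) := conj_mem' ((hP i).q_normal hxiP) hsQi
  have hyy : y * y = cj xi v := by rw [hy, ← hss]; simp [cj, mul_assoc]
  have hu1i : u1 ∉ qd T (K i) := fun h => n01 (mul_inv_eq_iff_eq_mul.mp ((hP i).q_fix h ha)).symm
  have hmoved : ¬ Commute u1 (y * y) := by
    rw [hyy]
    intro hc
    have hz : cj xi v ∈ Z := by
      by_contra hz
      exact (hP i).moved hu1Q.1 hu1i (Subgroup.mem_sup_left (conj_mem' ((hP i).norm_w hxiP) hv.2)) hz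
        (mul_inv_eq_iff_eq_mul.mpr hc.eq)
    rcases hvl _ ⟨hz, conj_mem' ((hP i).norm_w hxiP) hv.2⟩ with e | e
    · exact hv1 ((MulAut.conj xi).injective (e.trans (map_one _).symm))
    · exact ((hP i).four hxiK hxisum hv.2 hv1).1 e
  have hsquare : ∀ d ∈ qd T (K j), Commute u1 (d * d) := by
    intro d hd
    have hd' : cj x⁻¹ d ∈ qd T (K j) := conj_mem' ((hP j).q_normal (inv_mem hxP)) hd
    rcases hvl _ ((hP i).comm_lab hd'.1 ha) with e | e
    · have h1 : Commute (cj x⁻¹ d) u0 := mul_inv_eq_iff_eq_mul.mp (mul_inv_eq_one.mp e)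
      have h2 : Commute d u1 := by
        have := h1.map (MulAut.conj x)
        rwa [show (MulAut.conj x) (cj x⁻¹ d) = d by simp [cj, mul_assoc]] at this
      exact (h2.mul_left h2).symm
    · have h1 : d * u1 = v * (u1 * d) := by
        have h0 := congrArg (cj x) e
        rw [hxv, show cj x (cj (cj x⁻¹ d) u0 * u0⁻¹) = d * u1 * d⁻¹ * u1⁻¹ by rw [hu1]; simp [cj, mul_assoc]] at h0
        calc d * u1 = (d * u1 * d⁻¹ * u1⁻¹) * (u1 * d) := by group
          _ = v * (u1 * d) := by rw [h0]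
      show u1 * (d * d) = d * d * u1
      symm
      calc d * d * u1 = d * (d * u1) := by group
        _ = d * v * (u1 * d) := by rw [h1]; group
        _ = v * (d * u1) * d := by rw [← (hvcomm d hd.1).eq]; group
        _ = (v * v) * u1 * d * d := by rw [h1]; group
        _ = u1 * (d * d) := by rw [hv2, one_mul]; group
  rcases halt with hD | ⟨k', hk', c, hc, c', hc', hne2⟩
  · exact hmoved (hsquare y (conj_mem' (hD hxiP) ⟨hsQi, hsQj⟩ : y ∈ qd T (K i) ⊓ qd T (K j)).2)
  · by_cases hyj : y ∈ qd T (K j)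
    · exact hmoved (hsquare y hyj)
    set u' := k' * c' * k'⁻¹ with hu'
    have hk'P : k' ∈ K i ⊔ T := Subgroup.mem_sup_left hk'
    have hu'Qi : u' ∈ qd T (K i) := conj_mem' ((hP i).q_normal hk'P) (hj1 hc')
    have hu'Qj : u' ∉ qd T (K j) := fun h => hne2 (mul_inv_eq_iff_eq_mul.mp ((hP j).q_fix h hc)).symm
    have hd : y * u' ∈ qd T (K j) := by
      have := (hP j).index_two (T.inv_mem hyQi.1) (fun h => hyj (by simpa using inv_mem h)) hu'Qi.1 hu'Qj
      rwa [inv_inv] at this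
    set d := y * u' with hdd
    have hc'sq : c' * c' = 1 := elem_sq (hP j).v_elem hc'
    have hu'2 : u' * u' = 1 := by
      rw [hu', show k' * c' * k'⁻¹ * (k' * c' * k'⁻¹) = k' * (c' * c') * k'⁻¹ by group, hc'sq, mul_one, mul_inv_cancel]
    have hdQi : d ∈ qd T (K i) := mul_mem hyQi hu'Qi
    set ε := cj d u' * u'⁻¹ with hε
    have hεZ : ε ∈ Z := by
      have hd' := conj_mem' ((hP i).q_normal (inv_mem hk'P)) hdQi
      have h0 := (hP j).comm_lab hd'.1 hc'
      have hfix : cj k' (cj (k'⁻¹ * d * k'⁻¹⁻¹) c' * c'⁻¹) = cj (k'⁻¹ * d * k'⁻¹⁻¹) c' * c'⁻¹ := by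
        show k' * (cj (k'⁻¹ * d * k'⁻¹⁻¹) c' * c'⁻¹) * k'⁻¹ = _
        rw [(hlj h0).2 k' hk', mul_inv_cancel_right]
      rw [show cj k' (cj (k'⁻¹ * d * k'⁻¹⁻¹) c' * c'⁻¹) = ε by rw [hε, hu']; simp [cj, mul_assoc]] at hfix
      exact hfix ▸ h0.1
    have hεc : ∀ q ∈ T, Commute ε q := fun q hq => ((omegaCenterOf_le_centralizer T hεZ) q hq).symm
    have hε2 : ε * ε = 1 := elem_sq (omegaCenterOf_elem T) hεZ
    have hyd : y * y = d * d * ε := by
      have hyu : y = d * u' := by rw [hdd, mul_assoc, hu'2, mul_one]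
      have h3 : d * u' = ε * (u' * d) := by rw [hε]; simp [cj, mul_assoc]
      have h4 : u' * d = ε * (d * u') := by rw [h3, ← mul_assoc ε ε, hε2, one_mul]
      calc y * y = d * (u' * d) * u' := by rw [hyu]; group
        _ = (d * ε) * d * (u' * u') := by rw [h4]; group
        _ = d * (ε * d) := by rw [hu'2, mul_one, mul_assoc]
        _ = d * d * ε := by rw [(hεc d hdQi.1).eq]; group
    exact hmoved (hyd ▸ (hsquare d hd).mul_right ((hεc u1 hu1Q.1).symm))

end Amalgam

end CfsgLib.JComp
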