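import Mathlib
import Cfsg.Agent.Lib.JComp.Top
import Cfsg.Agent.Lib.Components

/-!
The family `𝒦₀(T)`: normalizers of the four groups and recognition of components.
-/

set_option autoImplicit false
set_option linter.unusedSectionVars false

universe u

namespace CfsgLib.JComp

open Cfsg CfsgLib.PLocal CfsgLib.Offender
open scoped IsMulCommutative commutatorElement

section Abstract

variable {M : Type u} [Group M] [Finite M]

theorem cj_mul' (x a b : M) : cj x (a * b) = cj x a * cj x b := by simp [cj, mul_assoc]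

theorem eq_self_of_orbit {x o : M} {S : Set M} (hxS : ∀ r ∈ S, cj x r ∈ S)
    (hx3 : ∀ r ∈ S, cj x (cj x (cj x r)) = r) (hfree : ∀ r ∈ S, cj x r ≠ r) (hoS : ∀ r ∈ S, cj o r ∈ S)
    (hcomm : ∀ r ∈ S, cj o (cj x r) = cj x (cj o r)) {n : ℕ} (ho : ∀ r ∈ S, cj (o ^ 2 ^ n) r = r)
    (hlist : ∀ r ∈ S, ∀ s ∈ S, s = r ∨ s = cj x r ∨ s = cj x (cj x r)) : ∀ r ∈ S, cj o r = r := by
  induction n generalizing o with
  | zero => simpa using ho
  | succ n ih =>
    have hsq : ∀ r ∈ S, cj (o ^ 2) r = r := by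
      refine ih (o := o ^ 2) ?_ ?_ (fun r hr => by rw [← pow_mul, ← pow_succ']; exact ho r hr)
      · intro r hr; rw [pow_two, cj_comp]; exact hoS _ (hoS r hr)
      · intro r hr; rw [pow_two, cj_comp, cj_comp, hcomm r hr, hcomm _ (hoS r hr)]
    intro r hr
    have h2 : cj o (cj o r) = r := by rw [← cj_comp, ← pow_two]; exact hsq r hr
    rcases hlist r hr _ (hoS r hr) with e | e | e
    · exact e
    · exfalso
      rw [e, hcomm r hr, e] at h2
      exact hfree r hr (by
        have := congrArg (cj x) h2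
        rw [hx3 r hr] at this
        exact this.symm)
    · exfalso
      rw [e, hcomm _ (hxS r hr), hcomm r hr, e, hx3 _ (hxS r hr)] at h2
      exact hfree r hr h2

/-- Largest elementary abelian subgroups normalise the four group of a subnormal `3`-quotient. -/
theorem max_le_normalizer_wOf [Group.IsSolvable M] {K : Subgroup M} (hsn : K.IsSubnormal) (hgen : oddGen K = K)
    (hidx : (pCoreOf 2 K).relIndex K = 3) (hW4 : Nat.card ↥(wOf K) = 4) (hW2 : ∀ w ∈ wOf K, w * w = 1)
    {A : Subgroup M} (hA : A ∈ maxElementaryAbelianSubgroups 2 M) :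
    A ≤ Subgroup.normalizer (wOf K : Set M) := by
  classical
  haveI : Fact (Nat.Prime 2) := ⟨Nat.prime_two⟩
  haveI : Fact (Nat.Prime 3) := ⟨Nat.prime_three⟩
  set W := wOf K with hW
  set O := pCore 2 M with hO
  have hOn : O ≤ Subgroup.normalizer (K : Set M) := le_normalizer_of_subnormal hsn (CfsgLib.isPGroup_pCore 2) hgen
  set O2 := pCoreOf 2 K with hO2
  have hO2sn : O2.IsSubnormal := by
    refine Subgroup.IsSubnormal.step O2 K (pCoreOf_le' K) hsn ?_
    exact (Subgroup.normal_subgroupOf_iff_le_normalizer (pCoreOf_le' K)).mpr (le_normalizer_pCoreOf' K)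
  have hO2O : O2 ≤ O := CfsgLib.isSubnormal_isPGroup_le_pCore hO2sn (isPGroup_pCoreOf K)
  have hOK : O ⊓ K ≤ O2 := by
    intro y hy
    refine ⟨⟨y, hy.2⟩, ?_, rfl⟩
    haveI : ((O ⊓ K).subgroupOf K).Normal := (Subgroup.normal_subgroupOf_iff_le_normalizer inf_le_right).mpr
      fun k hk => mem_normalizer_of_conj_mem fun z hz =>
        ⟨conj_mem_of_normal inferInstance hz.1 k, K.mul_mem (K.mul_mem hk hz.2) (K.inv_mem hk)⟩
    exact CfsgLib.le_pCore (N := (O ⊓ K).subgroupOf K) (((CfsgLib.isPGroup_pCore 2).to_le inf_le_left).comap_of_injective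
      K.subtype K.subtype_injective) (Subgroup.mem_subgroupOf.mpr hy)
  obtain ⟨x, hxK, hx3, hgenx, hsum⟩ := exists_fpf hidx
  set D := omegaCenterOf O2 with hD
  have hKD : ∀ k ∈ K, ∀ d ∈ D, cj k d ∈ D := fun k hk d hd =>
    conj_mem' (omegaCenterOf_conj (le_normalizer_pCoreOf' K hk)) hd
  have hWD : W ≤ D := by
    rw [hW, wOf, Subgroup.commutator_le]
    intro d hd k hk
    rw [commutatorElement_def, show d * k * d⁻¹ * k⁻¹ = d * (k * d⁻¹ * k⁻¹) by group]
    exact D.mul_mem hd (hKD k hk _ (D.inv_mem hd))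
  have hWO : W ≤ O := (hWD.trans (omegaCenterOf_le _)).trans hO2O
  have hWel : IsElementaryAbelian 2 W := PLocal.isElementaryAbelian_of_le (omegaCenterOf_elem O2) hWD
  have hxW : ∀ w ∈ W, cj x w ∈ W := fun w hw => conj_mem' (wOf_conj (Subgroup.le_normalizer hxK)) hw
  have hO2W : ∀ o ∈ O2, ∀ w ∈ W, cj o w = w := fun o ho w hw => by
    show o * w * o⁻¹ = w
    rw [(omegaCenterOf_comm O2 (hWD hw)).2 o ho, mul_inv_cancel_right]
  have hx3W : ∀ w ∈ W, cj x (cj x (cj x w)) = w := fun w hw => by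
    rw [← cj_comp, ← cj_comp, show x * x * x = x ^ 3 by simp [pow_succ, mul_assoc]]
    exact hO2W _ hx3 w hw
  have hfree : ∀ w ∈ W, w ≠ 1 → cj x w ≠ w := fun w hw hw1 e => hw1 (by
    have h := hsum w hw
    rwa [e, e, hW2 w hw, one_mul] at h)
  have hf : ∀ w ∈ W, cj x (cj x w) * (cj x w)⁻¹ = w := fun w hw => by
    have hxw := hxW w hw
    have hxxw := hxW _ hxw
    have h := hsum w hw
    rw [mul_assoc] at h
    have e : w⁻¹ = cj x w * cj x (cj x w) := inv_eq_of_mul_eq_one_right h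
    rw [elem_inv hWel hw] at e
    rw [elem_inv hWel hxw, ← elem_comm hWel hxw hxxw]
    exact e.symm
  -- a 2-element commuting with `x` on `W` acts trivially
  have htriv : ∀ o : M, ∀ n : ℕ, (∀ w ∈ W, cj o w ∈ W) → (∀ w ∈ W, cj o (cj x w) = cj x (cj o w)) →
      (∀ w ∈ W, cj (o ^ 2 ^ n) w = w) → ∀ w ∈ W, cj o w = w := by
    intro o n hoW hc ho w hw
    by_cases hw1 : w = 1
    · subst hw1; simp [cj]
    refine eq_self_of_orbit (x := x) (S := {w | w ∈ W ∧ w ≠ 1}) ?_ (fun r hr => hx3W r hr.1)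
      (fun r hr => hfree r hr.1 hr.2) ?_ (fun r hr => hc r hr.1) (fun r hr => ho r hr.1) ?_ w ⟨hw, hw1⟩
    · exact fun r hr => ⟨hxW r hr.1, fun e => hr.2 ((MulAut.conj x).injective (e.trans (map_one _).symm))⟩
    · exact fun r hr => ⟨hoW r hr.1, fun e => hr.2 ((MulAut.conj o).injective (e.trans (map_one _).symm))⟩
    · intro r hr s hs
      rcases (four_elems hWel hW4 hxW hsum hr.1 hr.2).2.2 s hs.1 with e | e | e | e
      · exact absurd e hs.2
      all_goals tauto
  -- `O` centralises `W`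
  have hWc : W ≤ Subgroup.centralizer (O : Set M) := by
    intro w hw o ho
    obtain ⟨n, hn⟩ := CfsgLib.isPGroup_pCore 2 ⟨o, ho⟩
    have hoW : ∀ w ∈ W, cj o w ∈ W := fun w hw => conj_mem' (wOf_conj (hOn ho)) hw
    have hcm : o * x * o⁻¹ * x⁻¹ ∈ O2 := hOK ⟨by
        rw [show o * x * o⁻¹ * x⁻¹ = o * (x * o⁻¹ * x⁻¹) by group]
        exact O.mul_mem ho (conj_mem_of_normal inferInstance (O.inv_mem ho) x),
      K.mul_mem (conj_mem' (hOn ho) hxK) (K.inv_mem hxK)⟩
    have := htriv o n hoW (fun w hw => by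
      calc cj o (cj x w) = cj (o * x * o⁻¹ * x⁻¹) (cj x (cj o w)) := by simp [cj, mul_assoc]
        _ = cj x (cj o w) := hO2W _ hcm _ (hxW _ (hoW w hw))) (fun w _ => by
      rw [show o ^ 2 ^ n = 1 from congrArg Subtype.val hn]; simp [cj]) w hw
    exact mul_inv_eq_iff_eq_mul.mp this
  -- the module
  set U := Subgroup.normalClosure (W : Set M) with hU
  have hWU : W ≤ U := fun w hw => Subgroup.subset_normalClosure hw
  haveI hZn : (omegaCenterOf O).Normal := ⟨fun z hz g => conj_mem' (omegaCenterOf_conj (by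
    rw [Subgroup.normalizer_eq_top]; exact Subgroup.mem_top g)) hz⟩
  have hUZ : U ≤ omegaCenterOf O := Subgroup.normalClosure_le_normal fun w hw =>
    Subgroup.subset_closure ⟨⟨hWO hw, hWc hw⟩, hWel.2 w hw⟩
  have hUel : IsElementaryAbelian 2 U := PLocal.isElementaryAbelian_of_le (omegaCenterOf_elem O) hUZ
  have hUO : U ≤ O := hUZ.trans (omegaCenterOf_le _)
  haveI := hUel.1
  haveI : U.Normal := Subgroup.normalClosure_normal
  set C := Subgroup.centralizer (U : Set M) with hC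
  have hcfix : ∀ c ∈ C, ∀ u ∈ U, cj c u = u := fun c hc u hu => by
    show c * u * c⁻¹ = u
    rw [← hc u hu, mul_inv_cancel_right]
  have hOC : O ≤ C := fun o ho u hu => ((omegaCenterOf_comm O (hUZ hu)).2 o ho).symm
  have hUx : ∀ g : M, ∀ u ∈ U, cj g u ∈ U := fun g u hu => conj_mem_of_normal inferInstance hu g
  -- the range of `x` on `U` is `W`
  have hrange : ∀ u ∈ U, cj x u * u⁻¹ ∈ W := by
    intro u hu
    set e := cj x u * u⁻¹ with he
    have heU : e ∈ U := U.mul_mem (hUx x u hu) (U.inv_mem hu)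
    have heK : e ∈ K := by
      have h1 : u * x⁻¹ * u⁻¹ ∈ K := conj_mem' (hOn (hUO hu)) (K.inv_mem hxK)
      have h2 := K.mul_mem hxK h1
      rwa [show x * (u * x⁻¹ * u⁻¹) = e by simp [he, cj, mul_assoc]] at h2
    have heO2 : e ∈ O2 := hOK ⟨hUO heU, heK⟩
    have heD : e ∈ D := Subgroup.subset_closure ⟨⟨heO2, fun o ho =>
      (omegaCenterOf_comm O (hUZ heU)).2 o (hO2O ho)⟩, hUel.2 e heU⟩
    have hxeD := hKD x hxK e heD
    have hrel : cj x (cj x e) * (cj x e)⁻¹ = e := by
      have hu3 : cj x (cj x (cj x u)) = u := by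
        rw [← cj_comp, ← cj_comp, show x * x * x = x ^ 3 by simp [pow_succ, mul_assoc]]
        exact hcfix _ (hOC (hO2O hx3)) u hu
      have h1 := hUx x u hu
      have h2 := hUx x _ h1
      have e1 : cj x e = cj x (cj x u) * (cj x u)⁻¹ := by simp [he, cj, mul_assoc]
      have e2 : cj x (cj x e) = cj x (cj x (cj x u)) * (cj x (cj x u))⁻¹ := by rw [e1]; simp [cj, mul_assoc]
      rw [e2, hu3, e1, he,
        elem_inv hUel h2, elem_inv hUel (U.mul_mem h2 (U.inv_mem h1)), elem_inv hUel h1, elem_inv hUel hu]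
      calc u * cj x (cj x u) * (cj x (cj x u) * cj x u) = u * (cj x (cj x u) * cj x (cj x u)) * cj x u := by group
        _ = cj x u * u := by rw [elem_sq hUel h2, mul_one, elem_comm hUel hu h1]
    rw [← hrel]
    have h3 := W.inv_mem (Subgroup.commutator_mem_commutator hxeD hxK : ⁅cj x e, x⁆ ∈ W)
    rwa [show (⁅cj x e, x⁆)⁻¹ = cj x (cj x e) * (cj x e)⁻¹ by simp [commutatorElement_def, cj, mul_assoc]] at h3
  have hrangeN : ∀ n : ℕ, ∀ u ∈ U, cj (x ^ n) u * u⁻¹ ∈ W := by
    intro n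
    induction n with
    | zero => intro u _; simp [cj]
    | succ n ih =>
      intro u hu
      have e : cj (x ^ (n + 1)) u * u⁻¹ = (cj x (cj (x ^ n) u) * (cj (x ^ n) u)⁻¹) * (cj (x ^ n) u * u⁻¹) := by
        rw [pow_succ', cj_comp]; group
      rw [e]
      exact W.mul_mem (hrange _ (hUx _ u hu)) (ih u hu)
  -- the quotient by the centralizer
  set q := QuotientGroup.mk' C with hq
  have hqsurj : Function.Surjective q := QuotientGroup.mk'_surjective _
  have hq1 : ∀ c, q c = 1 ↔ c ∈ C := fun c => QuotientGroup.eq_one_iff c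
  have hKq : K.map q = Subgroup.zpowers (q x) := by
    refine le_antisymm ?_ (Subgroup.zpowers_le.mpr ⟨x, hxK, rfl⟩)
    rintro _ ⟨k, hk, rfl⟩
    obtain ⟨i, hi⟩ := hgenx k hk
    have h1 : q ((x ^ i)⁻¹ * k) = 1 := (hq1 _).mpr (hOC (hO2O hi))
    rw [map_mul, map_inv, map_zpow, inv_mul_eq_one] at h1
    rw [← h1]
    exact Subgroup.zpow_mem _ (Subgroup.mem_zpowers _) i
  have hKqsn : (K.map q).IsSubnormal := hsn.map hqsurj
  have hKqgen : oddGen (K.map q) = K.map q := by
    refine le_antisymm (oddGen_le _) ?_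
    conv_lhs => rw [← hgen, oddGen, MonoidHom.map_closure]
    refine Subgroup.closure_mono ?_
    rintro _ ⟨y, hy, rfl⟩
    exact ⟨⟨y, hy.1, rfl⟩, hy.2.of_dvd_nat (orderOf_map_dvd q y)⟩
  have hqx3 : q x ^ 3 = 1 := by rw [← map_pow]; exact (hq1 _).mpr (hOC (hO2O hx3))
  have hcore : pCore 2 (M ⧸ C) = ⊥ := by
    rw [eq_bot_iff]
    intro z hz
    set P := (pCore 2 (M ⧸ C)).comap q with hP
    have hPW : ∀ p ∈ P, ∀ w ∈ W, cj p w = w := by
      intro p hp
      have hpN : q p ∈ Subgroup.normalizer (K.map q : Set (M ⧸ C)) :=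
        le_normalizer_of_subnormal hKqsn (CfsgLib.isPGroup_pCore 2) hKqgen hp
      have hmem : q p * q x * (q p)⁻¹ ∈ Subgroup.zpowers (q x) :=
        hKq.le (conj_mem' hpN ⟨x, hxK, rfl⟩)
      obtain ⟨i, hi⟩ := (isOfFinOrder_of_finite (q x)).mem_powers_iff_mem_zpowers.mpr hmem
      change q x ^ i = _ at hi
      have hmap : ∀ u ∈ U, cj (p * x * p⁻¹) u = cj (x ^ i) u := by
        intro u hu
        have hc : (x ^ i)⁻¹ * (p * x * p⁻¹) ∈ C := by
          rw [← hq1, map_mul, map_inv, map_pow, map_mul, map_mul, map_inv, hi, inv_mul_cancel]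
        calc cj (p * x * p⁻¹) u = cj (x ^ i) (cj ((x ^ i)⁻¹ * (p * x * p⁻¹)) u) := by
              rw [← cj_comp, mul_inv_cancel_left]
          _ = cj (x ^ i) u := by rw [hcfix _ hc u hu]
      have hpW : ∀ w ∈ W, cj p w ∈ W := by
        intro w hw
        have hfU := hWU (hxW w hw)
        have e : cj p w = cj (p * x * p⁻¹) (cj p (cj x w)) * (cj p (cj x w))⁻¹ := by
          conv_lhs => rw [← hf w hw]
          simp [cj, mul_assoc]
        rw [e, hmap _ (hUx p _ hfU)]
        exact hrangeN i _ (hUx p _ hfU)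
      obtain ⟨n, hn⟩ := CfsgLib.isPGroup_pCore 2 ⟨q p, hp⟩
      have hn' : q p ^ 2 ^ n = 1 := congrArg Subtype.val hn
      have hcomm : q p * q x * (q p)⁻¹ = q x := by
        have h1 : q p * q x * (q p)⁻¹ * (q x)⁻¹ ∈ pCore 2 (M ⧸ C) := by
          rw [show q p * q x * (q p)⁻¹ * (q x)⁻¹ = q p * (q x * (q p)⁻¹ * (q x)⁻¹) by group]
          exact mul_mem hp (conj_mem_of_normal inferInstance (inv_mem hp) _)
        have h2 : q p * q x * (q p)⁻¹ * (q x)⁻¹ ∈ Subgroup.zpowers (q x) :=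
          mul_mem hmem (inv_mem (Subgroup.mem_zpowers _))
        obtain ⟨m, hm⟩ := CfsgLib.isPGroup_pCore 2 ⟨_, h1⟩
        have hm' : (q p * q x * (q p)⁻¹ * (q x)⁻¹) ^ 2 ^ m = 1 := congrArg Subtype.val hm
        have h3 : orderOf (q p * q x * (q p)⁻¹ * (q x)⁻¹) ∣ 3 := by
          obtain ⟨j, hj⟩ := Subgroup.mem_zpowers_iff.mp h2
          refine orderOf_dvd_of_pow_eq_one ?_
          rw [← hj, ← zpow_natCast, ← zpow_mul, mul_comm, zpow_mul, zpow_natCast, hqx3, one_zpow]
        have h5 : orderOf (q p * q x * (q p)⁻¹ * (q x)⁻¹) = 1 :=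
          Nat.eq_one_of_dvd_coprimes (show Nat.Coprime 3 (2 ^ m) by exact Nat.Coprime.pow_right _ (by norm_num)) h3
            (orderOf_dvd_of_pow_eq_one hm')
        exact mul_inv_eq_one.mp (orderOf_eq_one_iff.mp h5)
      refine htriv p n hpW (fun w hw => ?_) fun w hw => hcfix _ ((hq1 _).mp (by rw [map_pow, hn'])) w (hWU hw)
      have hc : x⁻¹ * (p * x * p⁻¹) ∈ C := by
        rw [← hq1, map_mul, map_inv, map_mul, map_mul, map_inv, hcomm, inv_mul_cancel]
      calc cj p (cj x w) = cj (p * x * p⁻¹) (cj p w) := by simp [cj, mul_assoc]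
        _ = cj x (cj (x⁻¹ * (p * x * p⁻¹)) (cj p w)) := by rw [← cj_comp x, mul_inv_cancel_left]
        _ = cj x (cj p w) := by rw [hcfix _ hc _ (hUx p w (hWU hw))]
    obtain ⟨p, rfl⟩ := hqsurj z
    have hPn : P.Normal := inferInstance
    have hUP : U ≤ Subgroup.centralizer (P : Set M) := Subgroup.normalClosure_le_normal fun w hw r hr =>
      mul_inv_eq_iff_eq_mul.mp (hPW r hr w hw)
    exact Subgroup.mem_bot.mpr ((hq1 p).mpr fun u hu => ((hUP hu) p hz).symm)
  -- transvections in `A`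
  refine max_le_of_tv hUel (isPSolvable_of_isSolvable _ M rfl inferInstance) hcore hA ?_ ?_
  · intro y hy
    refine mem_normalizer_of_conj_mem fun w hw => ?_
    rw [show y * w * y⁻¹ = w from hcfix y hy.2 w (hWU hw)]
    exact hw
  intro y _ hytv
  have hU2 : ∀ u : ↥U, u * u = 1 := fun u => Subtype.ext (elem_sq hUel u.2)
  let ac : M →* MulAut ↥U := MulAut.conjNormal
  have hker : ac.ker = C := Offender.actHom_ker U
  have hmv : ∀ (g : M) (u : ↥U), ((mv (ac g) u : ↥U) : M) = cj g u * (u : M)⁻¹ := fun g u => by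
    rw [mv_apply, Subgroup.coe_mul, Subgroup.coe_inv, MulAut.conjNormal_apply]
  have hR : ((mv (ac x)).range).map U.subtype = W := by
    refine le_antisymm ?_ fun w hw => ?_
    · rintro _ ⟨_, ⟨u, rfl⟩, rfl⟩
      show ((mv (ac x) u : ↥U) : M) ∈ W
      rw [hmv]; exact hrange u u.2
    · exact ⟨_, ⟨⟨_, hWU (hxW w hw)⟩, rfl⟩, by
        show ((mv (ac x) ⟨cj x w, _⟩ : ↥U) : M) = w
        rw [hmv]; exact hf w hw⟩
  set x' := y * x * y⁻¹ with hx'
  have hR' : ((mv (ac x')).range).map U.subtype = W.map (MulAut.conj y).toMonoidHom := by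
    refine le_antisymm ?_ ?_
    · rintro _ ⟨_, ⟨u, rfl⟩, rfl⟩
      show ((mv (ac x') u : ↥U) : M) ∈ _
      rw [hmv]
      exact ⟨_, hrange _ (hUx y⁻¹ u u.2), by simp [hx', cj, mul_assoc]⟩
    · rintro _ ⟨w, hw, rfl⟩
      exact ⟨_, ⟨⟨_, hUx y _ (hWU (hxW w hw))⟩, rfl⟩, by
        show ((mv (ac x') ⟨cj y (cj x w), _⟩ : ↥U) : M) = y * w * y⁻¹
        rw [hmv]
        conv_rhs => rw [← hf w hw]
        simp [hx', cj, mul_assoc]⟩
  have hRy : Nat.card (mv (ac y)).range = 2 := by
    have hk : ((mv (ac y)).ker).map U.subtype = U ⊓ Subgroup.centralizer ({y} : Set M) := by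
      ext u
      constructor
      · rintro ⟨v, hv, rfl⟩
        refine ⟨v.2, ?_⟩
        show (v : M) ∈ Subgroup.centralizer ({y} : Set M)
        rw [Subgroup.mem_centralizer_singleton_iff]
        have h := congrArg Subtype.val (MonoidHom.mem_ker.mp hv)
        rw [hmv, Subgroup.coe_one, mul_inv_eq_one] at h
        exact (mul_inv_eq_iff_eq_mul.mp h).symm
      · rintro ⟨hu, hc⟩
        refine ⟨⟨u, hu⟩, MonoidHom.mem_ker.mpr (Subtype.ext ?_), rfl⟩
        rw [hmv, Subgroup.coe_one, mul_inv_eq_one]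
        have hc' : u ∈ Subgroup.centralizer ({y} : Set M) := hc
        rw [Subgroup.mem_centralizer_singleton_iff] at hc'
        exact mul_inv_eq_iff_eq_mul.mpr hc'.symm
    have h1 := Subgroup.card_mul_index (mv (ac y)).ker
    rw [Subgroup.index_ker, ← Subgroup.card_map_of_injective U.subtype_injective (K := (mv (ac y)).ker), hk] at h1
    have hpos : 0 < Nat.card ↥(U ⊓ Subgroup.centralizer ({y} : Set M)) := Nat.card_pos
    have h2 : 2 * Nat.card ↥(U ⊓ Subgroup.centralizer ({y} : Set M)) = Nat.card U := hytv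
    rw [← h2, mul_comm 2] at h1
    exact Nat.eq_of_mul_eq_mul_left hpos h1
  have hcR : Nat.card (mv (ac x)).range = 4 := by
    rw [← Subgroup.card_map_of_injective U.subtype_injective (K := (mv (ac x)).range), hR, hW4]
  have hcR' : Nat.card (mv (ac x')).range = 4 := by
    rw [← Subgroup.card_map_of_injective U.subtype_injective (K := (mv (ac x')).range), hR',
      Subgroup.card_map_of_injective (MulEquiv.injective (MulAut.conj y)), hW4]
  have hsum8 : Nat.card ↥((mv (ac x)).range ⊔ (mv (ac x')).range) ≤ 8 := by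
    have hle : (mv (ac x)).range ⊔ (mv (ac x')).range ≤ (mv (ac x)).range ⊔ (mv (ac y)).range := by
      refine sup_le le_sup_left ?_
      intro r hr
      have hrW : (r : M) ∈ W.map (MulAut.conj y).toMonoidHom := hR'.le ⟨r, hr, rfl⟩
      obtain ⟨w, hw, hrw⟩ := hrW
      have h1 : (⟨w, hWU hw⟩ : ↥U) ∈ (mv (ac x)).range := by
        obtain ⟨v, hv, e⟩ := hR.ge hw
        rwa [show (⟨w, hWU hw⟩ : ↥U) = v from Subtype.ext e.symm]
      have e : r = mv (ac y) ⟨w, hWU hw⟩ * ⟨w, hWU hw⟩ := Subtype.ext (by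
        rw [Subgroup.coe_mul, hmv, inv_mul_cancel_right, ← hrw]; rfl)
      rw [e]
      exact mul_mem (Subgroup.mem_sup_right ⟨_, rfl⟩) (Subgroup.mem_sup_left h1)
    refine (Subgroup.card_le_of_le hle).trans ?_
    have h := card_sup_mul_card_inf (A := (mv (ac x)).range) (B := (mv (ac y)).range)
      (by rw [Subgroup.normalizer_eq_top]; exact le_top)
    rw [hcR, hRy] at h
    have hpos : 0 < Nat.card ↥((mv (ac x)).range ⊓ (mv (ac y)).range) := Nat.card_pos
    nlinarith
  have h3x : ac x ^ 3 = 1 := by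
    rw [← map_pow, ← MonoidHom.mem_ker, hker]; exact hOC (hO2O hx3)
  have hxx' : x' ^ 3 = y * x ^ 3 * y⁻¹ := conj_pow
  have hCn : C.Normal := hker ▸ inferInstance
  have h3x' : ac x' ^ 3 = 1 := by
    rw [← map_pow, ← MonoidHom.mem_ker, hker, hxx']; exact hCn.conj_mem _ (hOC (hO2O hx3)) y
  have hx'1 : ac x' ≠ 1 := by
    intro e
    rw [show mv (ac x') = 1 from MonoidHom.ext fun u => by rw [mv_apply, e]; exact mul_inv_cancel u] at hcR'
    rw [MonoidHom.range_one, Subgroup.card_bot] at hcR'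
    norm_num at hcR'
  have hP3 : IsPGroup 3 ↥(Subgroup.closure ({ac x, ac x'} : Set (MulAut ↥U))) := by
    have hxp : q x ∈ pCore 3 (M ⧸ C) := by
      refine CfsgLib.isSubnormal_isPGroup_le_pCore hKqsn ?_ ⟨x, hxK, rfl⟩
      rw [hKq]
      intro g
      refine ⟨1, ?_⟩
      obtain ⟨j, hj⟩ := Subgroup.mem_zpowers_iff.mp g.2
      refine Subtype.ext ?_
      show (g : M ⧸ C) ^ 3 ^ 1 = 1
      rw [pow_one, ← hj, ← zpow_natCast, ← zpow_mul, mul_comm, zpow_mul, zpow_natCast, hqx3, one_zpow]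
    set Y := (pCore 3 (M ⧸ C)).comap q with hY
    have hle : Subgroup.closure ({ac x, ac x'} : Set (MulAut ↥U)) ≤ Y.map ac := by
      refine (Subgroup.closure_le _).mpr ?_
      rintro g (rfl | rfl)
      · exact ⟨x, hxp, rfl⟩
      · refine ⟨x', ?_, rfl⟩
        show x' ∈ (pCore 3 (M ⧸ C)).comap q
        rw [Subgroup.mem_comap]
        rw [hx', map_mul, map_mul, map_inv]
        exact conj_mem_of_normal inferInstance hxp _
    refine IsPGroup.to_le ?_ hle
    rintro ⟨_, g, hg, rfl⟩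
    obtain ⟨k, hk⟩ := CfsgLib.isPGroup_pCore 3 ⟨q g, hg⟩
    refine ⟨k, Subtype.ext ?_⟩
    show ac g ^ 3 ^ k = 1
    rw [← map_pow, ← MonoidHom.mem_ker, hker, ← hq1, map_pow]
    exact congrArg Subtype.val hk
  obtain ⟨j, hj⟩ := (isOfFinOrder_of_finite (ac x)).mem_powers_iff_mem_zpowers.mpr
    (zpowers_unique hU2 hP3 h3x h3x' hx'1 hcR hcR' hsum8)
  change ac x ^ j = ac x' at hj
  refine mem_normalizer_of_conj_mem fun w hw => ?_
  obtain ⟨v, ⟨u, rfl⟩, hv⟩ := hR'.ge ⟨w, hw, rfl⟩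
  rw [← show U.subtype (mv (ac x') u) = y * w * y⁻¹ from hv]
  show ((mv (ac x') u : ↥U) : M) ∈ W
  rw [← hj, ← map_pow, hmv]
  exact hrangeN j u u.2

end Abstract

section Ambient

variable {G : Type u} [Group G] [Finite G]
  (hL : IsCharacteristicTwoType G) (hN : ∀ N : Subgroup G, Cfsg.IsTwoLocal N → Group.IsSolvable ↥N)
  (hZ : ∀ S : Sylow 2 G, Subgroup.centralizer (Cfsg.omegaCenterOf (S : Subgroup G) : Set G) ≤
    Subgroup.normalizer ((S : Subgroup G) : Set G))
include hL hN hZ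

theorem core_of_normalizer {W : Subgroup G} (hW : IsPGroup 2 ↥W) (hW1 : W ≠ ⊥) :
    Subgroup.centralizer (pCoreOf 2 (Subgroup.normalizer (W : Set G)) : Set G) ≤
      pCoreOf 2 (Subgroup.normalizer (W : Set G)) := by
  haveI : Fact (Nat.Prime 2) := ⟨Nat.prime_two⟩
  set H := Subgroup.normalizer (W : Set G) with hH
  haveI : (W.subgroupOf H).Normal := (Subgroup.normal_subgroupOf_iff_le_normalizer Subgroup.le_normalizer).mpr le_rfl
  have hWO : W ≤ pCoreOf 2 H := fun w hw => ⟨⟨w, Subgroup.le_normalizer hw⟩,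
    CfsgLib.le_pCore (N := W.subgroupOf H) (hW.comap_of_injective H.subtype H.subtype_injective) hw, rfl⟩
  intro c hc
  have hcH : c ∈ H := mem_normalizer_of_conj_mem fun w hw => by
    rw [← hc w (hWO hw), mul_inv_cancel_right]; exact hw
  refine ⟨⟨c, hcH⟩, hL.2 W hW hW1 fun z hz => ?_, rfl⟩
  exact Subtype.ext (hc _ ⟨z, hz, rfl⟩)

theorem over_normalizer {W : Subgroup G} (hW : IsPGroup 2 ↥W) (hW1 : W ≠ ⊥) :
    Over ↥(Subgroup.normalizer (W : Set G)) :=
  over_of_core hN hZ (core_of_normalizer hL hN hZ hW hW1)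

theorem normalizer_wOf {T K : Subgroup G} (hT : IsPGroup 2 ↥T) (hK : K ∈ jComponentsZero T) :
    Subgroup.normalizer (K : Set G) = Subgroup.normalizer (wOf K : Set G) := by
  refine le_antisymm (fun g hg => wOf_conj hg) ?_
  set W := wOf K with hW
  obtain ⟨hc, h0⟩ := hK
  obtain ⟨-, hcomm, -, -, hW4, hW2⟩ := id hc
  have hWp : IsPGroup 2 ↥W := isPGroup_two_of_sq fun w hw => by rw [pow_two]; exact hW2 w hw
  have hW1 : W ≠ ⊥ := fun e => by rw [← hW, e, Subgroup.card_bot] at hW4; omega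
  have hM := over_normalizer hL hN hZ hWp hW1
  set H := Subgroup.normalizer (W : Set G) with hH
  have hJH : thompsonSubgroupOf 2 T ≤ H := fun j hj => wOf_conj (le_normalizer_of_commutator_eq hcomm hj)
  have hKH : K ≤ H := fun k hk => wOf_conj (Subgroup.le_normalizer hk)
  obtain ⟨S, hS, hJS⟩ := exists_sylowTwoIn (hT.to_le (thompsonOf_le' T)) hJH
  obtain ⟨P, hP⟩ := exists_sylowOf hS
  have hcomp : IsComp (thompsonSubgroupOf 2 (P : Subgroup ↥H)) (K.subgroupOf H) := by
    rw [hP]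
    exact isComp_subgroupOf hS.1 hKH (by rw [h0 S hJS hS]; exact isComp_of_isJComponent hc)
  have hn : (wOf (K.subgroupOf H)).Normal := by
    have e : wOf (K.subgroupOf H) = W.subgroupOf H := Subgroup.map_injective H.subtype_injective (by
      rw [wOf_subgroupOf hKH, Subgroup.map_subgroupOf_eq_of_le Subgroup.le_normalizer])
    rw [e]
    exact (Subgroup.normal_subgroupOf_iff_le_normalizer Subgroup.le_normalizer).mpr le_rfl
  exact (Subgroup.normal_subgroupOf_iff_le_normalizer hKH).mp (hM.comp_normal P hcomp hn)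

theorem component_conj {T K : Subgroup G} (hT : IsPGroup 2 ↥T) (hK : K ∈ jComponentsZero T) {g : G}
    (hg : thompsonSubgroupOf 2 (T.map (MulAut.conj g).toMonoidHom) ≤ Subgroup.normalizer (wOf K : Set G)) :
    IsJComponent (T.map (MulAut.conj g).toMonoidHom) K := by
  have hNK := normalizer_wOf hL hN hZ hT hK
  obtain ⟨hc, h0⟩ := hK
  obtain ⟨hgen, hcomm, hidx, hsyl, hW4, hW2⟩ := id hc
  set J := thompsonSubgroupOf 2 T with hJ
  set H := Subgroup.normalizer (wOf K : Set G) with hH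
  have hJH : J ≤ H := fun j hj => wOf_conj (le_normalizer_of_commutator_eq hcomm hj)
  obtain ⟨S, hS, hJS⟩ := exists_sylowTwoIn (hT.to_le (thompsonOf_le' T)) hJH
  have hJT' : thompsonSubgroupOf 2 (T.map (MulAut.conj g).toMonoidHom) = J.map (MulAut.conj g).toMonoidHom :=
    thompsonOf_map _ (MulEquiv.injective (MulAut.conj g)) T
  set J' := J.map (MulAut.conj g).toMonoidHom with hJ'
  rw [hJT'] at hg
  obtain ⟨h, hh, hle⟩ := exists_conj_le hS ((hT.to_le (thompsonOf_le' T)).map _) hg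
  have hmap : J.map (MulAut.conj (h * g)).toMonoidHom ≤ thompsonSubgroupOf 2 S := by
    rw [hJ, ← thompsonOf_map _ (MulEquiv.injective (MulAut.conj (h * g))) T]
    refine thompsonOf_mono ?_ fun F hF hFS => ?_
    · rw [thompsonOf_map _ (MulEquiv.injective (MulAut.conj (h * g))) T, ← conj_map_map]
      exact hle
    · obtain ⟨E, hE⟩ := exists_top S
      refine ⟨_, PLocal.isElementary_map _ hE.1, Subgroup.map_mono ?_, (hE.2.2 F hF hFS).trans
        (Subgroup.card_map_of_injective (MulEquiv.injective (MulAut.conj (h * g)))).ge⟩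
      exact (top_le hE).trans ((h0 S hJS hS).le.trans (thompsonOf_le' T))
  rw [h0 S hJS hS] at hmap
  have heq : J.map (MulAut.conj (h * g)).toMonoidHom = J :=
    Subgroup.eq_of_le_of_card_ge hmap (Subgroup.card_map_of_injective (MulEquiv.injective (MulAut.conj (h * g)))).ge
  set f := (MulAut.conj h⁻¹).toMonoidHom with hf
  have hfinj : Function.Injective f := MulEquiv.injective (MulAut.conj h⁻¹)
  have hJ'f : J' = J.map f := by
    conv_rhs => rw [← heq, hf, conj_map_map, inv_mul_cancel_left]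
  have hKf : K.map f = K := Local.map_conj_eq_of_mem_normalizer (by rw [hNK]; exact inv_mem hh)
  have hcomp : IsComp J' K := by
    have := (isComp_map_iff f hfinj J K).mpr (isComp_of_isJComponent hc)
    rwa [← hJ'f, hKf] at this
  refine ⟨hgen, ?_, hidx, fun R hR hJR => ?_, hW4, hW2⟩
  · rw [hJT']; exact hcomp.comm
  rw [hJT', hJ'f] at hJR hR ⊢
  set R0 := R.comap f with hR0
  have hfs : Function.Surjective f := MulEquiv.surjective (MulAut.conj h⁻¹)
  have hR0R : R0.map f = R := Subgroup.map_comap_eq_self_of_surjective hfs R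
  have hXf : (K ⊔ J).map f = K ⊔ J.map f := by rw [Subgroup.map_sup, hKf]
  rw [← hR0R, thompsonOf_map f hfinj]
  refine congrArg (Subgroup.map f) (hsyl R0 ?_ ?_)
  · refine ⟨(Subgroup.map_le_map_iff_of_injective hfinj).mp ?_, ?_, ?_⟩
    · rw [hR0R, hXf]; exact hR.1
    · exact hR.2.1.comap_of_injective f hfinj
    · rw [← Subgroup.relIndex_map_map_of_injective R0 (K ⊔ J) hfinj, hR0R, hXf]; exact hR.2.2
  · exact (Subgroup.map_le_map_iff_of_injective hfinj).mp (by rw [hR0R]; exact hJR)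

theorem component_of_overgroup {T L K : Subgroup G} (hT : IsPGroup 2 ↥T) (hLT : L ∈ jOvergroups T) (hKL : K ≤ L)
    (hsn : (K.subgroupOf (K ⊔ thompsonSubgroupOf 2 T)).IsSubnormal) {g : G}
    (hK : K ∈ jComponentsZero (T.map (MulAut.conj g).toMonoidHom)) : IsJComponent T K := by
  obtain ⟨hgen, -, hidx, -, hW4, hW2⟩ := id hK.1
  set J := thompsonSubgroupOf 2 T with hJ
  set X := K ⊔ J with hX
  have hJL : J ≤ L := (thompsonOf_le' T).trans hLT.1.1
  have hXL : X ≤ L := sup_le hKL hJL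
  haveI := (over_of_core hN hZ hLT.2.2).solv
  haveI : Group.IsSolvable ↥X := Group.isSolvable_of_isSolvable_injective (Subgroup.inclusion_injective hXL)
  have hKX : K ≤ X := le_sup_left
  have hinj := X.subtype_injective
  have hWX : (wOf (K.subgroupOf X)).map X.subtype = wOf K := wOf_subgroupOf hKX
  have hJN : J ≤ Subgroup.normalizer (wOf K : Set G) := by
    refine thompsonOf_le_iff.mpr fun E hE => ?_
    have hEX : E ≤ X := (top_le hE).trans le_sup_right
    have hmax : E.subgroupOf X ∈ maxElementaryAbelianSubgroups 2 ↥X := by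
      refine isTop_subgroupOf ⟨hE.1, hEX, fun F hF hFX => ?_⟩
      obtain ⟨F', hF', hF'T, hc⟩ := exists_elem_le hLT.1 hF (hFX.trans hXL)
      exact hc.trans (hE.2.2 F' hF' hF'T)
    have h1 := max_le_normalizer_wOf (K := K.subgroupOf X) hsn
      (Subgroup.map_injective hinj (by
        rw [← oddGen_map X.subtype hinj, Subgroup.map_subgroupOf_eq_of_le hKX]; exact hgen))
      (by
        rw [← Subgroup.relIndex_map_map_of_injective _ _ hinj, ← pCoreOf_map X.subtype hinj,
          Subgroup.map_subgroupOf_eq_of_le hKX]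
        exact hidx)
      (by rw [← Subgroup.card_map_of_injective hinj (K := wOf (K.subgroupOf X)), hWX]; exact hW4)
      (fun w hw => Subtype.ext (hW2 _ (hWX.le ⟨w, hw, rfl⟩))) hmax
    intro e he
    have h2 := h1 (Subgroup.mem_subgroupOf.mpr he : (⟨e, hEX he⟩ : ↥X) ∈ E.subgroupOf X)
    have h3 := Subgroup.le_normalizer_map X.subtype ⟨_, h2, rfl⟩
    rwa [hWX] at h3
  have h := component_conj hL hN hZ (hT.map _) hK (g := g⁻¹)
  rw [conj_map_map, inv_mul_cancel, conj_map_one] at h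
  exact h hJN

end Ambient

end CfsgLib.JComp
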