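import Mathlib
import Cfsg.Agent.Lib.JComp.Family
import Cfsg.Agent.Lib.Comp.BalanceTwo

/-!
Existence of `J(T)`-components inside members of `ℒ(T)`.
-/

set_option autoImplicit false
set_option linter.unusedSectionVars false

universe u

namespace CfsgLib.JComp

open Cfsg CfsgLib.PLocal CfsgLib.Offender
open scoped IsMulCommutative commutatorElement

section Small

variable {G : Type u} [Group G] [Finite G]

/-- An offender inverting a freely acting element of order three sees only a four group. -/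
theorem card_four_of_inv {D A : Subgroup G} (hD : IsElementaryAbelian 2 D) (hA : IsElementaryAbelian 2 A) {x : G}
    (hxD : ∀ d ∈ D, cj x d ∈ D) (hsum : ∀ d ∈ D, d * cj x d * cj x (cj x d) = 1)
    (hx3 : ∀ d ∈ D, cj x (cj x (cj x d)) = d)
    (hAD : A ≤ Subgroup.normalizer (D : Set G))
    (hmax : ∀ E : Subgroup G, IsElementaryAbelian 2 E → E ≤ D ⊔ A → Nat.card E ≤ Nat.card A)
    {a : G} (ha : a ∈ A) (hinv : ∀ d ∈ D, cj a (cj x d) = cj x (cj x (cj a d)))
    (hcase : ∀ b ∈ A, (∀ d ∈ D, cj b (cj x d) = cj x (cj b d)) ∨ ∀ d ∈ D, cj b (cj x d) = cj x (cj x (cj b d)))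
    (hD1 : D ≠ ⊥) : Nat.card D = 4 := by
  classical
  have haD : ∀ b ∈ A, ∀ d ∈ D, cj b d ∈ D := fun b hb d hd => conj_mem' (hAD hb) hd
  let B : Subgroup G :=
    { carrier := {b | b ∈ A ∧ ∀ d ∈ D, cj b (cj x d) = cj x (cj b d)}
      one_mem' := ⟨A.one_mem, fun d _ => by simp [cj]⟩
      mul_mem' := fun {b c} hb hc => ⟨A.mul_mem hb.1 hc.1, fun d hd => by
        rw [cj_comp, cj_comp, hc.2 d hd, hb.2 _ (haD c hc.1 d hd)]⟩
      inv_mem' := fun {b} hb => by rw [elem_inv hA hb.1]; exact hb }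
  refine card_eq_four hD hA hxD hsum hAD hmax ha hinv (B := B) (fun b hb => hb.1) ?_ (fun b hb => hb.2) hD1
  let φ : ↥A → ↥B × Bool := fun t => if h : ∀ d ∈ D, cj (t : G) (cj x d) = cj x (cj (t : G) d) then (⟨t, t.2, h⟩, false)
    else (⟨a * t, A.mul_mem ha t.2, fun d hd => by
      have htd := haD _ t.2 d hd
      have hatd := haD a ha _ htd
      rw [cj_comp, cj_comp, ((hcase t t.2).resolve_left h) d hd, hinv _ (hxD _ htd), hinv _ htd,
        hx3 _ (hxD _ hatd)]⟩, true)
  have hφ : Function.Injective φ := by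
    intro s t h
    simp only [φ] at h
    by_cases hs : ∀ d ∈ D, cj (s : G) (cj x d) = cj x (cj (s : G) d) <;>
      by_cases ht : ∀ d ∈ D, cj (t : G) (cj x d) = cj x (cj (t : G) d)
    · rw [dif_pos hs, dif_pos ht] at h
      exact Subtype.ext (congrArg (fun z : ↥B × Bool => (z.1 : G)) h :)
    · rw [dif_pos hs, dif_neg ht] at h
      exact Bool.noConfusion (congrArg Prod.snd h :)
    · rw [dif_neg hs, dif_pos ht] at h
      exact Bool.noConfusion (congrArg Prod.snd h :)
    · rw [dif_neg hs, dif_neg ht] at h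
      exact Subtype.ext (mul_left_cancel (congrArg (fun z : ↥B × Bool => (z.1 : G)) h :))
  have := Nat.card_le_card_of_injective φ hφ
  rwa [Nat.card_prod, Nat.card_eq_fintype_card (α := Bool), Fintype.card_bool, mul_comm] at this

end Small

section Abstract

variable {M : Type u} [Group M] [Finite M]

theorem mul_cases_of_three {x y : M} {i : ℕ} (hx : x ^ 3 = 1) (hy : y = x ^ i) (hy1 : y ≠ 1) :
    y = x ∨ y = x ^ 2 := by
  have h : i % 3 = 0 ∨ i % 3 = 1 ∨ i % 3 = 2 := by omega
  rw [pow_eq_pow_mod i hx] at hy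
  rcases h with h | h | h <;> rw [h] at hy
  · exact absurd (hy.trans (pow_zero x)) hy1
  · exact Or.inl (hy.trans (pow_one x))
  · exact Or.inr hy

namespace Over

variable (hM : Over M)
include hM

/-- A largest elementary abelian subgroup in `J(T)` inverting a given basic element. -/
theorem core_inverter (T : Sylow 2 M) {x : M} (hx : IsCore (vee M) x) :
    ∃ A ∈ maxElementaryAbelianSubgroups 2 M, A ≤ thompsonSubgroupOf 2 (T : Subgroup M) ∧
      ∃ a ∈ A, IsTv (vee M) a ∧ act M a * act M x * (act M a)⁻¹ * act M x = 1 := by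
  classical
  haveI : Fact (Nat.Prime 2) := ⟨Nat.prime_two⟩
  haveI := thompsonSubgroup_normal' (G := M) (p := 2)
  obtain ⟨A, hA, a, ha, hatv, hinv⟩ := hx.inverted
  set JM := thompsonSubgroup 2 M with hJM
  obtain ⟨hle, hp, hidx⟩ := Comp.isSylowIn_inf_of_subnormal T (Subgroup.Normal.isSubnormal (inferInstance : JM.Normal))
  have hS : IsSylowTwoIn ((T : Subgroup M) ⊓ JM) JM := ⟨hle, hp, by
    rw [← Nat.not_even_iff_odd, even_iff_two_dvd]; exact hidx⟩
  obtain ⟨h, hh, hAh⟩ := exists_conj_le hS (isPGroup_two_of_sq hA.1.2) (le_sSup hA)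
  set f := (MulAut.conj h).toMonoidHom with hf
  have hfi : Function.Injective f := MulEquiv.injective (MulAut.conj h)
  have hmax : A.map f ∈ maxElementaryAbelianSubgroups 2 M :=
    ⟨PLocal.isElementary_map _ hA.1, fun B hB => by rw [Subgroup.card_map_of_injective hfi]; exact hA.2 B hB⟩
  refine ⟨A.map f, hmax, ?_, f a, ⟨a, ha, rfl⟩, ?_, ?_⟩
  · exact top_le ⟨hmax.1, hAh.trans inf_le_left, fun F hF _ => hmax.2 F hF⟩
  · show 2 * Nat.card ↥(vee M ⊓ Subgroup.centralizer ({f a} : Set M)) = Nat.card ↥(vee M)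
    have e : vee M ⊓ Subgroup.centralizer ({f a} : Set M) = (vee M ⊓ Subgroup.centralizer ({a} : Set M)).map f := by
      ext v
      constructor
      · rintro ⟨hv, hc⟩
        refine ⟨h⁻¹ * v * h, ⟨?_, ?_⟩, by simp [hf, mul_assoc]⟩
        · have := conj_mem_of_normal (inferInstance : (vee M).Normal) hv h⁻¹
          rwa [inv_inv] at this
        · show h⁻¹ * v * h ∈ Subgroup.centralizer ({a} : Set M)
          have hc' : v ∈ Subgroup.centralizer ({f a} : Set M) := hc
          rw [Subgroup.mem_centralizer_singleton_iff] at hc' ⊢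
          have hc'' : v * (h * a * h⁻¹) = (h * a * h⁻¹) * v := hc'
          calc h⁻¹ * v * h * a = h⁻¹ * (v * (h * a * h⁻¹)) * h := by group
            _ = h⁻¹ * ((h * a * h⁻¹) * v) * h := by rw [hc'']
            _ = a * (h⁻¹ * v * h) := by group
      · rintro ⟨u, ⟨hu, hc⟩, rfl⟩
        refine ⟨conj_mem_of_normal inferInstance hu h, ?_⟩
        show f u ∈ Subgroup.centralizer ({f a} : Set M)
        have hc' : u ∈ Subgroup.centralizer ({a} : Set M) := hc
        rw [Subgroup.mem_centralizer_singleton_iff] at hc' ⊢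
        rw [← map_mul, hc', map_mul]
    rw [e, Subgroup.card_map_of_injective hfi]
    exact hatv
  · have h1 := act_eq_one.mpr hinv
    rw [map_mul, map_mul, map_mul, map_inv] at h1
    obtain ⟨k, hk⟩ : ∃ k : ℤ, act M x ^ k = (act M h)⁻¹ * act M x * act M h := by
      obtain ⟨y, hy, c, hc, e⟩ := Subgroup.mem_sup_of_normal_right.mp (hx.normal h⁻¹ (inv_mem hh))
      obtain ⟨k, rfl⟩ := Subgroup.mem_zpowers_iff.mp hy
      refine ⟨k, ?_⟩
      have := congrArg (act M) e
      rwa [map_mul, map_mul, map_mul, map_zpow, act_eq_one.mpr hc, mul_one, inv_inv, map_inv] at this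
    have h2 : act M a * act M x ^ k * (act M a)⁻¹ * act M x ^ k = 1 := by
      rw [← conj_zpow, eq_inv_of_mul_eq_one_left h1, inv_zpow, inv_mul_cancel]
    rw [hk] at h2
    show act M (h * a * h⁻¹) * act M x * (act M (h * a * h⁻¹))⁻¹ * act M x = 1
    rw [map_mul, map_mul, map_inv]
    calc act M h * act M a * (act M h)⁻¹ * act M x * (act M h * act M a * (act M h)⁻¹)⁻¹ * act M x
        = act M h * (act M a * ((act M h)⁻¹ * act M x * act M h) * (act M a)⁻¹ * ((act M h)⁻¹ * act M x * act M h)) * (act M h)⁻¹ := by group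
      _ = 1 := by rw [h2, mul_one, mul_inv_cancel]

/-- The data attached to a basic element. -/
theorem pre_of_core (T : Sylow 2 M) {x : M} (hx : IsCore (vee M) x) :
    ∃ x1 a, x⁻¹ * x1 ∈ cee M ∧ Pre x1 a ∧ a ∈ thompsonSubgroupOf 2 (T : Subgroup M) ∧
      ∃ A ∈ maxElementaryAbelianSubgroups 2 M, A ≤ thompsonSubgroupOf 2 (T : Subgroup M) ∧ a ∈ A ∧
        ∀ j ∈ thompsonSubgroup 2 M, act M (j * x1 * j⁻¹) ∈ Subgroup.zpowers (act M x1) := by
  classical
  haveI := thompsonSubgroup_normal' (G := M) (p := 2)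
  obtain ⟨A, hA, hAJ, a, ha, hatv, hinv⟩ := hM.core_inverter T hx
  have ha2 : a * a = 1 := by rw [← pow_two]; exact hA.1.2 a ha
  have haM : a ∈ thompsonSubgroup 2 M := le_sSup hA ha
  set X := act M x with hX
  set α := act M a with hα
  have hX3 : X ^ 3 = 1 := by rw [hX, ← map_pow]; exact act_eq_one.mpr hx.cube
  have hX1 : X ≠ 1 := fun e => hx.ne (act_eq_one.mp e)
  have hαX : α * X * α⁻¹ = X⁻¹ := eq_inv_of_mul_eq_one_left hinv
  set x1 := a * x * a⁻¹ * x⁻¹ with hx1def
  have hx1act : act M x1 = X := by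
    rw [hx1def, map_mul, map_mul, map_mul, map_inv, map_inv, ← hα, ← hX, hαX]
    have h3 : X ^ 3 = 1 := hX3
    rw [pow_succ, pow_two] at h3
    calc X⁻¹ * X⁻¹ = X * (X * X * X)⁻¹ := by group
      _ = X := by rw [h3, inv_one, mul_one]
  have hainv : a⁻¹ = a := inv_eq_of_mul_eq_one_right ha2
  have hax1 : a * x1 * a⁻¹ = x1⁻¹ := by
    rw [hx1def, hainv]
    calc a * (a * x * a * x⁻¹) * a = (a * a) * (x * a * x⁻¹ * a) := by group
      _ = x * a * x⁻¹ * a := by rw [ha2, one_mul]
      _ = (a⁻¹ * x * a⁻¹ * x⁻¹)⁻¹ := by group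
      _ = (a * x * a * x⁻¹)⁻¹ := by rw [hainv]
  have hx1J : x1 ∈ thompsonSubgroup 2 M :=
    mul_mem (conj_mem_of_normal inferInstance hx.memJ a) (inv_mem hx.memJ)
  have hx1C : x⁻¹ * x1 ∈ cee M := act_eq_one.mp (by rw [map_mul, map_inv, hx1act, ← hX, inv_mul_cancel])
  have hc3 : x1 ^ 3 ∈ cee M := act_eq_one.mp (by rw [map_pow, hx1act, hX3])
  have hx13 : x1 ^ 3 ∈ pCore 2 M := by
    have h1 := hM.comm_cee hc3 haM
    rw [← conj_pow, hax1, inv_pow, ← mul_inv_rev] at h1
    exact hM.sq_cee hc3 (inv_mem_iff.mp h1)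
  -- the range is a four group
  set R := (mv (act M x1)).range with hR
  set D := R.map (vee M).subtype with hD
  have hcoe : ∀ (g : M) (v : ↥(vee M)), ((act M g v : ↥(vee M)) : M) = cj g v := fun g v => MulAut.conjNormal_apply g v
  have hDel : IsElementaryAbelian 2 D := PLocal.isElementaryAbelian_of_le vee_elem (Subgroup.map_subtype_le _)
  have h3' : act M x1 ^ 3 = 1 := by rw [hx1act, hX3]
  have hxR : ∀ r ∈ R, act M x1 r ∈ R := by
    rintro _ ⟨v, rfl⟩; exact ⟨act M x1 v, by simp [mv_apply, map_mul, map_inv]⟩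
  have hcycle : ∀ v : ↥(vee M), act M x1 (act M x1 (act M x1 v)) = v := cube_apply vee_sq h3'
  have hsumR : ∀ r ∈ R, r * act M x1 r * act M x1 (act M x1 r) = 1 := by
    rintro _ ⟨v, rfl⟩
    simp only [mv_apply, map_mul, map_inv, hcycle]
    simp [inv_self (vee_sq (M := M)), mul_assoc, mul_comm, mul_left_comm, vee_sq (M := M)]
  have hcaseM : ∀ b ∈ thompsonSubgroup 2 M, act M (b * x1 * b⁻¹) ∈ Subgroup.zpowers (act M x1) := by
    intro b hb
    obtain ⟨y, hy, c, hc, e⟩ := Subgroup.mem_sup_of_normal_right.mp (hx.normal b hb)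
    obtain ⟨k, rfl⟩ := Subgroup.mem_zpowers_iff.mp hy
    refine Subgroup.mem_zpowers_iff.mpr ⟨k, ?_⟩
    have h := congrArg (act M) e
    rw [map_mul, map_mul, map_mul, map_zpow, act_eq_one.mpr hc, mul_one, ← hX, ← hx1act] at h
    rw [map_mul (act M) (b * x1) b⁻¹, map_mul (act M) b x1]
    exact h
  have hR1 : R ≠ ⊥ := fun e => hX1 (by
    rw [← hx1act]
    refine MulEquiv.ext fun v => ?_
    have hv : mv (act M x1) v ∈ R := ⟨v, rfl⟩
    rw [e, Subgroup.mem_bot] at hv
    exact mul_inv_eq_one.mp hv)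
  have hmvN : ∀ b ∈ thompsonSubgroup 2 M, ∀ r ∈ R, act M b r ∈ R := by
    intro b hb r hr
    obtain ⟨v, rfl⟩ := hr
    obtain ⟨n, hn⟩ := (isOfFinOrder_of_finite (act M x1)).mem_powers_iff_mem_zpowers.mpr (hcaseM b hb)
    change act M x1 ^ n = _ at hn
    have hn' : act M x1 ^ n = act M b * act M x1 * (act M b)⁻¹ := by
      rw [hn, map_mul (act M) (b * x1) b⁻¹, map_mul (act M) b x1, map_inv (act M) b]
    have e : act M b (mv (act M x1) v) = mv (act M x1 ^ n) (act M b v) := by
      rw [hn', mv_apply, mv_apply, map_mul (act M b), map_inv (act M b), MulAut.mul_apply, MulAut.mul_apply,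
        MulAut.inv_apply_self]
    rw [e]
    generalize act M b v = w
    clear e hn hn'
    induction n with
    | zero => simp [mv_apply]
    | succ n ih =>
      have e' : mv (act M x1 ^ (n + 1)) w = mv (act M x1) ((act M x1 ^ n) w) * mv (act M x1 ^ n) w := by
        rw [pow_succ', mv_apply, mv_apply, mv_apply]
        show act M x1 ((act M x1 ^ n) w) * w⁻¹ = _
        group
      rw [e']; exact mul_mem ⟨_, rfl⟩ ih
  have hR4 : Nat.card R = 4 := by
    rw [← Subgroup.card_map_of_injective (vee M).subtype_injective (K := R), ← hD]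
    refine card_four_of_inv (x := x1) (A := A) (a := a) hDel hA.1 ?_ ?_ ?_ ?_ (fun E hE _ => hA.2 E hE) ha ?_ ?_ ?_
    · rintro _ ⟨r, hr, rfl⟩; exact ⟨_, hxR r hr, hcoe x1 r⟩
    · rintro _ ⟨r, hr, rfl⟩
      have h := congrArg Subtype.val (hsumR r hr)
      simp only [Subgroup.coe_mul, hcoe, Subgroup.coe_one] at h
      exact h
    · rintro _ ⟨r, hr, rfl⟩
      have h := congrArg Subtype.val (hcycle r)
      simp only [hcoe] at h
      exact h
    · intro b hb
      refine mem_normalizer_of_conj_mem ?_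
      rintro _ ⟨r, hr, rfl⟩
      exact ⟨_, hmvN b (le_sSup hA hb) r hr, hcoe b r⟩
    · rintro _ ⟨r, -, rfl⟩
      have hop : α * act M x1 = act M x1 * act M x1 * α := by
        have h3 := h3'
        rw [pow_succ, pow_two] at h3
        rw [hx1act] at h3 ⊢
        rw [← mul_inv_eq_iff_eq_mul, hαX, inv_eq_of_mul_eq_one_left h3]
      have h := congrArg Subtype.val (DFunLike.congr_fun hop r)
      simp only [MulAut.mul_apply, hα, hcoe] at h
      exact h
    · intro b hb
      obtain ⟨n, hn⟩ := (isOfFinOrder_of_finite (act M x1)).mem_powers_iff_mem_zpowers.mpr (hcaseM b (le_sSup hA hb))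
      change act M x1 ^ n = _ at hn
      have hne : act M (b * x1 * b⁻¹) ≠ 1 := by
        rw [map_mul (act M) (b * x1) b⁻¹, map_mul (act M) b x1, map_inv (act M) b]
        intro e
        exact hX1 (hx1act ▸ (conj_eq_one_iff.mp e))
      rcases mul_cases_of_three h3' hn.symm hne with e | e
      · left
        rintro _ ⟨r, -, rfl⟩
        rw [map_mul (act M) (b * x1) b⁻¹, map_mul (act M) b x1, map_inv (act M) b, mul_inv_eq_iff_eq_mul] at e
        have h := congrArg Subtype.val (DFunLike.congr_fun e r)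
        simp only [MulAut.mul_apply, hcoe] at h
        exact h
      · right
        rintro _ ⟨r, -, rfl⟩
        rw [map_mul (act M) (b * x1) b⁻¹, map_mul (act M) b x1, map_inv (act M) b, mul_inv_eq_iff_eq_mul, pow_two] at e
        have h := congrArg Subtype.val (DFunLike.congr_fun e r)
        simp only [MulAut.mul_apply, hcoe] at h
        exact h
    · exact fun e => hR1 ((Subgroup.map_eq_bot_iff_of_injective _ (vee M).subtype_injective).mp e)
  have haR : ∃ r ∈ R, mv α r ≠ 1 := by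
    by_contra hall
    push Not at hall
    refine hR1 ((Subgroup.eq_bot_iff_forall _).mpr fun r hr => ?_)
    have hfix : ∀ r ∈ R, α r = r := fun r hr => mul_inv_eq_one.mp (hall r hr)
    refine range_fpf vee_sq h3' hr ?_
    have h := DFunLike.congr_fun (eq_mul_of_mul_inv_eq hαX : α * X = X⁻¹ * α) r
    rw [MulAut.mul_apply, MulAut.mul_apply, ← hx1act, hfix _ (hxR r hr), hfix r hr] at h
    have h2 : act M x1 (act M x1 r) = r := by
      conv_lhs => rw [h]
      rw [MulAut.apply_inv_self]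
    calc act M x1 r = act M x1 (act M x1 (act M x1 r)) := by rw [h2]
      _ = r := hcycle r
  have hsmall : (mv α).range ≤ R := by
    obtain ⟨r, hr, hne⟩ := haR
    have hm : mv α r ∈ R := by rw [mv_apply]; exact mul_mem (hmvN a haM r hr) (inv_mem hr)
    have hcard : Nat.card (mv α).range = 2 := by
      have h1 := Subgroup.card_mul_index (mv α).ker
      rw [Subgroup.index_ker] at h1
      have hk : Nat.card (mv α).ker = Nat.card ↥(vee M ⊓ Subgroup.centralizer ({a} : Set M)) := by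
        refine Nat.card_congr ⟨fun v => ⟨v.1.1, v.1.2, ?_⟩, fun v => ⟨⟨v.1, v.2.1⟩, ?_⟩, fun v => rfl, fun v => rfl⟩
        · have h2 := congrArg Subtype.val (mul_inv_eq_one.mp (show act M a v.1 * (v.1)⁻¹ = 1 from v.2))
          rw [MulAut.conjNormal_apply] at h2
          exact Subgroup.mem_centralizer_singleton_iff.mpr (mul_inv_eq_iff_eq_mul.mp h2).symm
        · refine mul_inv_eq_one.mpr (Subtype.ext ?_)
          rw [hα, MulAut.conjNormal_apply]
          exact mul_inv_eq_iff_eq_mul.mpr (Subgroup.mem_centralizer_singleton_iff.mp v.2.2).symm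
      rw [hk] at h1
      have h3 : 2 * Nat.card ↥(vee M ⊓ Subgroup.centralizer ({a} : Set M)) = Nat.card ↥(vee M) := hatv
      rw [← h3, mul_comm 2] at h1
      exact Nat.eq_of_mul_eq_mul_left Nat.card_pos h1
    have heq : (mv α).range ⊓ R = (mv α).range := by
      refine Subgroup.eq_of_le_of_card_ge inf_le_left ?_
      rw [hcard]
      haveI : Nontrivial ↥((mv α).range ⊓ R) :=
        ⟨⟨⟨_, ⟨r, rfl⟩, hm⟩, 1, fun e => hne (congrArg Subtype.val e)⟩⟩
      exact Finite.one_lt_card_iff_nontrivial.mpr this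
    exact heq.ge.trans inf_le_right
  have haC : a ∉ cee M := fun h => by
    obtain ⟨r, -, hne⟩ := haR
    exact hne (by rw [hα, act_eq_one.mpr h, mv_apply]; exact mul_inv_cancel r)
  have hxC : x1 ∉ cee M := fun h => hX1 (by rw [← hx1act]; exact act_eq_one.mpr h)
  exact ⟨x1, a, hx1C, ⟨hx1J, hx13, hxC, hR4, haM, ha2, haC, by rw [hax1, inv_mul_cancel]; exact one_mem _, hsmall⟩,
    hAJ ha, A, hA, hAJ, ha, hcaseM⟩

/-- Every basic element comes from a component. -/
theorem comp_of_core (T : Sylow 2 M) {x : M} (hx : IsCore (vee M) x) :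
    ∃ K, IsComp (thompsonSubgroupOf 2 (T : Subgroup M)) K ∧ x ∈ K ⊔ cee M := by
  classical
  haveI : Fact (Nat.Prime 2) := ⟨Nat.prime_two⟩
  haveI := thompsonSubgroup_normal' (G := M) (p := 2)
  obtain ⟨x1, a, hxx1, P, haJ, A, hA, hAJ, haA, hcase⟩ := hM.pre_of_core T hx
  set J := thompsonSubgroupOf 2 (T : Subgroup M) with hJ
  set Q := pCore 2 M with hQ
  set X1 := Subgroup.zpowers x1 ⊔ Q with hX1
  set K := oddGen X1 with hK
  have hJM : J ≤ thompsonSubgroup 2 M := thompsonOf_le T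
  have hJX : J ≤ Subgroup.normalizer (X1 : Set M) := by
    intro j hj
    have hjM := hJM hj
    obtain ⟨n, hn⟩ := (isOfFinOrder_of_finite (act M x1)).mem_powers_iff_mem_zpowers.mpr (hcase j hjM)
    change act M x1 ^ n = _ at hn
    have hc : ∀ g, (act M (j * g * j⁻¹) = 1 ↔ act M g = 1) := fun g => by
      rw [map_mul, map_mul, map_inv, conj_eq_one_iff]
    have hcr : (mv (act M (j * x1 * j⁻¹))).range = (mv (act M x1)).range.map (act M j).toMonoidHom := by
      ext v
      constructor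
      · rintro ⟨u, rfl⟩
        exact ⟨mv (act M x1) ((act M j)⁻¹ u), ⟨_, rfl⟩, by simp [mv_apply, map_mul, map_inv, MulAut.mul_apply]⟩
      · rintro ⟨_, ⟨u, rfl⟩, rfl⟩
        exact ⟨act M j u, by simp [mv_apply, map_mul, map_inv, MulAut.mul_apply]⟩
    have hmem : j * x1 * j⁻¹ ∈ X1 := by
      refine P.mem_of_image hM (x' := j * x1 * j⁻¹) (a' := j * a * j⁻¹) ⟨?_, ?_, ?_, ?_, ?_, ?_, ?_, ?_, ?_⟩ (hcase j hjM)
      · exact conj_mem_of_normal inferInstance P.xJ j
      · rw [conj_pow]; exact conj_mem_of_normal inferInstance P.x3 j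
      · exact fun h => P.xC (act_eq_one.mp ((hc x1).mp (act_eq_one.mpr h)))
      · rw [hcr, Subgroup.card_map_of_injective (f := (act M j).toMonoidHom) (MulEquiv.injective (act M j))]; exact P.card
      · exact conj_mem_of_normal inferInstance P.aJ j
      · rw [conj_mul, P.a2, mul_one, mul_inv_cancel]
      · exact fun h => P.aC (act_eq_one.mp ((hc a).mp (act_eq_one.mpr h)))
      · rw [show j * a * j⁻¹ * (j * x1 * j⁻¹) * (j * a * j⁻¹)⁻¹ * (j * x1 * j⁻¹) = j * (a * x1 * a⁻¹ * x1) * j⁻¹ by group]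
        exact conj_mem_of_normal inferInstance P.inv j
      · rintro _ ⟨u, rfl⟩
        rw [hcr]
        exact ⟨_, P.small ⟨(act M j)⁻¹ u, rfl⟩, by simp [mv_apply, map_mul, map_inv, MulAut.mul_apply]⟩
    refine mem_normalizer_of_conj_mem fun y hy => ?_
    have hle : X1 ≤ X1.comap (MulAut.conj j).toMonoidHom := sup_le (Subgroup.zpowers_le.mpr hmem)
      fun q hq => Subgroup.mem_sup_right (conj_mem_of_normal inferInstance hq j)
    exact hle hy
  have hN : ∀ g, g ∈ Subgroup.normalizer (X1 : Set M) → g ∈ Subgroup.normalizer (K : Set M) := by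
    intro g hg
    refine Local.mem_normalizer_of_map_conj_eq ?_
    rw [hK, ← oddGen_map _ (MulEquiv.injective (MulAut.conj g)), Local.map_conj_eq_of_mem_normalizer hg]
  have hJK : J ≤ Subgroup.normalizer (K : Set M) := fun j hj => hN j (hJX hj)
  have hQK : Q ≤ Subgroup.normalizer (K : Set M) := fun q hq => hN q (Subgroup.le_normalizer (Subgroup.mem_sup_right hq))
  have hKX : K ≤ X1 := oddGen_le _
  have hgen : oddGen K = K := le_antisymm (oddGen_le _) (Subgroup.closure_mono fun g hg =>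
    ⟨Subgroup.subset_closure hg, hg.2⟩)
  -- odd powers
  obtain ⟨k2, m2, hm2, hord⟩ := orderOf_eq_two_mul x1
  set y := x1 ^ 2 ^ k2 with hy
  have hyodd : Odd (orderOf y) := by
    rw [hy, orderOf_pow, hord, Nat.gcd_mul_right_left, Nat.mul_div_cancel_left _ (Nat.two_pow_pos k2)]
    exact hm2
  have hyK : y ∈ K := Subgroup.subset_closure ⟨Subgroup.mem_sup_left (Subgroup.npow_mem_zpowers x1 _), hyodd⟩
  have hgenZ : ∀ e : ℕ, Nat.Coprime (2 ^ e) 3 := fun e => Nat.Coprime.pow_left e (by norm_num)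
  have hrec : ∀ (H : Subgroup M) (e : ℕ), x1 ^ 2 ^ e ∈ H → x1 ^ 3 ∈ H → x1 ∈ H := by
    intro H e h1 h2
    have hb := Nat.gcd_eq_gcd_ab (2 ^ e) 3
    rw [hgenZ e, Nat.cast_one] at hb
    rw [← zpow_one x1, hb, zpow_add, zpow_mul, zpow_mul, zpow_natCast, zpow_natCast]
    exact mul_mem (H.zpow_mem h1 _) (H.zpow_mem h2 _)
  have hx1KQ : x1 ∈ K ⊔ Q := hrec _ k2 (Subgroup.mem_sup_left hyK) (Subgroup.mem_sup_right P.x3)
  -- `K = [K, J]`
  have hcomm : ⁅K, J⁆ = K := by
    refine le_antisymm ?_ ?_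
    · rw [Subgroup.commutator_le]
      intro k hk j hj
      rw [commutatorElement_def, show k * j * k⁻¹ * j⁻¹ = k * (j * k⁻¹ * j⁻¹) by group]
      exact K.mul_mem hk (conj_mem' (hJK hj) (K.inv_mem hk))
    set C1 := ⁅K, J⁆ with hC1
    have hC1K : C1 ≤ K := by
      rw [hC1, Subgroup.commutator_le]
      intro k hk j hj
      rw [commutatorElement_def, show k * j * k⁻¹ * j⁻¹ = k * (j * k⁻¹ * j⁻¹) by group]
      exact K.mul_mem hk (conj_mem' (hJK hj) (K.inv_mem hk))
    have hC1n : K ≤ Subgroup.normalizer (C1 : Set M) := Subgroup.normalizer_commutator_ge_left _ _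
    set z := ⁅y, a⁆ with hz
    have hzC : z ∈ C1 := Subgroup.commutator_mem_commutator hyK haJ
    have hzy : (x1 ^ 2 ^ (k2 + 1))⁻¹ * z ∈ Q := by
      rw [← QuotientGroup.eq_one_iff]
      set q := QuotientGroup.mk' Q with hq
      show q ((x1 ^ 2 ^ (k2 + 1))⁻¹ * z) = 1
      have h := (QuotientGroup.eq_one_iff _).mpr P.inv
      change q (a * x1 * a⁻¹ * x1) = 1 at h
      rw [map_mul, map_mul, map_mul, map_inv] at h
      have h' : q a * q x1 * (q a)⁻¹ = (q x1)⁻¹ := eq_inv_of_mul_eq_one_left h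
      rw [hz, commutatorElement_def, hy]
      simp only [map_mul, map_inv, map_pow]
      set t := q x1 ^ 2 ^ k2 with ht
      have e1 : q a * t⁻¹ * (q a)⁻¹ = t := by
        rw [ht, ← inv_pow, ← conj_pow, show q a * (q x1)⁻¹ * (q a)⁻¹ = q x1 by
          calc q a * (q x1)⁻¹ * (q a)⁻¹ = (q a * q x1 * (q a)⁻¹)⁻¹ := by group
            _ = q x1 := by rw [h', inv_inv]]
      rw [pow_succ, pow_mul, ← ht]
      calc (t ^ 2)⁻¹ * (t * q a * t⁻¹ * (q a)⁻¹) = (t ^ 2)⁻¹ * (t * (q a * t⁻¹ * (q a)⁻¹)) := by group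
        _ = 1 := by rw [e1, pow_two, inv_mul_cancel]
    have hXC : X1 ≤ C1 ⊔ Q := by
      refine sup_le (Subgroup.zpowers_le.mpr (hrec _ (k2 + 1) ?_ (Subgroup.mem_sup_right P.x3))) le_sup_right
      have := mul_mem (Subgroup.mem_sup_left (T := Q) hzC) (Subgroup.mem_sup_right (S := C1) (inv_mem hzy))
      rwa [mul_inv_rev, inv_inv, mul_inv_cancel_left] at this
    refine hgen.ge.trans ((Subgroup.closure_le _).mpr fun k hk => ?_)
    refine odd_mem_of_sup (R := K ⊓ Q) ((CfsgLib.isPGroup_pCore 2).to_le inf_le_right) (inf_le_left.trans hC1n) ?_ hk.2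
    obtain ⟨c, hc, q, hq, e⟩ := Subgroup.mem_sup_of_normal_right.mp (hXC (hKX hk.1))
    have hqK : q ∈ K := by
      have := K.mul_mem (K.inv_mem (hC1K hc)) hk.1
      rwa [← e, inv_mul_cancel_left] at this
    exact e ▸ Subgroup.mul_mem_sup hc ⟨hqK, hq⟩
  -- the index
  set O := pCoreOf 2 K with hO
  have hKQO : K ⊓ Q ≤ O := by
    intro y hy
    refine ⟨⟨y, hy.1⟩, ?_, rfl⟩
    haveI : ((K ⊓ Q).subgroupOf K).Normal := (Subgroup.normal_subgroupOf_iff_le_normalizer inf_le_left).mpr
      fun k hk => mem_normalizer_of_conj_mem fun z hz =>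
        ⟨K.mul_mem (K.mul_mem hk hz.1) (K.inv_mem hk), conj_mem_of_normal inferInstance hz.2 k⟩
    exact CfsgLib.le_pCore (N := (K ⊓ Q).subgroupOf K) (((CfsgLib.isPGroup_pCore 2).to_le inf_le_right).comap_of_injective
      K.subtype K.subtype_injective) (Subgroup.mem_subgroupOf.mpr hy)
  set qQ := QuotientGroup.mk' Q with hqQ
  have hKmap : K.map qQ = Subgroup.zpowers (qQ x1) := by
    refine le_antisymm ((Subgroup.map_mono hKX).trans ?_) ?_
    · rw [hX1, Subgroup.map_sup, MonoidHom.map_zpowers,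
        show Q.map qQ = ⊥ from QuotientGroup.map_mk'_self _, sup_bot_eq]
    · have h := Subgroup.mem_map_of_mem qQ hx1KQ
      rw [Subgroup.map_sup, show Q.map qQ = ⊥ from QuotientGroup.map_mk'_self _, sup_bot_eq] at h
      exact Subgroup.zpowers_le.mpr h
  have hQK3 : Q.relIndex K = 3 := by
    haveI : Fact (Nat.Prime 3) := ⟨Nat.prime_three⟩
    rw [Subgroup.relIndex, show Q.subgroupOf K = (qQ.comp K.subtype).ker by
      rw [← MonoidHom.comap_ker, QuotientGroup.ker_mk']; rfl, Subgroup.index_ker, MonoidHom.range_comp,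
      Subgroup.range_subtype, hKmap, Nat.card_zpowers]
    refine orderOf_eq_prime ?_ fun e => P.xC (core_le_cee ((QuotientGroup.eq_one_iff _).mp e))
    rw [← map_pow]; exact (QuotientGroup.eq_one_iff _).mpr P.x3
  have hidx : O.relIndex K = 3 := by
    have hd : O.relIndex K ∣ 3 := by
      rw [← hQK3, ← Subgroup.inf_relIndex_left K Q]
      exact Subgroup.relIndex_dvd_of_le_left K hKQO
    rcases (Nat.dvd_prime Nat.prime_three).mp hd with h | h
    · exfalso
      have hKO : K ≤ O := Subgroup.relIndex_eq_one.mp h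
      obtain ⟨n, hn⟩ := isPGroup_pCoreOf K ⟨y, hKO hyK⟩
      have hy1 : y = 1 := pow_eq_one_of_two hyodd (congrArg Subtype.val hn)
      refine P.xC (core_le_cee (hrec Q k2 ?_ P.x3))
      rw [← hy, hy1]; exact one_mem _
    · exact h
  have hOQ : O ≤ Q := by
    have hd : (K ⊓ Q).relIndex O * O.relIndex K = (K ⊓ Q).relIndex K :=
      Subgroup.relIndex_mul_relIndex _ _ _ hKQO (pCoreOf_le' K)
    rw [hidx, Subgroup.inf_relIndex_left, hQK3] at hd
    exact (Subgroup.relIndex_eq_one.mp (show (K ⊓ Q).relIndex O = 1 by omega)).trans inf_le_right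
  -- the four group
  obtain ⟨x0, hx0K, hx03, hgen0, hsum0⟩ := exists_fpf hidx
  set U := omegaCenterOf O with hU
  set W := wOf K with hW
  have hWU : W ≤ U := by
    rw [hW, wOf, Subgroup.commutator_le]
    intro d hd k hk
    rw [commutatorElement_def, show d * k * d⁻¹ * k⁻¹ = d * (k * d⁻¹ * k⁻¹) by group]
    exact U.mul_mem hd (conj_mem' (omegaCenterOf_conj (le_normalizer_pCoreOf' K hk)) (U.inv_mem hd))
  have hOW : ∀ o ∈ O, ∀ w ∈ W, cj o w = w := fun o ho w hw => by
    show o * w * o⁻¹ = w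
    rw [(omegaCenterOf_comm O (hWU hw)).2 o ho, mul_inv_cancel_right]
  have hxW : ∀ g ∈ Subgroup.normalizer (K : Set M), ∀ w ∈ W, cj g w ∈ W := fun g hg w hw => conj_mem' (wOf_conj hg) hw
  have hkx : ∀ k ∈ K, ∃ i : ℕ, ∀ w ∈ W, cj k w = cj (x0 ^ i) w := by
    intro k hk
    obtain ⟨i, hi⟩ := hgen0 k hk
    obtain ⟨n, hn⟩ := ((isOfFinOrder_of_finite x0).mem_powers_iff_mem_zpowers).mpr (Subgroup.zpow_mem _ (Subgroup.mem_zpowers x0) i)
    change x0 ^ n = x0 ^ i at hn
    refine ⟨n, fun w hw => ?_⟩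
    rw [hn]
    conv_lhs => rw [show k = x0 ^ i * ((x0 ^ i)⁻¹ * k) by group]
    rw [cj_comp, hOW _ hi w hw]
  have hx03W : ∀ w ∈ W, cj x0 (cj x0 (cj x0 w)) = w := fun w hw => by
    rw [← cj_comp, ← cj_comp, show x0 * x0 * x0 = x0 ^ 3 by simp [pow_succ, mul_assoc]]
    exact hOW _ hx03 w hw
  -- `W` is not trivial
  have hV : vee M ≤ Q := vee_gen_le.trans inf_le_left
  have hKV : K ⊓ vee M ≤ O := fun v hv => hKQO ⟨hv.1, hV hv.2⟩
  have hrg : ∀ r ∈ (mv (act M x1)).range, (r : M) ∈ W := by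
    intro r hr
    obtain ⟨u, hu, rfl⟩ : ∃ u ∈ (mv (act M x1)).range, mv (act M x1) u = r := by
      obtain ⟨v, rfl⟩ := hr
      refine ⟨act M x1 (mv (act M x1) v), ⟨act M x1 v, by simp [mv_apply, map_mul, map_inv]⟩, ?_⟩
      simp only [mv_apply, map_mul, map_inv, cube_apply vee_sq P.act3]
      simp [inv_self (vee_sq (M := M)), mul_assoc, mul_comm, mul_left_comm, vee_sq (M := M)]
    obtain ⟨k, hk, q, hq, e⟩ := Subgroup.mem_sup_of_normal_right.mp hx1KQ
    have hfix : ∀ g : M, g ∈ vee M → cj q g = g := fun g hg => by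
      show q * g * q⁻¹ = g
      rw [(vee_gen_le hg).2 q hq, mul_inv_cancel_right]
    have hact : ∀ g : M, g ∈ vee M → cj x1 g = cj k g := fun g hg => by rw [← e, cj_comp, hfix g hg]
    have hin : ∀ g : M, g ∈ vee M → cj k g * g⁻¹ ∈ K := fun g hg => by
      have h1 := K.mul_mem hk (conj_mem' (hQK (hV hg)) (K.inv_mem hk))
      rwa [show k * (g * k⁻¹ * g⁻¹) = cj k g * g⁻¹ by simp [cj, mul_assoc]] at h1
    have huU : (u : M) ∈ U := by
      obtain ⟨v, rfl⟩ := hu
      rw [mv_act_coe]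
      have hmem : x1 * (v : M) * x1⁻¹ * (v : M)⁻¹ ∈ vee M :=
        mul_mem (conj_mem_of_normal inferInstance v.2 x1) (inv_mem v.2)
      refine Subgroup.subset_closure ⟨⟨hKV ⟨?_, hmem⟩, fun o ho => (vee_gen_le hmem).2 o (hOQ ho)⟩, vee_elem.2 _ hmem⟩
      rw [show x1 * (v : M) * x1⁻¹ = cj k (v : M) from hact v v.2]
      exact hin v v.2
    have h := W.inv_mem (Subgroup.commutator_mem_commutator huU hk : ⁅(u : M), k⁆ ∈ W)
    rw [mv_act_coe, show x1 * (u : M) * x1⁻¹ = cj k (u : M) from hact u u.2]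
    rwa [show (⁅(u : M), k⁆)⁻¹ = cj k (u : M) * (u : M)⁻¹ by simp [commutatorElement_def, cj, mul_assoc]] at h
  have hW1 : W ≠ ⊥ := by
    intro e
    have hc := P.card
    rw [show (mv (act M x1)).range = ⊥ from (Subgroup.eq_bot_iff_forall _).mpr fun r hr =>
      Subtype.ext (Subgroup.mem_bot.mp (e ▸ hrg r hr)), Subgroup.card_bot] at hc
    omega
  have hxa : ∀ b ∈ J, ∃ i : ℕ, ∀ w ∈ W, cj b (cj x0 w) = cj (x0 ^ i) (cj b w) := by
    intro b hb
    obtain ⟨i, hi⟩ := hkx _ (conj_mem' (hJK hb) hx0K)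
    refine ⟨i, fun w hw => ?_⟩
    rw [← hi _ (hxW b (hJK hb) w hw)]
    simp [cj, mul_assoc]
  have hxp : ∀ i : ℕ, ∀ w ∈ W, cj (x0 ^ i) w = cj (x0 ^ (i % 3)) w := by
    intro i
    induction i using Nat.strong_induction_on with
    | _ i ih =>
      intro w hw
      rcases Nat.lt_or_ge i 3 with h | h
      · rw [Nat.mod_eq_of_lt h]
      · obtain ⟨j, rfl⟩ : ∃ j, i = j + 3 := ⟨i - 3, by omega⟩
        rw [pow_add, cj_comp, hOW _ hx03 w hw, ih j (by omega) w hw, Nat.add_mod_right]
  have hcaseW : ∀ b ∈ J, (∀ w ∈ W, cj b (cj x0 w) = cj x0 (cj b w)) ∨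
      ∀ w ∈ W, cj b (cj x0 w) = cj x0 (cj x0 (cj b w)) := by
    intro b hb
    obtain ⟨i, hi⟩ := hxa b hb
    have hb' := hxW b (hJK hb)
    rcases (show i % 3 = 0 ∨ i % 3 = 1 ∨ i % 3 = 2 by omega) with h | h | h
    · exfalso
      refine hW1 ((Subgroup.eq_bot_iff_forall _).mpr fun w hw => ?_)
      have h1 := hi w hw
      rw [hxp i _ (hb' w hw), h, pow_zero] at h1
      have h2 : cj x0 w = w := (MulAut.conj b).injective (h1.trans (by simp [cj]))
      have h3 := hsum0 w hw
      rwa [h2, h2, elem_sq (PLocal.isElementaryAbelian_of_le (omegaCenterOf_elem O) hWU) hw, one_mul] at h3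
    · exact Or.inl fun w hw => by rw [hi w hw, hxp i _ (hb' w hw), h, pow_one]
    · exact Or.inr fun w hw => by rw [hi w hw, hxp i _ (hb' w hw), h, pow_two, cj_comp]
  have hWel : IsElementaryAbelian 2 W := PLocal.isElementaryAbelian_of_le (omegaCenterOf_elem O) hWU
  have hinvW : ∀ w ∈ W, cj a (cj x0 w) = cj x0 (cj x0 (cj a w)) := by
    rcases hcaseW a haJ with h | h
    · exfalso
      -- `a` inverts `x1`
      have hpow : ∀ i : ℕ, ∀ w ∈ W, cj a (cj (x0 ^ i) w) = cj (x0 ^ i) (cj a w) := by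
        intro i
        induction i with
        | zero => intro w _; simp [cj]
        | succ i ih =>
          intro w hw
          have hiw : cj (x0 ^ i) w ∈ W := hxW _ (Subgroup.le_normalizer (K.pow_mem hx0K i)) w hw
          rw [pow_succ', cj_comp, cj_comp, h _ hiw, ih w hw]
      have hall : ∀ r ∈ (mv (act M x1)).range, act M x1 r = r := by
        intro r hr
        obtain ⟨k, hk, q, hq, e⟩ := Subgroup.mem_sup_of_normal_right.mp hx1KQ
        have hact : ∀ g : M, g ∈ vee M → cj x1 g = cj k g := fun g hg => by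
          rw [← e, cj_comp, show cj q g = g by
            show q * g * q⁻¹ = g
            rw [(vee_gen_le hg).2 q hq, mul_inv_cancel_right]]
        obtain ⟨i, hi⟩ := hkx k hk
        have hxr : act M x1 r ∈ (mv (act M x1)).range := by
          obtain ⟨v, rfl⟩ := hr; exact ⟨act M x1 v, by simp [mv_apply, map_mul, map_inv]⟩
        have har : act M a r ∈ (mv (act M x1)).range := by
          have := mul_mem (P.small ⟨r, rfl⟩) hr
          rwa [mv_apply, inv_mul_cancel_right] at this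
        have hco : act M a (act M x1 r) = act M x1 (act M a r) := Subtype.ext (by
          simp only [MulAut.conjNormal_apply]
          show cj a (cj x1 (r : M)) = cj x1 (cj a (r : M))
          have hra := hrg _ har
          rw [show ((act M a r : ↥(vee M)) : M) = cj a (r : M) from MulAut.conjNormal_apply a r] at hra
          rw [hact _ r.2, hi _ (hrg r hr), hpow i _ (hrg r hr), hact _ (conj_mem_of_normal inferInstance r.2 a), hi _ hra])
        have hi2 := P.act_inv r
        rw [hco] at hi2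
        have h2 : act M a r = act M x1 (act M a r) := (act M x1).injective hi2
        have h3 := range_fpf vee_sq P.act3 har h2.symm
        have h4 : r = 1 := (act M a).injective (h3.trans (map_one _).symm)
        rw [h4, map_one]
      have hc := P.card
      rw [show (mv (act M x1)).range = ⊥ from (Subgroup.eq_bot_iff_forall _).mpr fun r hr =>
        range_fpf vee_sq P.act3 hr (hall r hr), Subgroup.card_bot] at hc
      omega
    · exact h
  have hW4 : Nat.card W = 4 :=
    card_four_of_inv hWel hA.1 (fun w hw => hxW x0 (Subgroup.le_normalizer hx0K) w hw) hsum0 hx03W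
      (fun b hb => wOf_conj (hJK (hAJ hb))) (fun E hE _ => hA.2 E hE) haA hinvW (fun b hb => hcaseW b (hAJ hb)) hW1
  refine ⟨K, ⟨hgen, hcomm, hidx, hW4⟩, ?_⟩
  have h1 : x1 ∈ K ⊔ cee M := (sup_le le_sup_left (core_le_cee.trans le_sup_right) : K ⊔ Q ≤ K ⊔ cee M) hx1KQ
  have h2 := mul_mem h1 (inv_mem (Subgroup.mem_sup_right (S := K) hxx1))
  rwa [mul_inv_rev, inv_inv, mul_inv_cancel_left] at h2

/-- Components and the normalizer of `J(T)` cover the group. -/
theorem eq_top_of_comps (T : Sylow 2 M) {Z : Subgroup M}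
    (hZ : ∀ K, IsComp (thompsonSubgroupOf 2 (T : Subgroup M)) K → K ≤ Z) (hTZ : (T : Subgroup M) ≤ Z)
    (hNZ : Subgroup.normalizer (thompsonSubgroupOf 2 (T : Subgroup M) : Set M) ≤ Z) : Z = ⊤ := by
  classical
  haveI : Fact (Nat.Prime 2) := ⟨Nat.prime_two⟩
  haveI := thompsonSubgroup_normal' (G := M) (p := 2)
  set JM := thompsonSubgroup 2 M with hJM
  set J := thompsonSubgroupOf 2 (T : Subgroup M) with hJ
  have hTN : Subgroup.normalizer ((T : Subgroup M) : Set M) ≤ Subgroup.normalizer (J : Set M) := fun g hg => by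
    refine Local.mem_normalizer_of_map_conj_eq ?_
    rw [hJ, ← thompsonOf_map _ (MulEquiv.injective (MulAut.conj g)), Local.map_conj_eq_of_mem_normalizer hg]
  have hC : cee M ≤ Z := (hM.cee_le T).trans ((hM.cz T).trans (hTN.trans hNZ))
  obtain ⟨hle, hp, hidx⟩ := Comp.isSylowIn_inf_of_subnormal T (Subgroup.Normal.isSubnormal (inferInstance : JM.Normal))
  have hJMZ : JM ≤ Z := by
    refine Subgroup.relIndex_eq_one.mp (Nat.eq_one_iff_not_exists_prime_dvd.mpr fun p hp' hdvd => ?_)
    rcases hp'.eq_two_or_odd' with rfl | hodd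
    · exact hidx (hdvd.trans (Subgroup.relIndex_dvd_of_le_left JM (inf_le_left.trans hTZ)))
    · haveI : Fact p.Prime := ⟨hp'⟩
      obtain ⟨P⟩ : Nonempty (Sylow p ↥JM) := inferInstance
      have hP : (P : Subgroup ↥JM) ≤ Z.subgroupOf JM := by
        intro k hk
        obtain ⟨n, hn⟩ := P.isPGroup' ⟨k, hk⟩
        refine odd_mem_of_cores vee_elem hM.psolv hM.core_quot hC (fun x hx => ?_) k.2 ?_
        · obtain ⟨K, hK, hxK⟩ := hM.comp_of_core T hx
          exact (sup_le (hZ K hK) hC) hxK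
        · refine (hodd.pow (n := n)).of_dvd_nat (orderOf_dvd_of_pow_eq_one ?_)
          exact congrArg Subtype.val (congrArg Subtype.val hn : k ^ p ^ n = 1)
      exact P.not_dvd_index (hdvd.trans (Subgroup.index_dvd_of_le hP))
  set P0 := (T : Subgroup M) ⊓ JM with hP0
  have hJP : J ≤ P0 := le_inf (Subgroup.map_subtype_le _) (thompsonOf_le T)
  have hJeq : thompsonSubgroupOf 2 P0 = J := by
    refine le_antisymm (thompsonOf_le_iff.mpr fun E hE => top_le ⟨hE.1, hE.2.1.trans inf_le_left, fun F hF hFT => ?_⟩)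
      (thompsonOf_mono hJP fun F hF hF0 => ⟨F, hF, hF0.trans inf_le_left, le_rfl⟩)
    obtain ⟨E0, hE0⟩ := exists_top (T : Subgroup M)
    exact (hE0.2.2 F hF hFT).trans (hE.2.2 E0 hE0.1 ((top_le hE0).trans hJP))
  rw [eq_top_iff]
  intro m _
  have hp0 : IsPGroup 2 ↥(P0.map (MulAut.conj m).toMonoidHom) := hp.map _
  have hmJ : P0.map (MulAut.conj m).toMonoidHom ≤ JM :=
    (Subgroup.map_mono hle).trans (map_conj_le_normal inferInstance m)
  obtain ⟨k, hk, hkm⟩ := exists_conj_le (T := P0) ⟨hle, hp, by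
    rw [← Nat.not_even_iff_odd, even_iff_two_dvd]; exact hidx⟩ hp0 hmJ
  rw [conj_map_map] at hkm
  have hN : k * m ∈ Subgroup.normalizer (J : Set M) := by
    refine Local.mem_normalizer_of_map_conj_eq ?_
    rw [← hJeq, ← thompsonOf_map _ (MulEquiv.injective (MulAut.conj (k * m))),
      Subgroup.eq_of_le_of_card_ge hkm (Subgroup.card_map_of_injective (MulEquiv.injective (MulAut.conj (k * m)))).ge]
  have := Z.mul_mem (Z.inv_mem (hJMZ hk)) (hNZ hN)
  rwa [inv_mul_cancel_left] at this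

end Over

end Abstract

end CfsgLib.JComp
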