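import Mathlib
import Cfsg.Agent.Lib.JComp.Exists

/-!
Straddling 2-subgroups of a 2-local subgroup.
-/

set_option autoImplicit false
set_option linter.unusedSectionVars false

universe u

namespace CfsgLib.JComp

open Cfsg CfsgLib.PLocal CfsgLib.Offender
open scoped commutatorElement

variable {G : Type u} [Group G] [Finite G]

theorem thompson_eq {T L R : Subgroup G} (hT : IsSylowTwoIn T L) (hR : IsPGroup 2 ↥R) (hRL : R ≤ L)
    (hJR : thompsonSubgroupOf 2 T ≤ R) : thompsonSubgroupOf 2 R = thompsonSubgroupOf 2 T := by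
  have h1 : thompsonSubgroupOf 2 T ≤ thompsonSubgroupOf 2 R :=
    thompsonOf_mono hJR fun F hF hFR => exists_elem_le hT hF (hFR.trans hRL)
  refine (Subgroup.eq_of_le_of_card_ge h1 ?_).symm
  obtain ⟨l, -, hl⟩ := exists_conj_le hT hR hRL
  have hi : Function.Injective (MulAut.conj l).toMonoidHom := MulEquiv.injective (MulAut.conj l)
  have h2 : thompsonSubgroupOf 2 (R.map (MulAut.conj l).toMonoidHom) ≤ thompsonSubgroupOf 2 T := by
    refine thompsonOf_mono ((thompsonOf_le' _).trans hl) fun F hF hFT => ?_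
    obtain ⟨E, hE⟩ := exists_top T
    exact ⟨_, PLocal.isElementary_map _ hE.1, Subgroup.map_mono ((top_le hE).trans hJR),
      (hE.2.2 F hF hFT).trans (Subgroup.card_map_of_injective hi).ge⟩
  rw [thompsonOf_map _ hi] at h2
  rw [← Subgroup.card_map_of_injective hi (K := thompsonSubgroupOf 2 R)]
  exact Subgroup.card_le_of_le h2

theorem thompson_ne_bot {T : Subgroup G} (hT : IsPGroup 2 ↥T) (hT1 : T ≠ ⊥) : thompsonSubgroupOf 2 T ≠ ⊥ := by
  intro e
  obtain ⟨E, hE⟩ := exists_top T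
  have hEb : E = ⊥ := by rw [← le_bot_iff, ← e]; exact top_le hE
  haveI : Fact (Nat.Prime 2) := ⟨Nat.prime_two⟩
  haveI : Nontrivial ↥T := (Subgroup.nontrivial_iff_ne_bot T).mpr hT1
  obtain ⟨n, hn⟩ := IsPGroup.iff_card.mp hT
  have h2 : 2 ∣ Nat.card ↥T := by
    rw [hn]
    refine dvd_pow_self 2 ?_
    rintro rfl
    have := Finite.one_lt_card (α := ↥T)
    rw [hn, pow_zero] at this
    omega
  obtain ⟨t, ht⟩ := exists_prime_orderOf_dvd_card' 2 h2
  have ht2 : (t : G) ^ 2 = 1 := by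
    rw [← Subgroup.coe_pow, show t ^ 2 = 1 by rw [← ht]; exact pow_orderOf_eq_one t, Subgroup.coe_one]
  have hel : IsElementaryAbelian 2 (Subgroup.zpowers (t : G)) := by
    refine ⟨inferInstance, fun a ha => ?_⟩
    obtain ⟨k, rfl⟩ := Subgroup.mem_zpowers_iff.mp ha
    rw [← zpow_natCast, ← zpow_mul, mul_comm, zpow_mul, zpow_natCast, ht2, one_zpow]
  have h := hE.2.2 _ hel (Subgroup.zpowers_le.mpr t.2)
  rw [hEb, Subgroup.card_bot, Nat.card_zpowers, Subgroup.orderOf_coe, ht] at h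
  omega

theorem isTwoLocal_normalizer {Q : Subgroup G} (hQ : IsPGroup 2 ↥Q) (hQ1 : Q ≠ ⊥) :
    IsTwoLocal (Subgroup.normalizer (Q : Set G)) := ⟨Q, hQ, hQ1, rfl⟩

theorem normalizer_le_normalizer_thompson (T : Subgroup G) :
    Subgroup.normalizer (T : Set G) ≤ Subgroup.normalizer (thompsonSubgroupOf 2 T : Set G) := fun g hg => by
  refine Local.mem_normalizer_of_map_conj_eq ?_
  rw [← thompsonOf_map _ (MulEquiv.injective (MulAut.conj g)), Local.map_conj_eq_of_mem_normalizer hg]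

/-- A proper subgroup of a 2-group is properly normalised. -/
theorem exists_normalizer_gt {Q P : Subgroup G} (hP : IsPGroup 2 ↥P) (h : Q < P) :
    Q < P ⊓ Subgroup.normalizer (Q : Set G) := by
  haveI : Fact (Nat.Prime 2) := ⟨Nat.prime_two⟩
  haveI : Group.IsNilpotent ↥P := hP.isNilpotent
  have hlt : Q.subgroupOf P < ⊤ := lt_top_iff_ne_top.mpr fun e =>
    h.ne (le_antisymm h.le (Subgroup.subgroupOf_eq_top.mp e))
  obtain ⟨n, hn, hnQ⟩ := SetLike.exists_of_lt (Group.normalizerCondition_of_isNilpotent _ hlt)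
  refine lt_of_le_of_ne (le_inf h.le Subgroup.le_normalizer) fun e => hnQ ?_
  have hnN : (n : G) ∈ Subgroup.normalizer (Q : Set G) := mem_normalizer_of_conj_mem fun q hq =>
    (Subgroup.mem_normalizer_iff.mp hn ⟨q, h.le hq⟩).mp hq
  exact Subgroup.mem_subgroupOf.mpr (e.ge ⟨n.2, hnN⟩)

theorem sylow_le_of_thompson {S : Sylow 2 G} {M : Subgroup G}
    (hMJ : Subgroup.normalizer (thompsonSubgroupOf 2 (S : Subgroup G) : Set G) ≤ M) : (S : Subgroup G) ≤ M :=
  (le_normalizer_thompsonOf _).trans hMJ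

theorem ne_top_of_twoLocal (hO : pCore 2 G = ⊥) {M : Subgroup G} (hM : IsTwoLocal M) : M ≠ ⊤ := by
  obtain ⟨R, hR, hR1, rfl⟩ := hM
  intro e
  haveI : R.Normal := Subgroup.normalizer_eq_top_iff.mp e
  exact hR1 (le_bot_iff.mp (hO ▸ CfsgLib.le_pCore hR))

theorem stronglyEmbedded_iff (hO : pCore 2 G = ⊥) {M : Subgroup G} (hM : IsTwoLocal M) {S : Sylow 2 G}
    (hMJ : Subgroup.normalizer (thompsonSubgroupOf 2 (S : Subgroup G) : Set G) ≤ M) :
    IsStronglyEmbedded M ↔ straddlingTwoSubgroups M = ∅ := by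
  haveI : Fact (Nat.Prime 2) := ⟨Nat.prime_two⟩
  constructor
  · rintro ⟨-, -, hse⟩
    have key : ∀ X : Subgroup G, X ≤ M → IsPGroup 2 ↥X → X ≠ ⊥ → Subgroup.normalizer (X : Set G) ≤ M := by
      intro X hX hXp hX1 g hg
      by_contra hgM
      have hle : X ≤ M ⊓ M.map (MulAut.conj g).toMonoidHom :=
        le_inf hX ((Local.map_conj_eq_of_mem_normalizer hg).ge.trans (Subgroup.map_mono hX))
      haveI : Nontrivial ↥X := (Subgroup.nontrivial_iff_ne_bot X).mpr hX1
      obtain ⟨n, hn⟩ := IsPGroup.iff_card.mp hXp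
      have hn0 : n ≠ 0 := by
        rintro rfl
        have := Finite.one_lt_card (α := ↥X)
        rw [hn, pow_zero] at this
        omega
      have h2 : 2 ∣ Nat.card X := hn ▸ dvd_pow_self 2 hn0
      exact Nat.not_even_iff_odd.mpr (hse g hgM) (even_iff_two_dvd.mpr (h2.trans (Subgroup.card_dvd_of_le hle)))
    refine Set.eq_empty_iff_forall_notMem.mpr ?_
    rintro T ⟨hT, hT1, hTM, L, ⟨R, hR, hR1, rfl⟩, hTL, hLM⟩
    have hPp : IsPGroup 2 ↥(R ⊔ T) := hR.to_sup_of_normal_left' hT hTL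
    have hRM : R ≤ M := by
      by_contra hRM
      have hlt : (R ⊔ T) ⊓ M < R ⊔ T := lt_of_le_of_ne inf_le_left fun e =>
        hRM (le_sup_left.trans (e.ge.trans inf_le_right))
      have hne : (R ⊔ T) ⊓ M ≠ ⊥ := fun e => hT1 (le_bot_iff.mp (e ▸ le_inf le_sup_right hTM))
      have h := exists_normalizer_gt hPp hlt
      exact h.2 (le_inf inf_le_left (inf_le_right.trans (key _ inf_le_right (hPp.to_le inf_le_left) hne)))
    exact hLM (key R hRM hR hR1)
  · intro hemp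
    have key : ∀ Q : Subgroup G, IsPGroup 2 ↥Q → Q ≠ ⊥ → Q ≤ M → Subgroup.normalizer (Q : Set G) ≤ M :=
      fun Q hQ hQ1 hQM => by
        by_contra hN
        exact Set.eq_empty_iff_forall_notMem.mp hemp Q
          ⟨hQ, hQ1, hQM, _, isTwoLocal_normalizer hQ hQ1, Subgroup.le_normalizer, hN⟩
    refine ⟨ne_top_of_twoLocal hO hM, ?_, fun g hg => ?_⟩
    · obtain ⟨R, hR, hR1, rfl⟩ := hM
      haveI : Nontrivial ↥R := (Subgroup.nontrivial_iff_ne_bot R).mpr hR1
      obtain ⟨n, hn⟩ := IsPGroup.iff_card.mp hR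
      have hn0 : n ≠ 0 := by
        rintro rfl
        have := Finite.one_lt_card (α := ↥R)
        rw [hn, pow_zero] at this
        omega
      exact even_iff_two_dvd.mpr ((hn ▸ dvd_pow_self 2 hn0).trans (Subgroup.card_dvd_of_le Subgroup.le_normalizer))
    rw [← Nat.not_even_iff_odd]
    intro hev
    set D := M ⊓ M.map (MulAut.conj g).toMonoidHom with hD
    obtain ⟨Q0⟩ : Nonempty (Sylow 2 ↥D) := inferInstance
    set Q := (Q0 : Subgroup ↥D).map D.subtype with hQ
    have hQp : IsPGroup 2 ↥Q := Q0.isPGroup'.map _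
    have hQD : Q ≤ D := Subgroup.map_subtype_le _
    have hQ1 : Q ≠ ⊥ := by
      intro e
      have hb : (Q0 : Subgroup ↥D) = ⊥ := (Subgroup.map_eq_bot_iff_of_injective _ D.subtype_injective).mp e
      have := Q0.not_dvd_index
      rw [hb, Subgroup.index_bot] at this
      exact this (even_iff_two_dvd.mp hev)
    set Q' := Q.map (MulAut.conj g⁻¹).toMonoidHom with hQ'
    have hQ'M : Q' ≤ M := by
      rintro _ ⟨q, hq, rfl⟩
      obtain ⟨m, hm, e⟩ := (hQD hq).2
      rw [← e]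
      simpa [mul_assoc] using hm
    have hQ'1 : Q' ≠ ⊥ := fun e => hQ1
      ((Subgroup.map_eq_bot_iff_of_injective _ (MulEquiv.injective (MulAut.conj g⁻¹))).mp e)
    have hND : Subgroup.normalizer (Q : Set G) ≤ D := by
      refine le_inf (key Q hQp hQ1 (hQD.trans inf_le_left)) fun n hn => ⟨g⁻¹ * n * g, ?_, by simp [mul_assoc]⟩
      refine key Q' (hQp.map _) hQ'1 hQ'M (mem_normalizer_of_conj_mem ?_)
      rintro _ ⟨q, hq, rfl⟩
      exact ⟨n * q * n⁻¹, (Subgroup.mem_normalizer_iff.mp hn q).mp hq, by simp [mul_assoc]⟩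
    obtain ⟨P, hQP⟩ := hQp.exists_le_sylow
    have hPQ : (P : Subgroup G) = Q := by
      by_contra hne
      have h := exists_normalizer_gt P.isPGroup' (lt_of_le_of_ne hQP (Ne.symm hne))
      set Q2 := (P : Subgroup G) ⊓ Subgroup.normalizer (Q : Set G) with hQ2
      have hQ2D : Q2 ≤ D := inf_le_right.trans hND
      have h2 : Q2.subgroupOf D = (Q0 : Subgroup ↥D) :=
        Q0.is_maximal' ((P.isPGroup'.to_le inf_le_left).comap_of_injective D.subtype D.subtype_injective)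
          fun q hq => h.le ⟨q, hq, rfl⟩
      refine h.2 ?_
      rw [← Subgroup.map_subgroupOf_eq_of_le hQ2D, h2]
    have hPM : (P : Subgroup G) ≤ M := hPQ ▸ hQD.trans inf_le_left
    have hP'M : ((g⁻¹ • P : Sylow 2 G) : Subgroup G) ≤ M := by
      have hcoe : ((g⁻¹ • P : Sylow 2 G) : Subgroup G) = (P : Subgroup G).map (MulAut.conj g⁻¹).toMonoidHom := rfl
      rw [hcoe, hPQ]; exact hQ'M
    obtain ⟨m, hm⟩ := MulAction.exists_smul_eq ↥M (P.subtype hPM) ((g⁻¹ • P).subtype hP'M)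
    rw [Sylow.smul_subtype] at hm
    have heq : (m : G) • P = g⁻¹ • P := Sylow.subtype_injective hm
    have hN : g * (m : G) ∈ Subgroup.normalizer ((P : Subgroup G) : Set G) := by
      exact Sylow.smul_eq_iff_mem_normalizer.mp (by rw [mul_smul, heq, smul_inv_smul])
    have hgm : g * (m : G) ∈ M := key _ P.isPGroup' (hPQ ▸ hQ1) hPM hN
    have := M.mul_mem hgm (M.inv_mem m.2)
    rw [mul_inv_cancel_right] at this
    exact hg this

variable (hL : IsCharacteristicTwoType G) (hN : ∀ N : Subgroup G, Cfsg.IsTwoLocal N → Group.IsSolvable ↥N)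
  (hZ : ∀ S : Sylow 2 G, Subgroup.centralizer (Cfsg.omegaCenterOf (S : Subgroup G) : Set G) ≤
    Subgroup.normalizer ((S : Subgroup G) : Set G))
include hL hN hZ

/-- Every member of `ℒ(T)` is generated by its components and the normalizer of `J(T)`. -/
theorem overgroup_le_of_comps {T L Z : Subgroup G} (hT : L ∈ jOvergroups T)
    (hZc : ∀ K : Subgroup G, IsJComponent T K → K ≤ L → K ≤ Z) (hTZ : T ≤ Z)
    (hNZ : L ⊓ Subgroup.normalizer (thompsonSubgroupOf 2 T : Set G) ≤ Z) : L ≤ Z := by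
  obtain ⟨hTS, -, hC⟩ := hT
  have hM := over_of_core hN hZ hC
  obtain ⟨P, hP⟩ := exists_sylowOf hTS
  have hJ : (thompsonSubgroupOf 2 (P : Subgroup ↥L)).map L.subtype = thompsonSubgroupOf 2 T := by
    rw [hP, thompsonOf_subgroupOf hTS.1]
  have htop : Z.subgroupOf L = ⊤ := by
    refine hM.eq_top_of_comps P (fun K hK => ?_) ?_ ?_
    · set K' := K.map L.subtype with hK'
      have hinj := L.subtype_injective
      have hcomp : IsComp (thompsonSubgroupOf 2 T) K' := by rw [← hJ]; exact (isComp_map_iff _ hinj _ K).mpr hK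
      have hK'L : K' ≤ L := Subgroup.map_subtype_le _
      have hXL : K' ⊔ thompsonSubgroupOf 2 T ≤ L := sup_le hK'L ((thompsonOf_le' T).trans hTS.1)
      have hW : wOf K' ≤ omegaCenterOf (pCoreOf 2 K') := by
        rw [wOf, Subgroup.commutator_le]
        intro d hd k hk
        rw [commutatorElement_def, show d * k * d⁻¹ * k⁻¹ = d * (k * d⁻¹ * k⁻¹) by group]
        exact mul_mem hd (conj_mem' (omegaCenterOf_conj (le_normalizer_pCoreOf' K' hk)) (inv_mem hd))
      have hjc : IsJComponent T K' := ⟨hcomp.gen, hcomp.comm, hcomp.idx,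
        fun R hR hJR => thompson_eq hTS hR.2.1 (hR.1.trans hXL) hJR, hcomp.card,
        fun w hw => elem_sq (omegaCenterOf_elem _) (hW hw)⟩
      intro k hk
      exact hZc K' hjc hK'L ⟨k, hk, rfl⟩
    · rw [hP]; exact fun t ht => hTZ ht
    · intro n hn
      refine hNZ ⟨n.2, ?_⟩
      rw [← hJ]
      exact Subgroup.le_normalizer_map L.subtype ⟨n, hn, rfl⟩
  exact Subgroup.subgroupOf_eq_top.mp htop

variable (hO : pCore 2 G = ⊥) (S : Sylow 2 G) {M : Subgroup G} (hM : IsTwoLocal M)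
  (hMJ : Subgroup.normalizer (thompsonSubgroupOf 2 (S : Subgroup G) : Set G) ≤ M)
include hMJ

theorem normalizer_thompson_le {T : Subgroup G} (hT : T ∈ maxStraddlingTwoSubgroups M) :
    Subgroup.normalizer (thompsonSubgroupOf 2 T : Set G) ≤ M := by
  haveI : Fact (Nat.Prime 2) := ⟨Nat.prime_two⟩
  obtain ⟨⟨hTp, hT1, hTM, -⟩, hmax⟩ := hT
  set J := thompsonSubgroupOf 2 T with hJ
  obtain ⟨P, hP⟩ := (hTp.comap_of_injective M.subtype M.subtype_injective).exists_le_sylow
  obtain ⟨m, hm⟩ := MulAction.exists_smul_eq ↥M (S.subtype (sylow_le_of_thompson hMJ)) P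
  set T1 := (S : Subgroup G).map (MulAut.conj (m : G)).toMonoidHom with hT1'
  have hT1p : IsPGroup 2 ↥T1 := S.isPGroup'.map _
  have hTT1 : T ≤ T1 := by
    intro t ht
    have h1 : (⟨t, hTM ht⟩ : ↥M) ∈ (P : Subgroup ↥M) := hP ht
    rw [← hm, Sylow.smul_subtype] at h1
    exact h1
  have hT1M : T1 ≤ M := by
    rintro _ ⟨s, hs, rfl⟩
    exact M.mul_mem (M.mul_mem m.2 (sylow_le_of_thompson hMJ hs)) (M.inv_mem m.2)
  rcases eq_or_lt_of_le hTT1 with e | hlt
  · intro n hn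
    have hn' : (m : G)⁻¹ * n * m ∈ Subgroup.normalizer (thompsonSubgroupOf 2 (S : Subgroup G) : Set G) := by
      refine mem_normalizer_of_conj_mem fun j hj => ?_
      have hj' : (m : G) * j * (m : G)⁻¹ ∈ J := by
        rw [hJ, e, thompsonOf_map _ (MulEquiv.injective (MulAut.conj (m : G)))]
        exact ⟨j, hj, rfl⟩
      have h2 := conj_mem' hn hj'
      rw [hJ, e, thompsonOf_map _ (MulEquiv.injective (MulAut.conj (m : G)))] at h2
      obtain ⟨j2, hj2, e2⟩ := h2
      have : j2 = (m : G)⁻¹ * n * m * j * ((m : G)⁻¹ * n * m)⁻¹ := by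
        have e3 : (m : G) * j2 * (m : G)⁻¹ = n * ((m : G) * j * (m : G)⁻¹) * n⁻¹ := e2
        calc j2 = (m : G)⁻¹ * ((m : G) * j2 * (m : G)⁻¹) * m := by group
          _ = _ := by rw [e3]; group
      exact this ▸ hj2
    have := M.mul_mem (M.mul_mem m.2 (hMJ hn')) (M.inv_mem m.2)
    rwa [show (m : G) * ((m : G)⁻¹ * n * m) * (m : G)⁻¹ = n by group] at this
  · by_contra hNM
    set Q := T1 ⊓ Subgroup.normalizer (T : Set G) with hQ
    have hlt2 : T < Q := exists_normalizer_gt hT1p hlt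
    have hJQ : J ≤ Q := (thompsonOf_le' T).trans hlt2.le
    have hQs : Q ∈ straddlingTwoSubgroups M :=
      ⟨hT1p.to_le inf_le_left, fun e => hT1 (le_bot_iff.mp (e ▸ hlt2.le)), inf_le_left.trans hT1M, _,
        isTwoLocal_normalizer (hTp.to_le (thompsonOf_le' T)) (thompson_ne_bot hTp hT1),
        inf_le_right.trans (normalizer_le_normalizer_thompson T), hNM⟩
    obtain ⟨E, hE⟩ := exists_top T
    obtain ⟨E', hE'⟩ := exists_top Q
    obtain ⟨h1, h2⟩ := hmax Q hQs
    rw [maxElemAbelianOrder_eq hE, maxElemAbelianOrder_eq hE'] at h1 h2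
    have heq : Nat.card E' = Nat.card E := le_antisymm h1 (hE'.2.2 E hE.1 (hE.2.1.trans hlt2.le))
    obtain ⟨h3, h4⟩ := h2 heq
    have hle : J ≤ thompsonSubgroupOf 2 Q := thompsonOf_mono hJQ fun F hF hFQ =>
      ⟨E, hE.1, hE.2.1, heq ▸ hE'.2.2 F hF hFQ⟩
    have h5 := h4 (le_antisymm h3 (Subgroup.card_le_of_le hle))
    exact hlt2.ne (Subgroup.eq_of_le_of_card_ge hlt2.le h5)

theorem straddle_main {T : Subgroup G} (hT : T ∈ maxStraddlingTwoSubgroups M) {L : Subgroup G} (hL2 : IsTwoLocal L)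
    (hLM : ¬ L ≤ M) {T0 : Subgroup G} (hT0 : IsSylowTwoIn T0 L) (hJT0 : thompsonSubgroupOf 2 T ≤ T0) :
    thompsonSubgroupOf 2 T = thompsonSubgroupOf 2 T0 ∧ T0 ∈ straddlingTwoSubgroups M ∧ L ∈ jOvergroups T0 := by
  haveI : Fact (Nat.Prime 2) := ⟨Nat.prime_two⟩
  have hNJ := normalizer_thompson_le hL hN hZ S hMJ hT
  obtain ⟨⟨hTp, hT1, hTM, -⟩, hmax⟩ := hT
  set J := thompsonSubgroupOf 2 T with hJ
  have hJ1 : J ≠ ⊥ := thompson_ne_bot hTp hT1
  set P := T0 ⊓ M with hP
  have hJP : J ≤ P := le_inf hJT0 ((thompsonOf_le' T).trans hTM)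
  have hP1 : P ≠ ⊥ := fun e => hJ1 (le_bot_iff.mp (e ▸ hJP))
  have hPp : IsPGroup 2 ↥P := hT0.2.1.to_le inf_le_left
  have hPs : P ∈ straddlingTwoSubgroups M := ⟨hPp, hP1, inf_le_right, L, hL2, inf_le_left.trans hT0.1, hLM⟩
  obtain ⟨E, hE⟩ := exists_top T
  obtain ⟨E', hE'⟩ := exists_top P
  obtain ⟨h1, h2⟩ := hmax P hPs
  rw [maxElemAbelianOrder_eq hE, maxElemAbelianOrder_eq hE'] at h1 h2
  have heq : Nat.card E' = Nat.card E := le_antisymm h1 (hE'.2.2 E hE.1 ((top_le hE).trans hJP))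
  have hle : J ≤ thompsonSubgroupOf 2 P := thompsonOf_mono hJP fun F hF hFP =>
    ⟨E, hE.1, hE.2.1, heq ▸ hE'.2.2 F hF hFP⟩
  have hJPeq : J = thompsonSubgroupOf 2 P := Subgroup.eq_of_le_of_card_ge hle (h2 heq).1
  have hPT0 : P = T0 := by
    refine inf_le_left.eq_of_not_lt fun hlt => ?_
    have h := exists_normalizer_gt hT0.2.1 hlt
    refine h.2 (le_inf inf_le_left ?_)
    intro n hn
    refine hNJ ?_
    rw [hJPeq]
    exact normalizer_le_normalizer_thompson P hn.2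
  have hJeq : J = thompsonSubgroupOf 2 T0 := hPT0 ▸ hJPeq
  refine ⟨hJeq, hPT0 ▸ hPs, hT0, ?_, ?_⟩
  · intro hJO
    refine hLM fun l hl => hNJ ?_
    rw [hJeq]
    refine Local.mem_normalizer_of_map_conj_eq ?_
    obtain ⟨P0, hP0⟩ := exists_sylowOf hT0
    have hOT : pCoreOf 2 L ≤ T0 := by
      rintro _ ⟨o, ho, rfl⟩
      have := CfsgLib.pCore_le_sylow P0 ho
      rw [hP0] at this
      exact this
    have hi : Function.Injective (MulAut.conj l).toMonoidHom := MulEquiv.injective (MulAut.conj l)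
    have hsub : (thompsonSubgroupOf 2 T0).map (MulAut.conj l).toMonoidHom ≤ T0 := by
      rintro _ ⟨j, hj, rfl⟩
      exact hOT (conj_mem' (le_normalizer_pCoreOf' L hl) (hJO hj))
    have hT0l : (T0.map (MulAut.conj l).toMonoidHom) ≤ L := by
      rintro _ ⟨t, ht, rfl⟩
      exact L.mul_mem (L.mul_mem hl (hT0.1 ht)) (L.inv_mem hl)
    rw [← thompsonOf_map _ hi] at hsub ⊢
    refine Subgroup.eq_of_le_of_card_ge
      (thompsonOf_mono hsub fun F hF hFT => ⟨_, PLocal.isElementary_map _ hF, Subgroup.map_mono hFT,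
        (Subgroup.card_map_of_injective hi).ge⟩) ?_
    rw [thompsonOf_map _ hi, Subgroup.card_map_of_injective hi]
  · obtain ⟨R, hR, hR1, rfl⟩ := hL2
    exact core_of_normalizer hL hN hZ hR hR1

theorem straddle_second {T : Subgroup G} (hT : T ∈ maxStraddlingTwoSubgroups M) {L : Subgroup G} (hL2 : IsTwoLocal L)
    (hLM : ¬ L ≤ M) (hTL : T ≤ L) : L ∈ jOvergroups T := by
  obtain ⟨T1, hT1, hTT1⟩ := exists_sylowTwoIn hT.1.1 hTL
  obtain ⟨hJ, hs, hj⟩ := straddle_main hL hN hZ S hMJ hT hL2 hLM hT1 ((thompsonOf_le' T).trans hTT1)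
  obtain ⟨E, hE⟩ := exists_top T
  obtain ⟨E', hE'⟩ := exists_top T1
  obtain ⟨h1, h2⟩ := hT.2 T1 hs
  rw [maxElemAbelianOrder_eq hE, maxElemAbelianOrder_eq hE'] at h1 h2
  have heq : Nat.card E' = Nat.card E := le_antisymm h1 (hE'.2.2 E hE.1 (hE.2.1.trans hTT1))
  have h3 := (h2 heq).2 (by rw [← hJ])
  rwa [Subgroup.eq_of_le_of_card_ge hTT1 h3]

theorem exists_component_le {T : Subgroup G} (hT : T ∈ maxStraddlingTwoSubgroups M) {L : Subgroup G}
    (hL2 : IsTwoLocal L) (hLM : ¬ L ≤ M) (hTL : T ≤ L) : ∃ K : Subgroup G, IsJComponent T K ∧ K ≤ L := by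
  haveI : Fact (Nat.Prime 2) := ⟨Nat.prime_two⟩
  have hj := straddle_second hL hN hZ S hMJ hT hL2 hLM hTL
  by_contra hno
  push Not at hno
  set J := thompsonSubgroupOf 2 T with hJ
  have hle : L ≤ Subgroup.normalizer (J : Set G) :=
    overgroup_le_of_comps hL hN hZ hj (fun K hK hKL => absurd hKL (hno K hK)) (le_normalizer_thompsonOf T) inf_le_right
  have hJL : J ≤ L := (thompsonOf_le' T).trans hTL
  haveI : (J.subgroupOf L).Normal := (Subgroup.normal_subgroupOf_iff_le_normalizer hJL).mpr hle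
  exact hj.2.1 fun j hjJ => ⟨⟨j, hJL hjJ⟩, CfsgLib.le_pCore (N := J.subgroupOf L)
    ((hT.1.1.to_le (thompsonOf_le' T)).comap_of_injective L.subtype L.subtype_injective) hjJ, rfl⟩

theorem outside_nonempty {T : Subgroup G} (hT : T ∈ maxStraddlingTwoSubgroups M) :
    (jComponentsOutside M T).Nonempty := by
  haveI : Fact (Nat.Prime 2) := ⟨Nat.prime_two⟩
  obtain ⟨hTp, hT1, hTM, L, hL2, hTL, hLM⟩ := id hT.1
  haveI : Nontrivial ↥T := (Subgroup.nontrivial_iff_ne_bot T).mpr hT1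
  haveI : Nontrivial G := Function.Injective.nontrivial T.subtype_injective
  have hj := straddle_second hL hN hZ S hMJ hT hL2 hLM hTL
  obtain ⟨K, hK, hKL, hKM⟩ : ∃ K, IsJComponent T K ∧ K ≤ L ∧ ¬ K ≤ M := by
    by_contra hno
    push Not at hno
    exact hLM (overgroup_le_of_comps hL hN hZ hj hno hTM
      (inf_le_right.trans (normalizer_thompson_le hL hN hZ S hMJ hT)))
  refine ⟨K, ⟨hK, fun R hJR hR => ?_⟩, hKM, ?_⟩
  · obtain ⟨-, -, -, -, hW4, hW2⟩ := id hK
    have hWp : IsPGroup 2 ↥(wOf K) := isPGroup_two_of_sq fun w hw => by rw [pow_two]; exact hW2 w hw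
    have hW1 : wOf K ≠ ⊥ := fun e => by rw [e, Subgroup.card_bot] at hW4; omega
    refine (straddle_main hL hN hZ S hMJ hT (isTwoLocal_normalizer hWp hW1) (fun h => hKM ?_) hR hJR).1.symm
    exact fun k hk => h (wOf_conj (Subgroup.le_normalizer hk))
  · intro e
    have hC := hj.2.2
    have hne := pCoreOf_ne_bot hC
    set Q := pCoreOf 2 L with hQ
    obtain ⟨P, hP⟩ := exists_sylowOf hj.1
    have hQT : Q ≤ T := by
      rintro _ ⟨o, ho, rfl⟩
      have := CfsgLib.pCore_le_sylow P ho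
      rw [hP] at this
      exact this
    have hQX : Q ≤ K ⊔ T := hQT.trans le_sup_right
    haveI : (Q.subgroupOf (K ⊔ T)).Normal := (Subgroup.normal_subgroupOf_iff_le_normalizer hQX).mpr
      ((sup_le hKL hTL).trans (le_normalizer_pCoreOf' L))
    refine hne (le_bot_iff.mp fun q hq => ?_)
    rw [← e]
    exact ⟨⟨q, hQX hq⟩, CfsgLib.le_pCore (N := Q.subgroupOf (K ⊔ T))
      ((isPGroup_pCoreOf L).comap_of_injective (K ⊔ T).subtype (K ⊔ T).subtype_injective) hq, rfl⟩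

end CfsgLib.JComp
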