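import Mathlib
import Cfsg.Agent.Lib.JComp.Straddle

/-!
Components in one overgroup commute.
-/

set_option autoImplicit false
set_option linter.unusedSectionVars false

universe u

namespace CfsgLib.JComp

open Cfsg CfsgLib.PLocal CfsgLib.Offender
open scoped IsMulCommutative commutatorElement

section Plane2

variable {V : Type*} [CommGroup V] [Finite V] (h2 : ∀ v : V, v * v = 1)

theorem mv_range_conj (x y : MulAut V) : (mv (y * x * y⁻¹)).range = (mv x).range.map y.toMonoidHom := by
  ext v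
  constructor
  · rintro ⟨u, rfl⟩
    exact ⟨mv x (y⁻¹ u), ⟨_, rfl⟩, by simp [mv_apply, map_mul, map_inv, MulAut.mul_apply]⟩
  · rintro ⟨_, ⟨u, rfl⟩, rfl⟩
    exact ⟨y u, by simp [mv_apply, map_mul, map_inv, MulAut.mul_apply]⟩

theorem card_sup_eq {A B : Subgroup V} (hA : Nat.card A = 4) (hB : Nat.card B = 4)
    (h : ¬ Nat.card ↥(A ⊔ B) ≤ 8) : Nat.card ↥(A ⊔ B) = 16 ∧ A ⊓ B = ⊥ := by
  have hp := card_sup_mul_card_inf (A := A) (B := B) (by rw [Subgroup.normalizer_eq_top]; exact le_top)
  rw [hA, hB] at hp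
  have hpos : 0 < Nat.card ↥(A ⊓ B) := Nat.card_pos
  have h1 : Nat.card ↥(A ⊓ B) = 1 := by nlinarith
  exact ⟨by rw [h1] at hp; omega, Subgroup.eq_bot_of_card_eq _ h1⟩

include h2

/-- Elements of order three with small commutator groups in a 3-group of automorphisms commute. -/
theorem commute_of_three {x y : MulAut V} (hP : IsPGroup 3 ↥(Subgroup.closure ({x, y} : Set (MulAut V))))
    (hx : x ^ 3 = 1) (hy : y ^ 3 = 1) (hcx : Nat.card (mv x).range = 4) (hcy : Nat.card (mv y).range = 4) :
    Commute x y := by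
  induction hn : Nat.card ↥(Subgroup.closure ({x, y} : Set (MulAut V))) using Nat.strong_induction_on generalizing x y with
  | h n ih =>
    subst hn
    haveI : Fact (Nat.Prime 3) := ⟨Nat.prime_three⟩
    have hone : ∀ {z : MulAut V}, Nat.card (mv z).range = 4 → z ≠ 1 := by
      intro z hz e
      rw [show mv z = 1 from MonoidHom.ext fun v => by rw [mv_apply, e]; exact mul_inv_cancel v] at hz
      rw [MonoidHom.range_one, Subgroup.card_bot] at hz
      omega
    by_cases h8 : Nat.card ↥((mv x).range ⊔ (mv y).range) ≤ 8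
    · obtain ⟨i, rfl⟩ := Subgroup.mem_zpowers_iff.mp (zpowers_unique h2 hP hx hy (hone hcy) hcx hcy h8)
      exact Commute.self_zpow x i
    set P := Subgroup.closure ({x, y} : Set (MulAut V)) with hPdef
    have hxP : x ∈ P := Subgroup.subset_closure (Set.mem_insert _ _)
    have hyP : y ∈ P := Subgroup.subset_closure (Set.mem_insert_of_mem _ rfl)
    set x' := y * x * y⁻¹ with hx'
    set x'' := y * x' * y⁻¹ with hx''
    have hx'3 : x' ^ 3 = 1 := by rw [hx', conj_pow, hx, mul_one, mul_inv_cancel]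
    have hx''3 : x'' ^ 3 = 1 := by rw [hx'', conj_pow, hx'3, mul_one, mul_inv_cancel]
    have hcx' : Nat.card (mv x').range = 4 := by
      rw [hx', mv_range_conj, Subgroup.card_map_of_injective (f := y.toMonoidHom) (MulEquiv.injective y)]; exact hcx
    have hcx'' : Nat.card (mv x'').range = 4 := by
      rw [hx'', mv_range_conj, Subgroup.card_map_of_injective (f := y.toMonoidHom) (MulEquiv.injective y)]; exact hcx'
    -- `y` centralises `x` as soon as it normalises it
    have hfin : ∀ z w : MulAut V, z ^ 3 = 1 → z ≠ 1 → w ^ 3 = 1 → w * z * w⁻¹ ∈ Subgroup.zpowers z → Commute z w := by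
      intro z w hz hz1 hw hmem
      obtain ⟨i, hi⟩ := (isOfFinOrder_of_finite z).mem_powers_iff_mem_zpowers.mpr hmem
      change z ^ i = _ at hi
      have hne : w * z * w⁻¹ ≠ 1 := fun e => hz1 (conj_eq_one_iff.mp e)
      rcases mul_cases_of_three hz hi.symm hne with e | e
      · exact (mul_inv_eq_iff_eq_mul.mp e).symm
      · exfalso
        have e2 : w * (w * z * w⁻¹) * w⁻¹ = z := by
          rw [e, ← conj_pow, e, ← pow_mul, show 2 * 2 = 3 + 1 by rfl, pow_add, hz, one_mul, pow_one]
        have hw3 : w * (w * (w * z * w⁻¹) * w⁻¹) * w⁻¹ = z := by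
          calc w * (w * (w * z * w⁻¹) * w⁻¹) * w⁻¹ = w ^ 3 * z * (w ^ 3)⁻¹ := by simp [pow_succ, mul_assoc]
            _ = z := by rw [hw]; group
        rw [e2, e, pow_two] at hw3
        exact hz1 (mul_left_cancel (hw3.trans (mul_one z).symm))
    have hIH : Commute x x' := by
      by_cases htop : Subgroup.zpowers x = P
      · obtain ⟨i, hi⟩ := Subgroup.mem_zpowers_iff.mp (htop.ge (P.mul_mem (P.mul_mem hyP hxP) (P.inv_mem hyP)))
        rw [hx', ← hi]; exact Commute.self_zpow x i
      haveI : Group.IsNilpotent ↥P := hP.isNilpotent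
      have hne : (Subgroup.zpowers x).subgroupOf P ≠ ⊤ := fun e =>
        htop (le_antisymm (Subgroup.zpowers_le.mpr hxP) (Subgroup.subgroupOf_eq_top.mp e))
      obtain ⟨Mx, hMx, hxM⟩ := (eq_top_or_exists_le_coatom _).resolve_left hne
      haveI : Mx.Normal := by
        rw [← Subgroup.normalizer_eq_top_iff]
        exact hMx.2 _ (Group.normalizerCondition_of_isNilpotent Mx (lt_top_iff_ne_top.mpr hMx.1))
      have hxMx : (⟨x, hxP⟩ : ↥P) ∈ Mx := hxM (Subgroup.mem_zpowers x)
      have hle : Subgroup.closure ({x, x'} : Set (MulAut V)) ≤ Mx.map P.subtype := by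
        refine (Subgroup.closure_le _).mpr ?_
        rintro z (rfl | rfl)
        · exact ⟨_, hxMx, rfl⟩
        · exact ⟨⟨y, hyP⟩ * ⟨x, hxP⟩ * ⟨y, hyP⟩⁻¹, Subgroup.Normal.conj_mem inferInstance _ hxMx _, rfl⟩
      refine ih _ ?_ ((hP.to_le (hle.trans (Subgroup.map_subtype_le _)))) hx hx'3 hcx hcx' rfl
      refine lt_of_le_of_lt (Subgroup.card_le_of_le hle) ?_
      rw [Subgroup.card_map_of_injective P.subtype_injective]
      exact lt_of_le_of_ne (Subgroup.card_le_card_group Mx) fun e => hMx.1 (Subgroup.eq_top_of_card_eq _ e)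
    by_cases h8' : Nat.card ↥((mv x).range ⊔ (mv x').range) ≤ 8
    · refine hfin x y hx (hone hcx) hy (zpowers_unique h2 ?_ hx hx'3 (hone hcx') hcx hcx' h8')
      exact hP.to_le ((Subgroup.closure_le _).mpr (by
        rintro z (rfl | rfl)
        · exact hxP
        · exact P.mul_mem (P.mul_mem hyP hxP) (P.inv_mem hyP)))
    -- three independent planes in a space of order sixteen
    have hpres : ∀ {z z' : MulAut V}, Commute z z' → ∀ v ∈ (mv z').range, z v ∈ (mv z').range := by
      rintro z z' hc _ ⟨v, rfl⟩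
      refine ⟨z v, ?_⟩
      rw [mv_apply, mv_apply, map_mul, map_inv]
      have h := DFunLike.congr_fun hc.eq v
      rw [MulAut.mul_apply, MulAut.mul_apply] at h
      rw [h]
    have hfixr : ∀ {z z' : MulAut V}, Commute z z' → (mv z).range ⊓ (mv z').range = ⊥ → ∀ v ∈ (mv z').range, z v = v := by
      intro z z' hc hi v hv
      have h : mv z v ∈ (mv z).range ⊓ (mv z').range :=
        ⟨⟨v, rfl⟩, by rw [mv_apply]; exact mul_mem (hpres hc v hv) (Subgroup.inv_mem _ hv)⟩
      rw [hi, Subgroup.mem_bot, mv_apply] at h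
      exact mul_inv_eq_one.mp h
    obtain ⟨hU16, -⟩ := card_sup_eq hcx hcy h8
    obtain ⟨hU', hinf'⟩ := card_sup_eq hcx hcx' h8'
    set U := (mv x).range ⊔ (mv y).range with hU
    have hyU : ∀ v ∈ U, y v ∈ U := fun v hv => by
      have h1 : mv y v ∈ U := Subgroup.mem_sup_right ⟨v, rfl⟩
      rw [mv_apply] at h1
      have := mul_mem h1 hv
      rwa [inv_mul_cancel_right] at this
    have hW' : (mv x').range ≤ U := by
      rw [hx', mv_range_conj]
      rintro _ ⟨v, hv, rfl⟩
      exact hyU v (Subgroup.mem_sup_left hv)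
    have hW'' : (mv x'').range ≤ U := by
      rw [hx'', mv_range_conj]
      rintro _ ⟨v, hv, rfl⟩
      exact hyU v (hW' hv)
    have hUeq : (mv x).range ⊔ (mv x').range = U :=
      Subgroup.eq_of_le_of_card_ge (sup_le le_sup_left hW') (by rw [hU', hU16])
    have hc12 : Commute x' x'' := by
      rw [hx'']
      exact hIH.map (MulAut.conj y)
    by_cases ha : Nat.card ↥((mv x').range ⊔ (mv x'').range) ≤ 8
    · have hPz : IsPGroup 3 ↥(Subgroup.closure ({x', x''} : Set (MulAut V))) := hP.to_le ((Subgroup.closure_le _).mpr (by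
        have hx'P : x' ∈ P := P.mul_mem (P.mul_mem hyP hxP) (P.inv_mem hyP)
        rintro z (rfl | rfl)
        · exact hx'P
        · exact P.mul_mem (P.mul_mem hyP hx'P) (P.inv_mem hyP)))
      have h := hfin x' y hx'3 (hone hcx') hy (zpowers_unique h2 hPz hx'3 hx''3 (hone hcx'') hcx' hcx'' ha)
      have h' := h.eq
      rw [hx'] at h'
      show x * y = y * x
      calc x * y = y⁻¹ * (y * x * y⁻¹ * y) * y := by group
        _ = y⁻¹ * (y * (y * x * y⁻¹)) * y := by rw [h']
        _ = y * x := by group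
    by_cases hb : Nat.card ↥((mv x).range ⊔ (mv x'').range) ≤ 8
    · have hPz : IsPGroup 3 ↥(Subgroup.closure ({x, x''} : Set (MulAut V))) := hP.to_le ((Subgroup.closure_le _).mpr (by
        rintro z (rfl | rfl)
        · exact hxP
        · exact P.mul_mem (P.mul_mem hyP (P.mul_mem (P.mul_mem hyP hxP) (P.inv_mem hyP))) (P.inv_mem hyP)))
      have h := zpowers_unique h2 hPz hx hx''3 (hone hcx'') hcx hcx'' hb
      have e : (y ^ 2) * x * (y ^ 2)⁻¹ = x'' := by rw [hx'', hx', pow_two]; group
      have hy2 : (y ^ 2) ^ 3 = 1 := by rw [← pow_mul, mul_comm, pow_mul, hy, one_pow]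
      have := (hfin x (y ^ 2) hx (hone hcx) hy2 (e ▸ h)).pow_right 2
      rwa [← pow_mul, show 2 * 2 = 3 + 1 by rfl, pow_add, hy, one_mul, pow_one] at this
    exfalso
    obtain ⟨-, hia⟩ := card_sup_eq hcx' hcx'' ha
    have hcx02 : Commute x x'' := by
      have e : x = y * x'' * y⁻¹ := by
        have h3 : y ^ 3 * x * (y ^ 3)⁻¹ = x := by rw [hy]; group
        conv_lhs => rw [← h3]
        rw [hx'', hx']; simp [pow_succ, mul_assoc]
      rw [e]
      exact hc12.symm.map (MulAut.conj y)
    obtain ⟨-, hib⟩ := card_sup_eq hcx hcx'' hb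
    obtain ⟨v, hv, hv1⟩ : ∃ v ∈ (mv x'').range, v ≠ 1 := by
      by_contra hall
      push Not at hall
      rw [(Subgroup.eq_bot_iff_forall _).mpr hall, Subgroup.card_bot] at hcx''
      omega
    have hfix : ∀ u ∈ U, x'' u = u := by
      intro u hu
      rw [← hUeq, sup_comm] at hu
      obtain ⟨a, ha', b, hb', rfl⟩ := Subgroup.mem_sup.mp hu
      rw [map_mul, hfixr hc12.symm (by rw [inf_comm]; exact hia) a ha', hfixr hcx02.symm (by rw [inf_comm]; exact hib) b hb']
    exact hv1 (range_fpf h2 hx''3 hv (hfix v (hW'' hv)))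

end Plane2

section Abstract

variable {M : Type u} [Group M] [Finite M]

namespace Over

variable (hM : Over M)
include hM

theorem comp_indep (T : Sylow 2 M) {K K' : Subgroup M} (hK : IsComp (thompsonSubgroupOf 2 (T : Subgroup M)) K)
    (hK' : IsComp (thompsonSubgroupOf 2 (T : Subgroup M)) K') (hne : K ≠ K') :
    wOf K ⊓ wOf K' = ⊥ ∧ K' ≤ Subgroup.centralizer (wOf K : Set M) := by
  obtain ⟨x, a, F⟩ := exists_facts hM T hK
  obtain ⟨x', a', F'⟩ := exists_facts hM T hK'
  set R := (mv (act M x)).range with hR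
  set R' := (mv (act M x')).range with hR'
  have h8 : ¬ Nat.card ↥(R ⊔ R') ≤ 8 := by
    intro h
    refine hne (hM.comp_eq T T hK hK' ?_)
    rw [← F.range, ← F'.range, ← Subgroup.map_sup, Subgroup.card_map_of_injective (vee M).subtype_injective]
    exact h
  obtain ⟨-, hinf⟩ := card_sup_eq F.pre.card F'.pre.card h8
  have hP : IsPGroup 3 ↥(Subgroup.closure ({act M x, act M x'} : Set (MulAut ↥(vee M)))) := by
    set Y := (pCore 3 (M ⧸ cee M)).comap (QuotientGroup.mk' (cee M)) with hYdef
    have hYp : IsPGroup 3 ↥(Y.map (act M)) := by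
      rintro ⟨_, y, hy, rfl⟩
      obtain ⟨n, hn⟩ := CfsgLib.isPGroup_pCore (G := M ⧸ cee M) 3 ⟨_, hy⟩
      refine ⟨n, Subtype.ext ?_⟩
      show act M y ^ 3 ^ n = 1
      rw [← map_pow]
      exact act_eq_one.mpr ((QuotientGroup.eq_one_iff _).mp (by simpa using congrArg Subtype.val hn))
    refine hYp.to_le ((Subgroup.closure_le _).mpr ?_)
    rintro z (rfl | rfl)
    · exact ⟨x, F.inY, rfl⟩
    · exact ⟨x', F'.inY, rfl⟩
  have hc := commute_of_three vee_sq hP F.pre.act3 F'.pre.act3 F.pre.card F'.pre.card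
  refine ⟨?_, ?_⟩
  · rw [← F.range, ← F'.range, ← Subgroup.map_inf _ _ _ (vee M).subtype_injective, hinf, Subgroup.map_bot]
  · have hQW : pCore 2 M ≤ Subgroup.centralizer (wOf K : Set M) := by
      intro q hq w hw
      rw [← F.range] at hw
      obtain ⟨r, -, rfl⟩ := hw
      exact ((vee_gen_le r.2).2 q hq).symm
    have hx : x' ∈ Subgroup.centralizer (wOf K : Set M) := by
      intro w hw
      rw [← F.range] at hw
      obtain ⟨_, ⟨v, rfl⟩, rfl⟩ := hw
      set r := mv (act M x) v with hr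
      have h : act M x' r = r := by
        have hpres : act M x' r ∈ R := by
          refine ⟨act M x' v, ?_⟩
          rw [hr, mv_apply, mv_apply, map_mul, map_inv]
          have h := DFunLike.congr_fun hc.eq v
          rw [MulAut.mul_apply, MulAut.mul_apply] at h
          rw [h]
        have h : mv (act M x') r ∈ R ⊓ R' := ⟨by rw [mv_apply]; exact mul_mem hpres (Subgroup.inv_mem _ ⟨v, rfl⟩), ⟨_, rfl⟩⟩
        rw [hinf, Subgroup.mem_bot, mv_apply] at h
        exact mul_inv_eq_one.mp h
      have h' := congrArg Subtype.val h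
      rw [MulAut.conjNormal_apply] at h'
      exact (mul_inv_eq_iff_eq_mul.mp h').symm
    exact (le_sup_left.trans F'.sup.le).trans (sup_le (Subgroup.zpowers_le.mpr hx) hQW)

end Over

end Abstract

variable {G : Type u} [Group G] [Finite G]
  (hN : ∀ N : Subgroup G, Cfsg.IsTwoLocal N → Group.IsSolvable ↥N)
  (hZ : ∀ S : Sylow 2 G, Subgroup.centralizer (Cfsg.omegaCenterOf (S : Subgroup G) : Set G) ≤
    Subgroup.normalizer ((S : Subgroup G) : Set G))
include hN hZ

theorem comp_pair {R L K K' : Subgroup G} (hj : L ∈ jOvergroups R) (hK : IsJComponent R K) (hKL : K ≤ L)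
    (hK' : IsJComponent R K') (hK'L : K' ≤ L) :
    K' ≤ Subgroup.normalizer (wOf K : Set G) ∧
      (K ≠ K' → wOf K ⊓ wOf K' = ⊥ ∧ K' ≤ Subgroup.centralizer (wOf K : Set G)) := by
  by_cases hne : K = K'
  · subst hne
    exact ⟨fun k hk => wOf_conj (Subgroup.le_normalizer hk), fun h => absurd rfl h⟩
  obtain ⟨P, hP⟩ := exists_sylowOf hj.1
  have hM := over_of_core hN hZ hj.2.2
  have hc := isComp_subgroupOf hj.1.1 hKL (isComp_of_isJComponent hK)
  have hc' := isComp_subgroupOf hj.1.1 hK'L (isComp_of_isJComponent hK')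
  rw [← hP] at hc hc'
  obtain ⟨hinf, hcent⟩ := hM.comp_indep P hc hc' (fun e => hne (by
    rw [← Subgroup.map_subgroupOf_eq_of_le hKL, e, Subgroup.map_subgroupOf_eq_of_le hK'L]))
  have hcentG : K' ≤ Subgroup.centralizer (wOf K : Set G) := by
    intro k hk w hw
    rw [← wOf_subgroupOf hKL] at hw
    obtain ⟨u, hu, rfl⟩ := hw
    exact congrArg Subtype.val (hcent (show (⟨k, hK'L hk⟩ : ↥L) ∈ K'.subgroupOf L from hk) u hu)
  refine ⟨fun k hk => mem_normalizer_of_conj_mem fun w hw => ?_, fun _ => ⟨?_, hcentG⟩⟩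
  · rw [← (hcentG hk) w hw, mul_inv_cancel_right]; exact hw
  · rw [← wOf_subgroupOf hKL, ← wOf_subgroupOf hK'L, ← Subgroup.map_inf _ _ _ L.subtype_injective, hinf,
      Subgroup.map_bot]

end CfsgLib.JComp
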