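import Mathlib
import Cfsg.Agent.Lib.JComp.Indep

/-!
The unique maximal 2-local subgroup attached to a component.
-/

set_option autoImplicit false
set_option linter.unusedSectionVars false

universe u

namespace CfsgLib.JComp

open Cfsg CfsgLib.PLocal CfsgLib.Offender
open scoped commutatorElement

variable {G : Type u} [Group G]

/-- `Ω₁(Z(J(T)))`. -/
def zJ (T : Subgroup G) : Subgroup G := omegaCenterOf (thompsonSubgroupOf 2 T)

/-- The part of `Ω₁(Z(J(T)))` centralised by `K`. -/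
def cof (T K : Subgroup G) : Subgroup G := zJ T ⊓ Subgroup.centralizer (K : Set G)

/-- The part of `Ω₁(Z(J(T)))` inside the four group of `K`. -/
def lab (T K : Subgroup G) : Subgroup G := zJ T ⊓ wOf K

/-- The subgroup generated by the components near `K`. -/
def spanC (T K : Subgroup G) : Subgroup G :=
  sSup {K' | IsJComponent T K' ∧ K' ≤ Subgroup.normalizer (wOf K : Set G)} ⊔ thompsonSubgroupOf 2 T

/-- The maximal 2-local subgroup of a component. -/
def uloc (T K : Subgroup G) : Subgroup G := Subgroup.normalizer (pCoreOf 2 (spanC T K) : Set G)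

variable [Finite G]

theorem zJ_elem (T : Subgroup G) : IsElementaryAbelian 2 (zJ T) := omegaCenterOf_elem _

theorem zJ_le (T : Subgroup G) : zJ T ≤ thompsonSubgroupOf 2 T := omegaCenterOf_le _

theorem zJ_comm (T : Subgroup G) : zJ T ≤ Subgroup.centralizer (thompsonSubgroupOf 2 T : Set G) :=
  (omegaCenterOf_comm _).trans inf_le_right

theorem zJ_map {T : Subgroup G} {g : G} (hg : g ∈ Subgroup.normalizer (thompsonSubgroupOf 2 T : Set G)) :
    (zJ T).map (MulAut.conj g).toMonoidHom = zJ T :=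
  Local.map_conj_eq_of_mem_normalizer (omegaCenterOf_conj hg)

theorem centralizer_map_conj (g : G) (X : Subgroup G) :
    (Subgroup.centralizer (X : Set G)).map (MulAut.conj g).toMonoidHom =
      Subgroup.centralizer (X.map (MulAut.conj g).toMonoidHom : Set G) := by
  ext y
  constructor
  · rintro ⟨c, hc, rfl⟩ _ ⟨x, hx, rfl⟩
    show (MulAut.conj g) x * (MulAut.conj g) c = (MulAut.conj g) c * (MulAut.conj g) x
    rw [← map_mul, hc x hx, map_mul]
  · intro hy
    refine ⟨(MulAut.conj g).symm y, fun x hx => (MulAut.conj g).injective ?_, (MulAut.conj g).apply_symm_apply y⟩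
    rw [map_mul, map_mul, MulEquiv.apply_symm_apply]
    exact hy _ ⟨x, hx, rfl⟩

theorem normalizer_map_conj (g : G) (X : Subgroup G) :
    (Subgroup.normalizer (X : Set G)).map (MulAut.conj g).toMonoidHom =
      Subgroup.normalizer (X.map (MulAut.conj g).toMonoidHom : Set G) := by
  refine le_antisymm (Subgroup.le_normalizer_map _) fun y hy => ?_
  refine ⟨(MulAut.conj g).symm y, mem_normalizer_of_conj_mem fun x hx => ?_, (MulAut.conj g).apply_symm_apply y⟩
  obtain ⟨x', hx', e⟩ := (Subgroup.mem_normalizer_iff.mp hy _).mp ⟨x, hx, rfl⟩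
  have e' : (MulAut.conj g) x' = (MulAut.conj g) ((MulAut.conj g).symm y * x * ((MulAut.conj g).symm y)⁻¹) := by
    rw [map_mul, map_mul, map_inv, MulEquiv.apply_symm_apply]; exact e
  rwa [← (MulAut.conj g).injective e']

theorem isJComponent_congr {T R K : Subgroup G} (h : thompsonSubgroupOf 2 R = thompsonSubgroupOf 2 T)
    (hK : IsJComponent T K) : IsJComponent R K := by
  unfold IsJComponent at hK ⊢
  rw [h]; exact hK

theorem isJComponent_conj {T K : Subgroup G} {g : G}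
    (hg : g ∈ Subgroup.normalizer (thompsonSubgroupOf 2 T : Set G)) (hK : IsJComponent T K) :
    IsJComponent T (K.map (MulAut.conj g).toMonoidHom) := by
  set f := (MulAut.conj g).toMonoidHom with hf
  have hfi : Function.Injective f := MulEquiv.injective (MulAut.conj g)
  have hfs : Function.Surjective f := MulEquiv.surjective (MulAut.conj g)
  have hJ : (thompsonSubgroupOf 2 T).map f = thompsonSubgroupOf 2 T := Local.map_conj_eq_of_mem_normalizer hg
  obtain ⟨-, -, -, hsyl, -, hW2⟩ := id hK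
  have hc := (isComp_map_iff f hfi _ K).mpr (isComp_of_isJComponent hK)
  rw [hJ] at hc
  refine ⟨hc.gen, hc.comm, hc.idx, fun R hR hJR => ?_, hc.card, fun w hw => ?_⟩
  · have hR0R : (R.comap f).map f = R := Subgroup.map_comap_eq_self_of_surjective hfs R
    have hXf : (K ⊔ thompsonSubgroupOf 2 T).map f = K.map f ⊔ thompsonSubgroupOf 2 T := by rw [Subgroup.map_sup, hJ]
    have h0 := hsyl (R.comap f) ⟨(Subgroup.map_le_map_iff_of_injective hfi).mp (by rw [hR0R, hXf]; exact hR.1),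
        hR.2.1.comap_of_injective f hfi,
        by rw [← Subgroup.relIndex_map_map_of_injective _ _ hfi, hR0R, hXf]; exact hR.2.2⟩
      ((Subgroup.map_le_map_iff_of_injective hfi).mp (by rw [hR0R, hJ]; exact hJR))
    rw [← hR0R, thompsonOf_map f hfi, h0, hJ]
  · rw [wOf_map f hfi] at hw
    obtain ⟨u, hu, rfl⟩ := hw
    rw [← map_mul, hW2 u hu, map_one]

theorem lab_card {T K : Subgroup G} (hT : IsPGroup 2 ↥T) (hK : IsJComponent T K) : Nat.card ↥(lab T K) = 2 :=
  (center_split hT hK).1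

theorem cof_inf_lab {T K : Subgroup G} (hK : IsJComponent T K) : cof T K ⊓ lab T K = ⊥ := by
  rw [Subgroup.eq_bot_iff_forall]
  intro w hw
  obtain ⟨x, hxK, -, -, hsum⟩ := exists_fpf hK.2.2.1
  have h := hsum w hw.2.2
  have e : cj x w = w := by
    show x * w * x⁻¹ = w
    rw [hw.1.2 x hxK, mul_inv_cancel_right]
  rwa [e, e, hK.2.2.2.2.2 w hw.2.2, one_mul] at h

theorem cof_sup_lab {T K : Subgroup G} (hT : IsPGroup 2 ↥T) (hK : IsJComponent T K) :
    cof T K ⊔ lab T K = zJ T := by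
  refine le_antisymm (sup_le inf_le_left inf_le_left) ?_
  conv_lhs => rw [zJ, ← (center_split hT hK).2]
  exact sup_le_sup (inf_le_inf le_rfl (inf_le_right.trans (Subgroup.centralizer_le (SetLike.coe_subset_coe.mpr le_sup_left))))
    le_rfl

theorem card_zJ {T K : Subgroup G} (hT : IsPGroup 2 ↥T) (hK : IsJComponent T K) :
    Nat.card ↥(zJ T) = 2 * Nat.card ↥(cof T K) := by
  have h := card_sup_mul_card_inf (A := cof T K) (B := lab T K) (fun a ha => mem_normalizer_of_conj_mem fun b hb => by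
    rw [elem_comm (zJ_elem T) ha.1 hb.1, mul_inv_cancel_right]; exact hb)
  rw [cof_sup_lab hT hK, cof_inf_lab hK, Subgroup.card_bot, mul_one, lab_card hT hK] at h
  rw [h, mul_comm]

theorem cof_map {T : Subgroup G} {g : G} (hg : g ∈ Subgroup.normalizer (thompsonSubgroupOf 2 T : Set G))
    (K : Subgroup G) : cof T (K.map (MulAut.conj g).toMonoidHom) = (cof T K).map (MulAut.conj g).toMonoidHom := by
  rw [cof, cof, Subgroup.map_inf _ _ _ (MulEquiv.injective (MulAut.conj g)), zJ_map hg, centralizer_map_conj]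

theorem lab_map {T : Subgroup G} {g : G} (hg : g ∈ Subgroup.normalizer (thompsonSubgroupOf 2 T : Set G))
    (K : Subgroup G) : lab T (K.map (MulAut.conj g).toMonoidHom) = (lab T K).map (MulAut.conj g).toMonoidHom := by
  rw [lab, lab, Subgroup.map_inf _ _ _ (MulEquiv.injective (MulAut.conj g)), zJ_map hg,
    ← wOf_map _ (MulEquiv.injective (MulAut.conj g))]

theorem comp_not_le {T K : Subgroup G} (hK : IsJComponent T K) {Q : Subgroup G} (hQ : IsPGroup 2 ↥Q) : ¬ K ≤ Q := by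
  intro h
  haveI : Fact (Nat.Prime 2) := ⟨Nat.prime_two⟩
  obtain ⟨n, hn⟩ := (hQ.to_le h).index ((pCoreOf 2 K).subgroupOf K)
  have h3 : 3 = 2 ^ n := hK.2.2.1.symm.trans hn
  rcases n with _ | n
  · simp at h3
  · rw [pow_succ] at h3; omega

theorem comp_not_normalize {T K : Subgroup G} (hT : IsPGroup 2 ↥T) (hK : IsJComponent T K) :
    ¬ K ≤ Subgroup.normalizer (thompsonSubgroupOf 2 T : Set G) := fun h => by
  refine comp_not_le hK (hT.to_le (thompsonOf_le' T)) (hK.2.1.ge.trans ?_)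
  rw [Subgroup.commutator_le]
  intro k hk j hj
  rw [commutatorElement_def]
  exact mul_mem (conj_mem' (h hk) hj) (inv_mem hj)

theorem centralizer_local {v : G} (hv : v * v = 1) (hv1 : v ≠ 1) :
    IsTwoLocal (Subgroup.centralizer ({v} : Set G)) := by
  refine ⟨Subgroup.zpowers v, isPGroup_two_of_sq (fun a ha => ?_), fun e => hv1 (Subgroup.zpowers_eq_bot.mp e), ?_⟩
  · obtain ⟨i, rfl⟩ := Subgroup.mem_zpowers_iff.mp ha
    rw [← zpow_natCast, ← zpow_mul, mul_comm, zpow_mul, zpow_natCast, pow_two, hv, one_zpow]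
  · refine le_antisymm ?_ fun g hg => ?_
    · intro g hg
      refine mem_normalizer_of_conj_mem fun a ha => ?_
      obtain ⟨i, rfl⟩ := Subgroup.mem_zpowers_iff.mp ha
      rw [← conj_zpow, Subgroup.mem_centralizer_singleton_iff.mp hg, mul_inv_cancel_right]
      exact Subgroup.zpow_mem _ (Subgroup.mem_zpowers v) i
    · rw [Subgroup.mem_centralizer_singleton_iff]
      have hmem := conj_mem' hg (Subgroup.mem_zpowers v)
      have hne : g * v * g⁻¹ ≠ 1 := fun e => hv1 (conj_eq_one_iff.mp e)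
      obtain ⟨i, hi⟩ := (isOfFinOrder_of_finite v).mem_powers_iff_mem_zpowers.mpr hmem
      change v ^ i = _ at hi
      rw [pow_eq_pow_mod i (show v ^ 2 = 1 by rw [pow_two, hv])] at hi
      rcases (show i % 2 = 0 ∨ i % 2 = 1 by omega) with h | h <;> rw [h] at hi
      · exact absurd (hi.symm.trans (pow_zero v)) hne
      · rw [pow_one] at hi; exact mul_inv_eq_iff_eq_mul.mp hi.symm

/-- The family of components to which the uniqueness argument applies. -/
structure Fam (T : Subgroup G) (Φ : Subgroup G → Prop) : Prop where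
  p2 : IsPGroup 2 ↥T
  ne : T ≠ ⊥
  comp : ∀ K, Φ K → IsJComponent T K
  big : ∀ K, Φ K → ∀ L R : Subgroup G, IsTwoLocal L → K ≤ L → IsSylowTwoIn R L →
    thompsonSubgroupOf 2 T ≤ R → thompsonSubgroupOf 2 R = thompsonSubgroupOf 2 T
  conj : ∀ K, Φ K → ∀ g ∈ Subgroup.normalizer (thompsonSubgroupOf 2 T : Set G), Φ (K.map (MulAut.conj g).toMonoidHom)

section Main

variable (hL : IsCharacteristicTwoType G) (hN : ∀ N : Subgroup G, Cfsg.IsTwoLocal N → Group.IsSolvable ↥N)
  (hZ : ∀ S : Sylow 2 G, Subgroup.centralizer (Cfsg.omegaCenterOf (S : Subgroup G) : Set G) ≤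
    Subgroup.normalizer ((S : Subgroup G) : Set G))
include hL hN hZ

namespace Fam

variable {T : Subgroup G} {Φ : Subgroup G → Prop} (hF : Fam T Φ)
include hF

theorem local_over {K L R : Subgroup G} (hK : Φ K) (hL2 : IsTwoLocal L) (hKL : K ≤ L)
    (hR : IsSylowTwoIn R L) (hJR : thompsonSubgroupOf 2 T ≤ R) : L ∈ jOvergroups R := by
  have hJ := hF.big K hK L R hL2 hKL hR hJR
  have hjc := hF.comp K hK
  refine ⟨hR, fun h => ?_, ?_⟩
  · refine comp_not_le hjc (isPGroup_pCoreOf L) (hjc.2.1.ge.trans ?_)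
    rw [Subgroup.commutator_le]
    intro k hk j hj
    rw [commutatorElement_def]
    exact mul_mem (conj_mem' (le_normalizer_pCoreOf' L (hKL hk)) (h (hJ.ge hj))) (inv_mem (h (hJ.ge hj)))
  · obtain ⟨Q, hQ, hQ1, rfl⟩ := hL2
    exact core_of_normalizer hL hN hZ hQ hQ1

theorem pair {K A B L : Subgroup G} (hK : Φ K) (hL2 : IsTwoLocal L) (hKL : K ≤ L)
    (hJL : thompsonSubgroupOf 2 T ≤ L) (hA : IsJComponent T A) (hAL : A ≤ L) (hB : IsJComponent T B) (hBL : B ≤ L) :
    B ≤ Subgroup.normalizer (wOf A : Set G) ∧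
      (A ≠ B → wOf A ⊓ wOf B = ⊥ ∧ B ≤ Subgroup.centralizer (wOf A : Set G)) := by
  obtain ⟨R, hR, hJR⟩ := exists_sylowTwoIn (hF.p2.to_le (thompsonOf_le' T)) hJL
  have hJ := hF.big K hK L R hL2 hKL hR hJR
  exact comp_pair hN hZ (hF.local_over hL hN hZ hK hL2 hKL hR hJR) (isJComponent_congr hJ hA) hAL
    (isJComponent_congr hJ hB) hBL

theorem cof_ne {K A B L : Subgroup G} (hK : Φ K) (hL2 : IsTwoLocal L) (hKL : K ≤ L)
    (hJL : thompsonSubgroupOf 2 T ≤ L) (hA : IsJComponent T A) (hAL : A ≤ L) (hB : IsJComponent T B) (hBL : B ≤ L)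
    (hne : A ≠ B) : ¬ lab T A ≤ cof T A ∧ lab T A ≤ cof T B := by
  refine ⟨fun h => ?_, fun w hw => ⟨hw.1, fun b hb => ((((hF.pair hL hN hZ hK hL2 hKL hJL hA hAL hB hBL).2 hne).2 hb) w hw.2).symm⟩⟩
  have hc := lab_card hF.p2 hA
  rw [← inf_eq_right.mpr h, cof_inf_lab hA, Subgroup.card_bot] at hc
  omega

theorem eq_of_cof {K A B L : Subgroup G} (hK : Φ K) (hL2 : IsTwoLocal L) (hKL : K ≤ L)
    (hJL : thompsonSubgroupOf 2 T ≤ L) (hA : IsJComponent T A) (hAL : A ≤ L) (hB : IsJComponent T B) (hBL : B ≤ L)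
    (h : cof T A = cof T B) : A = B := by
  by_contra hne
  have h' := hF.cof_ne hL hN hZ hK hL2 hKL hJL hA hAL hB hBL hne
  exact h'.1 (h ▸ h'.2)

theorem local_normalizer {K : Subgroup G} (hK : Φ K) :
    IsTwoLocal (Subgroup.normalizer (wOf K : Set G)) ∧ K ⊔ thompsonSubgroupOf 2 T ≤ Subgroup.normalizer (wOf K : Set G) := by
  obtain ⟨-, hcomm, -, -, hW4, hW2⟩ := hF.comp K hK
  refine ⟨isTwoLocal_normalizer (isPGroup_two_of_sq fun w hw => by rw [pow_two]; exact hW2 w hw) fun e => ?_,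
    sup_le (fun k hk => wOf_conj (Subgroup.le_normalizer hk)) fun j hj => wOf_conj (le_normalizer_of_commutator_eq hcomm hj)⟩
  rw [e, Subgroup.card_bot] at hW4
  omega

theorem zero {K : Subgroup G} (hK : Φ K) : K ∈ jComponentsZero T :=
  ⟨hF.comp K hK, fun R hJR hR => hF.big K hK _ R (hF.local_normalizer hL hN hZ hK).1
    (le_sup_left.trans (hF.local_normalizer hL hN hZ hK).2) hR hJR⟩

theorem spanC_eq {K K' L : Subgroup G} (hK : Φ K) (hK' : Φ K') (hL2 : IsTwoLocal L) (hKL : K ≤ L) (hK'L : K' ≤ L)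
    (hJL : thompsonSubgroupOf 2 T ≤ L) : spanC T K = spanC T K' := by
  suffices key : ∀ A B : Subgroup G, Φ A → Φ B → A ≤ L → B ≤ L → ∀ K'', IsJComponent T K'' →
      K'' ≤ Subgroup.normalizer (wOf A : Set G) → K'' ≤ Subgroup.normalizer (wOf B : Set G) by
    have e : {K'' | IsJComponent T K'' ∧ K'' ≤ Subgroup.normalizer (wOf K : Set G)} =
        {K'' | IsJComponent T K'' ∧ K'' ≤ Subgroup.normalizer (wOf K' : Set G)} :=
      Set.ext fun K'' => ⟨fun h => ⟨h.1, key K K' hK hK' hKL hK'L K'' h.1 h.2⟩,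
        fun h => ⟨h.1, key K' K hK' hK hK'L hKL K'' h.1 h.2⟩⟩
    rw [spanC, spanC, e]
  intro A B hA hB hAL hBL K'' hK'' hle
  have hBA : B ≤ Subgroup.normalizer (wOf A : Set G) :=
    (hF.pair hL hN hZ hA hL2 hAL hJL (hF.comp A hA) hAL (hF.comp B hB) hBL).1
  obtain ⟨h1, h2⟩ := hF.local_normalizer hL hN hZ hA
  exact (hF.pair hL hN hZ hA h1 (le_sup_left.trans h2) (le_sup_right.trans h2) (hF.comp B hB) hBA hK'' hle).1

theorem spanC_map {K : Subgroup G} {g : G} (hK : Φ K)
    (hg : g ∈ Subgroup.normalizer (thompsonSubgroupOf 2 T : Set G)) :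
    (spanC T K).map (MulAut.conj g).toMonoidHom = spanC T (K.map (MulAut.conj g).toMonoidHom) := by
  have key : ∀ A : Subgroup G, ∀ h ∈ Subgroup.normalizer (thompsonSubgroupOf 2 T : Set G),
      (spanC T A).map (MulAut.conj h).toMonoidHom ≤ spanC T (A.map (MulAut.conj h).toMonoidHom) := by
    intro A h hh
    rw [spanC, Subgroup.map_sup, Local.map_conj_eq_of_mem_normalizer hh]
    refine sup_le_sup ?_ le_rfl
    rw [Subgroup.map_le_iff_le_comap]
    refine sSup_le fun K' hK' => ?_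
    rw [← Subgroup.map_le_iff_le_comap]
    refine le_sSup ⟨isJComponent_conj hh hK'.1, ?_⟩
    rw [wOf_map _ (MulEquiv.injective (MulAut.conj h)), ← normalizer_map_conj]
    exact Subgroup.map_mono hK'.2
  refine le_antisymm (key K g hg) ?_
  have h1 := Subgroup.map_mono (f := (MulAut.conj g).toMonoidHom) (key (K.map (MulAut.conj g).toMonoidHom) g⁻¹ (inv_mem hg))
  rwa [conj_map_map, mul_inv_cancel, conj_map_one, conj_map_map g⁻¹ g, inv_mul_cancel, conj_map_one] at h1

theorem uloc_map {K : Subgroup G} {g : G} (hK : Φ K)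
    (hg : g ∈ Subgroup.normalizer (thompsonSubgroupOf 2 T : Set G)) :
    (uloc T K).map (MulAut.conj g).toMonoidHom = uloc T (K.map (MulAut.conj g).toMonoidHom) := by
  rw [uloc, uloc, normalizer_map_conj, ← pCoreOf_map _ (MulEquiv.injective (MulAut.conj g)),
    hF.spanC_map hL hN hZ hK hg]

theorem sup_le_spanC {K : Subgroup G} (hK : Φ K) : K ⊔ thompsonSubgroupOf 2 T ≤ spanC T K := by
  refine sup_le_sup ?_ le_rfl
  exact le_sSup ⟨hF.comp K hK, fun k hk => wOf_conj (Subgroup.le_normalizer hk)⟩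

theorem uloc_local {K : Subgroup G} (hK : Φ K) :
    IsTwoLocal (uloc T K) ∧ K ⊔ thompsonSubgroupOf 2 T ≤ uloc T K := by
  refine ⟨isTwoLocal_normalizer (isPGroup_pCoreOf _) fun e => ?_,
    (hF.sup_le_spanC hL hN hZ hK).trans (le_normalizer_pCoreOf' _)⟩
  have hjc := hF.comp K hK
  set X := spanC T K with hX
  set W := wOf K with hW
  obtain ⟨h1, h2⟩ := hF.local_normalizer hL hN hZ hK
  have hXH : X ≤ Subgroup.normalizer (W : Set G) := sup_le (sSup_le fun K' hK' => hK'.2) (le_sup_right.trans h2)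
  have hWK : W ≤ K := by
    rw [hW, wOf, Subgroup.commutator_le]
    intro d hd k hk
    rw [commutatorElement_def]
    exact K.mul_mem (K.mul_mem (K.mul_mem (pCoreOf_le' K (omegaCenterOf_le _ hd)) hk)
      (K.inv_mem (pCoreOf_le' K (omegaCenterOf_le _ hd)))) (K.inv_mem hk)
  have hWX : W ≤ X := hWK.trans (le_sup_left.trans (hF.sup_le_spanC hL hN hZ hK))
  haveI : (W.subgroupOf X).Normal := (Subgroup.normal_subgroupOf_iff_le_normalizer hWX).mpr hXH
  have hWp : IsPGroup 2 ↥W := isPGroup_two_of_sq fun w hw => by rw [pow_two]; exact hjc.2.2.2.2.2 w hw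
  have hle : W ≤ pCoreOf 2 X := fun w hw => ⟨⟨w, hWX hw⟩,
    CfsgLib.le_pCore (N := W.subgroupOf X) (hWp.comap_of_injective X.subtype X.subtype_injective) hw, rfl⟩
  rw [e, le_bot_iff] at hle
  have hc := hjc.2.2.2.2.1
  rw [← hW, hle, Subgroup.card_bot] at hc
  omega

theorem le_uloc {K L : Subgroup G} (hK : Φ K) (hL2 : IsTwoLocal L) (hKL : K ⊔ thompsonSubgroupOf 2 T ≤ L) :
    L ≤ uloc T K := by
  obtain ⟨R, hR, hJR⟩ := exists_sylowTwoIn (hF.p2.to_le (thompsonOf_le' T)) (le_sup_right.trans hKL)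
  have hKL' := le_sup_left.trans hKL
  have hj := hF.local_over hL hN hZ hK hL2 hKL' hR hJR
  have hJ := hF.big K hK L R hL2 hKL' hR hJR
  have hfix : L ⊓ Subgroup.normalizer (thompsonSubgroupOf 2 T : Set G) ≤ uloc T K := by
    intro g hg
    have hKg := hF.conj K hK g hg.2
    have hle : K.map (MulAut.conj g).toMonoidHom ≤ L := Local.map_conj_le fun x hx =>
      L.mul_mem (L.mul_mem hg.1 (hKL' hx)) (L.inv_mem hg.1)
    refine pCoreOf_conj (Local.mem_normalizer_of_map_conj_eq ?_)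
    rw [hF.spanC_map hL hN hZ hK hg.2]
    exact hF.spanC_eq hL hN hZ hKg hK hL2 hle hKL' (le_sup_right.trans hKL)
  refine overgroup_le_of_comps hL hN hZ hj (fun K' hK' hK'L => ?_) (fun r hr => hfix ⟨hR.1 hr, ?_⟩) (by rw [hJ]; exact hfix)
  · have hK'T := isJComponent_congr hJ.symm hK'
    refine (le_sSup (α := Subgroup G) ?_).trans ((le_sup_left : _ ≤ spanC T K).trans (le_normalizer_pCoreOf' _))
    exact ⟨hK'T, (hF.pair hL hN hZ hK hL2 hKL' (le_sup_right.trans hKL) (hF.comp K hK) hKL' hK'T hK'L).1⟩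
  · rw [← hJ]; exact le_normalizer_thompsonOf R hr

theorem uloc_max {K : Subgroup G} (hK : Φ K) : IsMaximalTwoLocal (uloc T K) := by
  obtain ⟨h1, h2⟩ := hF.uloc_local hL hN hZ hK
  exact ⟨h1, fun N hN2 hle => le_antisymm (hF.le_uloc hL hN hZ hK hN2 (h2.trans hle)) hle⟩

theorem uloc_eq {K K' L : Subgroup G} (hK : Φ K) (hK' : Φ K') (hL2 : IsTwoLocal L) (hKL : K ≤ L) (hK'L : K' ≤ L)
    (hJL : thompsonSubgroupOf 2 T ≤ L) : uloc T K = uloc T K' := by
  rw [uloc, uloc, hF.spanC_eq hL hN hZ hK hK' hL2 hKL hK'L hJL]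

theorem mem_uloc_of_eq {K : Subgroup G} {g : G} (hK : Φ K)
    (hg : g ∈ Subgroup.normalizer (thompsonSubgroupOf 2 T : Set G))
    (h : uloc T (K.map (MulAut.conj g).toMonoidHom) = uloc T K) : g ∈ uloc T K := by
  have hmax := hF.uloc_max hL hN hZ hK
  set U := uloc T K with hU
  have hgN : g ∈ Subgroup.normalizer (pCoreOf 2 U : Set G) :=
    pCoreOf_conj (Local.mem_normalizer_of_map_conj_eq (by rw [hU, hF.uloc_map hL hN hZ hK hg]; exact h))
  have hne : pCoreOf 2 U ≠ ⊥ := by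
    obtain ⟨Q, hQ, hQ1, e⟩ := hmax.1
    intro hb
    haveI : (Q.subgroupOf U).Normal := (Subgroup.normal_subgroupOf_iff_le_normalizer (e ▸ Subgroup.le_normalizer)).mpr e.le
    refine hQ1 (le_bot_iff.mp fun y hy => ?_)
    rw [← hb]
    exact ⟨⟨y, (e ▸ Subgroup.le_normalizer : Q ≤ U) hy⟩,
      CfsgLib.le_pCore (N := Q.subgroupOf U) (hQ.comap_of_injective U.subtype U.subtype_injective) hy, rfl⟩
  exact (hmax.2 _ (isTwoLocal_normalizer (isPGroup_pCoreOf U) hne) (le_normalizer_pCoreOf' U)).le hgN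

theorem link {K K' : Subgroup G} (hK : Φ K) (hK' : Φ K') {v : G} (hv : v ∈ cof T K) (hv' : v ∈ cof T K') (hv1 : v ≠ 1) :
    uloc T K = uloc T K' := by
  have h2 := centralizer_local (elem_sq (zJ_elem T) hv.1) hv1
  refine hF.uloc_eq hL hN hZ hK hK' h2 (fun k hk => ?_) (fun k hk => ?_) (fun j hj => ?_)
  · exact Subgroup.mem_centralizer_singleton_iff.mpr (hv.2 k hk)
  · exact Subgroup.mem_centralizer_singleton_iff.mpr (hv'.2 k hk)
  · exact Subgroup.mem_centralizer_singleton_iff.mpr (zJ_comm T hv.1 j hj)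

theorem centralizer_le_uloc {K : Subgroup G} (hK : Φ K) {v : G} (hv : v ∈ cof T K) (hv1 : v ≠ 1) :
    Subgroup.centralizer ({v} : Set G) ≤ uloc T K :=
  hF.le_uloc hL hN hZ hK (centralizer_local (elem_sq (zJ_elem T) hv.1) hv1) (sup_le
    (fun k hk => Subgroup.mem_centralizer_singleton_iff.mpr (hv.2 k hk))
    (fun j hj => Subgroup.mem_centralizer_singleton_iff.mpr (zJ_comm T hv.1 j hj)))

theorem eq_of_cof' {K A B : Subgroup G} (hK : Φ K) (hA : IsJComponent T A) (hB : IsJComponent T B)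
    {v : G} (hv1 : v ≠ 1) (hvK : v ∈ cof T K) (hvA : v ∈ cof T A) (hvB : v ∈ cof T B) (h : cof T A = cof T B) : A = B :=
  hF.eq_of_cof hL hN hZ hK (centralizer_local (elem_sq (zJ_elem T) hvK.1) hv1)
    (fun k hk => Subgroup.mem_centralizer_singleton_iff.mpr (hvK.2 k hk))
    (fun j hj => Subgroup.mem_centralizer_singleton_iff.mpr (zJ_comm T hvK.1 j hj))
    hA (fun k hk => Subgroup.mem_centralizer_singleton_iff.mpr (hvA.2 k hk))
    hB (fun k hk => Subgroup.mem_centralizer_singleton_iff.mpr (hvB.2 k hk)) h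

end Fam

variable (S : Sylow 2 G) {M : Subgroup G}
  (hMJ : Subgroup.normalizer (thompsonSubgroupOf 2 (S : Subgroup G) : Set G) ≤ M)
include hMJ

theorem fam_outside {T : Subgroup G} (hT : T ∈ maxStraddlingTwoSubgroups M) :
    Fam T (fun K => IsJComponent T K ∧ ¬ K ≤ M) := by
  refine ⟨hT.1.1, hT.1.2.1, fun K hK => hK.1, fun K hK L R hL2 hKL hR hJR => ?_, fun K hK g hg => ⟨isJComponent_conj hg hK.1, ?_⟩⟩
  · exact (straddle_main hL hN hZ S hMJ hT hL2 (fun h => hK.2 (hKL.trans h)) hR hJR).1.symm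
  · intro h
    refine hK.2 fun k hk => ?_
    have hgM := normalizer_thompson_le hL hN hZ S hMJ hT hg
    have h1 := h (⟨k, hk, rfl⟩ : g * k * g⁻¹ ∈ K.map (MulAut.conj g).toMonoidHom)
    have := M.mul_mem (M.mul_mem (M.inv_mem hgM) h1) hgM
    rwa [show g⁻¹ * (g * k * g⁻¹) * g = k by group] at this

omit hMJ in
theorem fam_sylow (P : Sylow 2 G) (hne : (P : Subgroup G) ≠ ⊥) :
    Fam (P : Subgroup G) (fun K => IsJComponent (P : Subgroup G) K) := by
  haveI : Fact (Nat.Prime 2) := ⟨Nat.prime_two⟩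
  refine ⟨P.isPGroup', hne, fun K hK => hK, fun K _ L R _ _ hR hJR => thompson_eq (L := ⊤) ⟨le_top, P.isPGroup', ?_⟩ hR.2.1 le_top hJR,
    fun K hK g hg => isJComponent_conj hg hK⟩
  rw [Subgroup.relIndex_top_right, ← Nat.not_even_iff_odd, even_iff_two_dvd]
  exact P.not_dvd_index

end Main

end CfsgLib.JComp

namespace CfsgLib.JComp

open Cfsg

variable {G : Type u} [Group G] [Finite G]
  (hL : IsCharacteristicTwoType G) (hN : ∀ N : Subgroup G, Cfsg.IsTwoLocal N → Group.IsSolvable ↥N)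
  (hZ : ∀ S : Sylow 2 G, Subgroup.centralizer (Cfsg.omegaCenterOf (S : Subgroup G) : Set G) ≤
    Subgroup.normalizer ((S : Subgroup G) : Set G))
  (S : Sylow 2 G) {M : Subgroup G}
  (hMJ : Subgroup.normalizer (thompsonSubgroupOf 2 (S : Subgroup G) : Set G) ≤ M)
include hL hN hZ hMJ

/-- For a maximal straddler the maximal 2-local of an outside component contains it as a Sylow subgroup. -/
theorem uloc_sylow {T K : Subgroup G} (hT : T ∈ maxStraddlingTwoSubgroups M) (hK : K ∈ jComponentsOutside M T) :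
    T ≤ uloc T K ∧ uloc T K ∈ jOvergroups T := by
  have hF := fam_outside hL hN hZ S hMJ hT
  have hΦ : IsJComponent T K ∧ ¬ K ≤ M := ⟨hK.1.1, hK.2.1⟩
  have hloc := isTwoLocal_normalizer (isPGroup_pCoreOf (K ⊔ T)) hK.2.2
  have hle : K ⊔ T ≤ Subgroup.normalizer (pCoreOf 2 (K ⊔ T) : Set G) := le_normalizer_pCoreOf' _
  have hU := hF.le_uloc hL hN hZ hΦ hloc ((sup_le_sup le_rfl (thompsonOf_le' T)).trans hle)
  have hTU : T ≤ uloc T K := le_sup_right.trans (hle.trans hU)
  exact ⟨hTU, straddle_second hL hN hZ S hMJ hT (hF.uloc_local hL hN hZ hΦ).1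
    (fun h => hΦ.2 (((le_sup_left).trans (hF.uloc_local hL hN hZ hΦ).2).trans h)) hTU⟩

end CfsgLib.JComp
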