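import Mathlib
import Cfsg.Agent.Lib.JComp.Uniq
import Cfsg.Agent.Lib.JComp.Para
import Cfsg.Agent.Lib.Elementary

/-!
Components with a Sylow 2-subgroup of their maximal 2-local: two of them give an amalgam of length one.
-/

set_option autoImplicit false
set_option linter.unusedSectionVars false

universe u

namespace CfsgLib.JComp

open Cfsg CfsgLib.PLocal CfsgLib.Offender
open scoped commutatorElement

variable {G : Type u} [Group G] [Finite G]

theorem elem_of_sq (X : Subgroup G) (h : ∀ a ∈ X, a * a = 1) : IsElementaryAbelian 2 X := by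
  refine ⟨⟨⟨fun a b => Subtype.ext ?_⟩⟩, fun a ha => by rw [pow_two]; exact h a ha⟩
  show (a : G) * b = b * a
  have h1 := h _ (X.mul_mem a.2 b.2)
  rw [← inv_eq_of_mul_eq_one_right h1, mul_inv_rev, inv_eq_of_mul_eq_one_right (h a a.2),
    inv_eq_of_mul_eq_one_right (h b b.2)]

theorem omega_le_zJ (T : Subgroup G) : omegaCenterOf T ≤ zJ T := by
  intro v hv
  have hvT := omegaCenterOf_le T hv
  have hvc := omegaCenterOf_le_centralizer T hv
  obtain ⟨E, hE⟩ := exists_top T
  have hEl : IsElementaryAbelian 2 (E ⊔ Subgroup.zpowers v) := by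
    refine isElementaryAbelian_sup' hE.1 (PLocal.isElementaryAbelian_of_le (omegaCenterOf_elem T) (Subgroup.zpowers_le.mpr hv)) ?_
    intro a ha b hb
    obtain ⟨i, rfl⟩ := Subgroup.mem_zpowers_iff.mp hb
    exact ((show Commute a v from hvc a (hE.2.1 ha)).zpow_right i).eq
  have hle := hE.2.2 _ hEl (sup_le hE.2.1 (Subgroup.zpowers_le.mpr hvT))
  have hvE : v ∈ E := (Subgroup.eq_of_le_of_card_ge le_sup_left hle).ge (Subgroup.mem_sup_right (Subgroup.mem_zpowers v))
  exact Subgroup.subset_closure ⟨⟨top_le hE hvE, fun j hj => hvc j (thompsonOf_le' T hj)⟩, (omegaCenterOf_elem T).2 v hv⟩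

theorem omega_ne_bot {P : Subgroup G} (hP : IsPGroup 2 ↥P) (h : P ≠ ⊥) : omegaCenterOf P ≠ ⊥ := by
  haveI : Fact (Nat.Prime 2) := ⟨Nat.prime_two⟩
  haveI : Nontrivial ↥P := (Subgroup.nontrivial_iff_ne_bot P).mpr h
  haveI := hP.center_nontrivial
  obtain ⟨n, hn⟩ := IsPGroup.iff_card.mp (hP.to_subgroup (Subgroup.center ↥P))
  have h2 : 2 ∣ Nat.card ↥(Subgroup.center ↥P) := by
    rw [hn]
    refine dvd_pow_self 2 ?_
    rintro rfl
    have := Finite.one_lt_card (α := ↥(Subgroup.center ↥P))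
    rw [hn, pow_zero] at this
    omega
  obtain ⟨z, hz⟩ := exists_prime_orderOf_dvd_card' 2 h2
  intro e
  have hmem : ((z : ↥P) : G) ∈ omegaCenterOf P := by
    refine Subgroup.subset_closure ⟨⟨(z : ↥P).2, fun p hp => congrArg Subtype.val (Subgroup.mem_center_iff.mp z.2 ⟨p, hp⟩)⟩, ?_⟩
    have : z ^ 2 = 1 := by rw [← hz]; exact pow_orderOf_eq_one z
    rw [← Subgroup.coe_pow, ← Subgroup.coe_pow, this]; rfl
  rw [e, Subgroup.mem_bot] at hmem
  have : z = 1 := Subtype.ext (Subtype.ext hmem)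
  rw [this, orderOf_one] at hz
  omega

theorem omega_le_of_core {P R L : Subgroup G} (hRP : R ≤ P) (hR : IsSylowTwoIn R L)
    (hC : Subgroup.centralizer (pCoreOf 2 L : Set G) ≤ pCoreOf 2 L) :
    omegaCenterOf P ≤ omegaCenterOf R ⊓ pCoreOf 2 L := by
  haveI : Fact (Nat.Prime 2) := ⟨Nat.prime_two⟩
  obtain ⟨P0, hP0⟩ := exists_sylowOf hR
  have hOR : pCoreOf 2 L ≤ R := by
    rintro _ ⟨o, ho, rfl⟩
    have := CfsgLib.pCore_le_sylow P0 ho
    rw [hP0] at this
    exact this
  intro v hv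
  have hc := omegaCenterOf_le_centralizer P hv
  have hvO : v ∈ pCoreOf 2 L := hC fun o ho => hc o (hRP (hOR ho))
  exact ⟨Subgroup.subset_closure ⟨⟨hOR hvO, fun r hr => hc r (hRP hr)⟩, (omegaCenterOf_elem P).2 v hv⟩, hvO⟩

/-- A group whose Thompson subgroup lies in the 2-core normalises it. -/
theorem le_normalizer_of_core {R L : Subgroup G} (hR : IsSylowTwoIn R L)
    (h : thompsonSubgroupOf 2 R ≤ pCoreOf 2 L) : L ≤ Subgroup.normalizer (thompsonSubgroupOf 2 R : Set G) := by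
  rw [← thompson_eq hR (isPGroup_pCoreOf L) (pCoreOf_le' L) h]
  exact (le_normalizer_pCoreOf' L).trans (normalizer_le_normalizer_thompson _)

theorem fix_of_card_two {A : Subgroup G} (hA : Nat.card A ≤ 2) {g : G} (hg : A.map (MulAut.conj g).toMonoidHom = A) :
    ∀ v ∈ A, g * v * g⁻¹ = v := by
  intro v hv
  by_cases hv1 : v = 1
  · subst hv1; simp
  have h2 : Nat.card A = 2 := by
    haveI : Nontrivial ↥A := ⟨⟨⟨v, hv⟩, 1, fun e => hv1 (congrArg Subtype.val e)⟩⟩
    have := Finite.one_lt_card_iff_nontrivial.mpr this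
    omega
  rcases card_two_mem h2 hv hv1 _ (hg.le ⟨v, hv, rfl⟩) with e | e
  · exact absurd (conj_eq_one_iff.mp e) hv1
  · exact e

section Main

variable (hL : IsCharacteristicTwoType G) (hN : ∀ N : Subgroup G, Cfsg.IsTwoLocal N → Group.IsSolvable ↥N)
  (hZ : ∀ S : Sylow 2 G, Subgroup.centralizer (Cfsg.omegaCenterOf (S : Subgroup G) : Set G) ≤
    Subgroup.normalizer ((S : Subgroup G) : Set G))
include hL hN hZ

/-- A component which is the only one in its maximal 2-local. -/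
structure Solo (T : Subgroup G) (Φ : Subgroup G → Prop) (K : Subgroup G) : Prop where
  phi : Φ K
  syl : IsSylowTwoIn T (uloc T K)
  single : ∀ K', IsJComponent T K' → K' ≤ uloc T K → K' = K
  small : Nat.card ↥(cof T K) ≤ 2
  omega : omegaCenterOf T = zJ T

namespace Fam

variable {T : Subgroup G} {Φ : Subgroup G → Prop} (hF : Fam T Φ)
include hF

theorem self_le {K : Subgroup G} (hK : Φ K) : K ≤ uloc T K :=
  le_sup_left.trans (hF.uloc_local hL hN hZ hK).2

theorem thompson_le {K : Subgroup G} (hK : Φ K) : thompsonSubgroupOf 2 T ≤ uloc T K :=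
  le_sup_right.trans (hF.uloc_local hL hN hZ hK).2

/-- The local is generated by its components and the normalizer of `J`. -/
theorem uloc_gen {K R Z : Subgroup G} (hK : Φ K) (hR : IsSylowTwoIn R (uloc T K)) (hJR : thompsonSubgroupOf 2 T ≤ R)
    (hZc : ∀ K', IsJComponent T K' → K' ≤ uloc T K → K' ≤ Z)
    (hZn : uloc T K ⊓ Subgroup.normalizer (thompsonSubgroupOf 2 T : Set G) ≤ Z) : uloc T K ≤ Z := by
  have h2 := (hF.uloc_local hL hN hZ hK).1
  have hKU := hF.self_le hL hN hZ hK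
  have hJ := hF.big K hK _ R h2 hKU hR hJR
  refine overgroup_le_of_comps hL hN hZ (hF.local_over hL hN hZ hK h2 hKU hR hJR)
    (fun K' hK' hle => hZc K' (isJComponent_congr hJ.symm hK') hle) (fun r hr => hZn ⟨hR.1 hr, ?_⟩) (by rw [hJ]; exact hZn)
  rw [← hJ]; exact le_normalizer_thompsonOf R hr

theorem uloc_le_normalizer {K : Subgroup G} (hK : Φ K)
    (hs : ∀ K', IsJComponent T K' → K' ≤ uloc T K → K' = K) : uloc T K ≤ Subgroup.normalizer (K : Set G) := by
  obtain ⟨R, hR, hJR⟩ := exists_sylowTwoIn (hF.p2.to_le (thompsonOf_le' T)) (hF.thompson_le hL hN hZ hK)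
  refine hF.uloc_gen hL hN hZ hK hR hJR (fun K' h1 h2 => (hs K' h1 h2).le.trans Subgroup.le_normalizer) fun g hg => ?_
  refine Local.mem_normalizer_of_map_conj_eq (hs _ (isJComponent_conj hg.2 (hF.comp K hK)) (Local.map_conj_le fun x hx => ?_))
  exact mul_mem (mul_mem hg.1 (hF.self_le hL hN hZ hK hx)) (inv_mem hg.1)

theorem uloc_dec {K : Subgroup G} (hK : Φ K) (hs : ∀ K', IsJComponent T K' → K' ≤ uloc T K → K' = K) {g : G}
    (hg : g ∈ uloc T K) :
    ∃ k ∈ K, ∃ m ∈ uloc T K ⊓ Subgroup.normalizer (thompsonSubgroupOf 2 T : Set G), g = k * m := by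
  set N0 := uloc T K ⊓ Subgroup.normalizer (thompsonSubgroupOf 2 T : Set G) with hN0
  obtain ⟨R, hR, hJR⟩ := exists_sylowTwoIn (hF.p2.to_le (thompsonOf_le' T)) (hF.thompson_le hL hN hZ hK)
  have hle := hF.uloc_gen hL hN hZ hK hR hJR (Z := K ⊔ N0) (fun K' h1 h2 => (hs K' h1 h2).le.trans le_sup_left) le_sup_right
  have hg' : g ∈ ((K ⊔ N0 : Subgroup G) : Set G) := hle hg
  rw [Subgroup.coe_mul_of_right_le_normalizer_left _ _ (inf_le_left.trans (hF.uloc_le_normalizer hL hN hZ hK hs))] at hg'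
  obtain ⟨k, hk, m, hm, rfl⟩ := hg'
  exact ⟨k, hk, m, hm, rfl⟩

theorem nocore {A B : Subgroup G} (hA : Φ A) (hB : Φ B) (hne : uloc T A ≠ uloc T B) :
    NoCore (fun b => if b then A else B) T := by
  intro N hNT hn
  by_contra hN1
  refine hne ?_
  have h2 := isTwoLocal_normalizer (hF.p2.to_le hNT) hN1
  have hA' : A ⊔ T ≤ Subgroup.normalizer (N : Set G) := hn true
  have hB' : B ⊔ T ≤ Subgroup.normalizer (N : Set G) := hn false
  exact hF.uloc_eq hL hN hZ hA hB h2 (le_sup_left.trans hA') (le_sup_left.trans hB')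
    ((thompsonOf_le' T).trans (le_sup_right.trans hA'))

theorem syl_map {K : Subgroup G} (hK : Φ K) (hs : IsSylowTwoIn T (uloc T K)) {q : G}
    (hq : q ∈ Subgroup.normalizer (T : Set G)) :
    IsSylowTwoIn T (uloc T (K.map (MulAut.conj q).toMonoidHom)) := by
  have h := isSylowTwoIn_map (MulAut.conj q).toMonoidHom (MulEquiv.injective (MulAut.conj q)) hs
  rwa [Local.map_conj_eq_of_mem_normalizer hq, hF.uloc_map hL hN hZ hK (normalizer_le_normalizer_thompson T hq)] at h

end Fam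

variable {T : Subgroup G} {Φ : Subgroup G → Prop}

theorem Solo.ck_eq {K : Subgroup G} (h : Solo T Φ K) : ck T K = cof T K := by rw [ck, cof, h.omega]

theorem Solo.lk_eq {K : Subgroup G} (h : Solo T Φ K) : lk T K = lab T K := by rw [lk, lab, h.omega]

theorem Solo.vd_map {K : Subgroup G} (h : Solo T Φ K) {g : G}
    (hg : g ∈ Subgroup.normalizer (thompsonSubgroupOf 2 T : Set G)) :
    vd T (K.map (MulAut.conj g).toMonoidHom) = (vd T K).map (MulAut.conj g).toMonoidHom := by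
  have hc : ∀ K', ck T K' = cof T K' := fun K' => by rw [ck, cof, h.omega]
  rw [vd, vd, hc, hc, Subgroup.map_sup, cof_map hg, wOf_map _ (MulEquiv.injective (MulAut.conj g))]

theorem par_of {K : Subgroup G} (hF : Fam T Φ) (hK : Φ K) (hsyl : IsSylowTwoIn T (uloc T K))
    (hTK : T ≤ Subgroup.normalizer (K : Set G)) (homega : omegaCenterOf T = zJ T) : Par T K := by
  have hjc := hF.comp K hK
  have hKU := hF.self_le hL hN hZ hK
  refine ⟨hF.p2, hjc.2.2.1, hjc.2.2.2.2.1, hjc.2.2.2.2.2, hTK, ⟨le_sup_right, hF.p2, ?_⟩, ?_, ?_, ?_⟩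
  · have hd : T.relIndex (K ⊔ T) * (K ⊔ T).relIndex (uloc T K) = T.relIndex (uloc T K) :=
      Subgroup.relIndex_mul_relIndex _ _ _ le_sup_right (sup_le hKU hsyl.1)
    have ho := hsyl.2.2
    rw [← hd] at ho
    exact (Nat.odd_mul.mp ho).1
  · intro hT
    obtain ⟨x, hxK, -, -, hsum⟩ := exists_fpf hjc.2.2.1
    have hWJ : ∀ j ∈ thompsonSubgroupOf 2 T, ∀ w ∈ wOf K, cj j w = w := fun j hj w hw => by
      show j * w * j⁻¹ = w
      rw [← hT (thompsonOf_le' T hj) w hw, mul_inv_cancel_right]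
    have hKc : K ≤ Subgroup.centralizer (wOf K : Set G) := hjc.2.1.ge.trans (by
      rw [Subgroup.commutator_le]
      intro k hk j hj w hw
      have hkW : ∀ u ∈ wOf K, cj k⁻¹ u ∈ wOf K := fun u hu =>
        conj_mem' (wOf_conj (Subgroup.le_normalizer (K.inv_mem hk))) hu
      have hjW : cj j⁻¹ w = w := hWJ j⁻¹ (inv_mem hj) w hw
      have h : cj ⁅k, j⁆ w = w := by
        rw [commutatorElement_def, cj_comp, hjW, show k * j * k⁻¹ = k * (j * k⁻¹) by group, cj_comp, cj_comp,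
          hWJ j hj _ (hkW w hw), ← cj_comp, mul_inv_cancel]
        simp [cj]
      exact (mul_inv_eq_iff_eq_mul.mp h).symm)
    have hbot : wOf K = ⊥ := (Subgroup.eq_bot_iff_forall _).mpr fun w hw => by
      have e : cj x w = w := by
        show x * w * x⁻¹ = w
        rw [← hKc hxK w hw, mul_inv_cancel_right]
      have hs := hsum w hw
      rwa [e, e, hjc.2.2.2.2.2 w hw, one_mul] at hs
    have hc := hjc.2.2.2.2.1
    rw [hbot, Subgroup.card_bot] at hc
    omega
  · rw [lk, homega]; exact lab_card hF.p2 hjc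
  · rw [lk, ck, homega]; exact cof_sup_lab hF.p2 hjc

theorem Solo.par {K : Subgroup G} (hF : Fam T Φ) (h : Solo T Φ K) : Par T K :=
  par_of hL hN hZ hF h.phi h.syl (h.syl.1.trans (hF.uloc_le_normalizer hL hN hZ h.phi h.single)) h.omega

/-- The hypothesis excluding the unsymmetrical label pattern. -/
def Third (T A B : Subgroup G) : Prop :=
  ∀ g : G, lk T B = ck T A → lk T A ≠ ck T B → (lk T A).map (MulAut.conj g).toMonoidHom = lk T A →
    vd T A ≤ qd T B → vd T B ≤ qd T A →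
    (∃ v ∈ vd T A, ∃ u ∈ vd T A, ¬ Commute v (g * u * g⁻¹)) → False

/-- Two parabolics over a common Sylow subgroup are at distance one. -/
theorem pair_one (hF : Fam T Φ) {A B : Subgroup G} (hA : Solo T Φ A) (hB : Solo T Φ B) (hne : uloc T A ≠ uloc T B)
    (h3 : Third T A B) (h3' : Third T B A) :
    qd T A = vd T A ∧ qd T B = vd T B ∧
      ∀ E : Subgroup G, IsElementaryAbelian 2 E → E ≤ T → E ≤ vd T A ∨ E ≤ vd T B := by
  classical
  set Kf : Bool → Subgroup G := fun b => if b then A else B with hKf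
  have hsolo : ∀ b, Solo T Φ (Kf b) := fun b => by cases b; exacts [hB, hA]
  have hP : ∀ b, Par T (Kf b) := fun b => (hsolo b).par hL hN hZ hF
  have hcore : NoCore Kf T := hF.nocore hL hN hZ hA.phi hB.phi hne
  have hthird : ∀ i, Third T (Kf i) (Kf (!i)) := fun i => by cases i; exacts [h3', h3]
  by_cases h1 : ∃ i, ¬ vd T (Kf i) ≤ qd T (Kf (!i))
  · obtain ⟨i, hi⟩ := h1
    obtain ⟨e1, e2, e3⟩ := one_structure hP hcore hi
    cases i
    · exact ⟨e2, e1, fun E hE hET => (e3 E hE hET).symm⟩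
    · exact ⟨e1, e2, e3⟩
  exfalso
  push Not at h1
  set Pc : ℕ → Prop := fun m => ∃ i g, g ∈ rs Kf T i m ∧
    ¬ vd T (Kf i) ≤ (qd T (Kf (ty i m))).map (MulAut.conj g).toMonoidHom with hPc
  have hex : ∃ m, Pc m := exists_crit hP hcore
  have hmin : ∀ m, m < Nat.find hex → ¬ Pc m := fun m hm => Nat.find_min hex hm
  obtain ⟨i, g, hg, hc⟩ := Nat.find_spec hex
  have h0 : ∀ l g', g' ∈ rs Kf T l 0 → vd T (Kf l) ≤ (qd T (Kf l)).map (MulAut.conj g').toMonoidHom :=
    fun l g' hg' => by rw [q_map hP hg']; exact (hP l).v_le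
  obtain ⟨n, hn⟩ : ∃ n, Nat.find hex = n + 2 := by
    rcases hb : Nat.find hex with _ | _ | n
    · rw [hb] at hg hc; exact absurd (h0 i g hg) hc
    · rw [hb] at hg hc
      obtain ⟨y, hy, p, hp, rfl⟩ := hg
      refine absurd ?_ hc
      have := Subgroup.map_mono (f := (MulAut.conj y).toMonoidHom) (h1 i)
      rw [v_map hP hy] at this
      rwa [← conj_map_map, show ty i 1 = !i from rfl, q_map hP (show p ∈ Kf (!i) ⊔ T from hp)]
    · exact ⟨n, rfl⟩
  have hb : Below Kf T (n + 2) := fun m hm l g' hg' => by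
    by_contra h
    exact hmin m (hn ▸ hm) ⟨l, g', hg', h⟩
  rw [hn] at hg hc
  have hck2 : ∀ l, lk T (Kf (!l)) ≤ ck T (Kf l) → lk T (Kf (!l)) = ck T (Kf l) := fun l h =>
    Subgroup.eq_of_le_of_card_ge h (by rw [(hP (!l)).labc, (hsolo l).ck_eq hL hN hZ]; exact (hsolo l).small)
  have hi := hck2 i (lab_of_crit hP hb hcore hg hc)
  obtain ⟨g', hg1, hg2, hc'⟩ := crit_normal hP hg hc
  obtain ⟨-, hlab, v0, hv0, u0, hu0, hnc⟩ := crit_label hP hb hg1 hg2 hc'
  have hmut : lk T (Kf i) = ck T (Kf (!i)) := by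
    by_contra hne'
    rcases (show ty i (n + 2) = i ∨ ty i (n + 2) = !i by cases ty i (n + 2) <;> cases i <;> simp) with he | he
    · rw [he] at hlab hu0
      exact hthird i g' hi hne' hlab (h1 i) (by have := h1 (!i); rwa [Bool.not_not] at this) ⟨v0, hv0, u0, hu0, hnc⟩
    · obtain ⟨hr1, hr2⟩ := crit_rev hP hb hg1 hg2 hc'
      have htt : ty (ty i (n + 2)) (n + 2) = i := ty_ty i (n + 2)
      have h := lab_of_crit hP hb hcore hr1 (by rw [htt]; exact hr2)
      rw [he, Bool.not_not] at h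
      have h' := hck2 (!i) (by rw [Bool.not_not]; exact h)
      rw [Bool.not_not] at h'
      exact hne' h'
  have hall : ∀ l, lk T (Kf l) = ck T (Kf (!l)) := fun l => by
    rcases (show l = i ∨ l = !i by cases l <;> cases i <;> simp) with rfl | rfl
    · exact hmut
    · rw [Bool.not_not]; exact hi
  have hid : ∀ a g, g ∈ rs Kf T a (n + 1) → g ∈ rs Kf T (!a) (n + 1) →
      ¬ vd T (Kf a) ≤ (qd T (Kf (ty a (n + 2)))).map (MulAut.conj g).toMonoidHom →
      ∃ k ∈ Kf (!a), ∃ v ∈ vd T (Kf a), ∃ u ∈ vd T (Kf a), ¬ Commute v (k * u * k⁻¹) := by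
    intro a g hga hgb hcrit
    obtain ⟨-, hl, v, hv, u, hu, hne'⟩ := crit_label hP hb hga hgb hcrit
    set e := ty a (n + 2) with he
    set b := !a with hbdef
    obtain ⟨c, hc, hc1, -⟩ := (hP a).lab_elt
    have hcb : c ∈ cof T (Kf b) := by
      rw [← (hsolo b).ck_eq hL hN hZ, ← hall a]; exact hc
    have hUb := hF.centralizer_le_uloc hL hN hZ (hsolo b).phi hcb hc1
    have hgT : T.map (MulAut.conj g).toMonoidHom ≤ uloc T (Kf b) := by
      rintro _ ⟨t, ht, rfl⟩
      refine hUb (Subgroup.mem_centralizer_singleton_iff.mpr ?_)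
      obtain ⟨d, hd, rfl⟩ := hl.ge hc
      show (MulAut.conj g) t * (MulAut.conj g) d = (MulAut.conj g) d * (MulAut.conj g) t
      rw [← map_mul, ← map_mul, omegaCenterOf_le_centralizer T hd.1 t ht]
    obtain ⟨l, hlU, hlT⟩ := exists_conj_le (hsolo b).syl (hF.p2.map _) hgT
    rw [conj_map_map] at hlT
    set m := l * g with hm
    have hmT : m ∈ Subgroup.normalizer (T : Set G) := Local.mem_normalizer_of_map_conj_eq
      (Subgroup.eq_of_le_of_card_ge hlT (Subgroup.card_map_of_injective (MulEquiv.injective (MulAut.conj m))).ge)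
    have hmJ := normalizer_le_normalizer_thompson T hmT
    have hUnorm := hF.uloc_le_normalizer hL hN hZ (hsolo b).phi (hsolo b).single
    have hUck : ∀ y ∈ uloc T (Kf b), (ck T (Kf b)).map (MulAut.conj y).toMonoidHom = ck T (Kf b) := by
      obtain ⟨R, hR, hJR⟩ : ∃ R, IsSylowTwoIn R (uloc T (Kf b)) ∧ thompsonSubgroupOf 2 T ≤ R :=
        ⟨T, (hsolo b).syl, thompsonOf_le' T⟩
      intro y hy
      obtain ⟨k, hk, m', hm', rfl⟩ := hF.uloc_dec hL hN hZ (hsolo b).phi (hsolo b).single hy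
      rw [← conj_map_map]
      have h1' : (ck T (Kf b)).map (MulAut.conj m').toMonoidHom = ck T (Kf b) := by
        rw [(hsolo b).ck_eq hL hN hZ, ← cof_map hm'.2, Local.map_conj_eq_of_mem_normalizer (hUnorm hm'.1)]
      rw [h1']
      refine Local.map_conj_eq_of_mem_normalizer (mem_normalizer_of_conj_mem fun z hz => ?_)
      rw [hz.2 k hk, mul_inv_cancel_right]; exact hz
    have hlmap : (lk T (Kf e)).map (MulAut.conj m).toMonoidHom = ck T (Kf b) := by
      rw [hm, ← conj_map_map, hl, hall a, hUck l hlU]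
    have hKeq : ∀ p q, (ck T (Kf p)).map (MulAut.conj m).toMonoidHom = ck T (Kf q) →
        (Kf p).map (MulAut.conj m).toMonoidHom = Kf q := by
      intro p q h
      obtain ⟨d, hd, hd1, -⟩ := (hP (!q)).lab_elt
      rw [hall (!q), Bool.not_not] at hd
      have hd' : d ∈ cof T (Kf q) := by rwa [← (hsolo q).ck_eq hL hN hZ]
      have heq : cof T ((Kf p).map (MulAut.conj m).toMonoidHom) = cof T (Kf q) := by
        rw [cof_map hmJ, ← (hsolo p).ck_eq hL hN hZ, ← (hsolo q).ck_eq hL hN hZ, h]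
      exact hF.eq_of_cof' hL hN hZ (hsolo q).phi (isJComponent_conj hmJ (hF.comp _ (hsolo p).phi))
        (hF.comp _ (hsolo q).phi) hd1 hd' (heq ▸ hd') hd' heq
    have hK1 : (Kf (!e)).map (MulAut.conj m).toMonoidHom = Kf b := hKeq _ _ (by rw [← hall e]; exact hlmap)
    have hlk1 : (lk T (Kf (!e))).map (MulAut.conj m).toMonoidHom = lk T (Kf b) := by
      rw [(hsolo (!e)).lk_eq hL hN hZ, (hsolo b).lk_eq hL hN hZ, ← lab_map hmJ, hK1]
    have hK2 : (Kf e).map (MulAut.conj m).toMonoidHom = Kf a := hKeq _ _ (by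
      have h' := hlk1
      rw [hall (!e), hall b, Bool.not_not, hbdef, Bool.not_not] at h'
      exact h')
    obtain ⟨k, hk, m', hm', hlk⟩ := hF.uloc_dec hL hN hZ (hsolo b).phi (hsolo b).single (inv_mem hlU)
    have hm'K : (Kf b).map (MulAut.conj m').toMonoidHom = Kf b := Local.map_conj_eq_of_mem_normalizer (hUnorm hm'.1)
    have hm'a : (Kf a).map (MulAut.conj m').toMonoidHom = Kf a := by
      have hck : (ck T (Kf a)).map (MulAut.conj m').toMonoidHom = ck T (Kf a) := by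
        have hb' : lk T (Kf b) = ck T (Kf a) := by rw [hall b, hbdef, Bool.not_not]
        rw [← hb', (hsolo b).lk_eq hL hN hZ, ← lab_map hm'.2, hm'K]
      obtain ⟨d, hd, hd1, -⟩ := (hP b).lab_elt
      rw [hall b, hbdef, Bool.not_not] at hd
      have hd' : d ∈ cof T (Kf a) := by rwa [← (hsolo a).ck_eq hL hN hZ]
      have heq : cof T ((Kf a).map (MulAut.conj m').toMonoidHom) = cof T (Kf a) := by
        rw [cof_map hm'.2, ← (hsolo a).ck_eq hL hN hZ, hck]
      exact hF.eq_of_cof' hL hN hZ (hsolo a).phi (isJComponent_conj hm'.2 (hF.comp _ (hsolo a).phi))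
        (hF.comp _ (hsolo a).phi) hd1 hd' (heq ▸ hd') hd' heq
    have hu' : (m' * m) * u * (m' * m)⁻¹ ∈ vd T (Kf a) := by
      have h4 : (vd T (Kf e)).map (MulAut.conj (m' * m)).toMonoidHom = vd T (Kf a) := by
        rw [← conj_map_map, ← (hsolo e).vd_map hL hN hZ hmJ, hK2, ← (hsolo a).vd_map hL hN hZ hm'.2, hm'a]
      exact h4.le ⟨u, hu, rfl⟩
    refine ⟨k, hk, v, hv, _, hu', ?_⟩
    have hgeq : g = k * m' * m := by rw [← hlk, hm, inv_mul_cancel_left]
    rwa [show k * ((m' * m) * u * (m' * m)⁻¹) * k⁻¹ = g * u * g⁻¹ by rw [hgeq]; group]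
  obtain ⟨k, hk, a, ha, a', ha', hne1⟩ := hid i g' hg1 hg2 hc'
  refine mutual_false hP (i := i) h1 hmut.le hi.le hk ⟨a, ha, a', ha', hne1⟩ ?_
  rcases neighbour hP hb hg1 hg2 hc' with hU | ⟨-, g2, hg2', hc2⟩
  · exact Or.inl (join_core_normal hP hb hU)
  · obtain ⟨g3, h31, h32, hc3⟩ := crit_normal hP hg2' hc2
    obtain ⟨k', hk', b, hb', b', hb'', hne2⟩ := hid (!i) g3 h31 h32 hc3
    rw [Bool.not_not] at hk'
    exact Or.inr ⟨k', hk', b, hb', b', hb'', hne2⟩

end Main

end CfsgLib.JComp
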