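import Mathlib
import Cfsg.Agent.Lib.JComp.Solo

/-!
The two possible configurations of a maximal straddling subgroup.
-/

set_option autoImplicit false
set_option linter.unusedSectionVars false

universe u

namespace CfsgLib.JComp

open Cfsg CfsgLib.PLocal CfsgLib.Offender
open scoped commutatorElement

variable {G : Type u} [Group G] [Finite G]

theorem centralizer_eq_of_card_two {A : Subgroup G} (hA : Nat.card A = 2) {z : G} (hz : z ∈ A) (hz1 : z ≠ 1) :
    Subgroup.centralizer (A : Set G) = Subgroup.centralizer ({z} : Set G) := by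
  refine le_antisymm (fun g hg => Subgroup.mem_centralizer_singleton_iff.mpr (hg z hz).symm) fun g hg a ha => ?_
  rcases card_two_mem hA hz hz1 a ha with rfl | rfl
  · rw [one_mul, mul_one]
  · exact (Subgroup.mem_centralizer_singleton_iff.mp hg).symm

theorem se_involutions {U : Subgroup G} (h : IsStronglyEmbedded U) {u u' : G} (hu : u ∈ U) (hu2 : u * u = 1)
    (hu1 : u ≠ 1) (hu' : u' ∈ U) (hu'2 : u' * u' = 1) (hu'1 : u' ≠ 1) : ∃ g ∈ U, g * u * g⁻¹ = u' := by
  obtain ⟨htop, -, hse⟩ := h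
  have key : ∀ a g : G, a ∈ U → a * a = 1 → a ≠ 1 → g * a * g⁻¹ ∈ U → g ∈ U := by
    intro a g ha ha2 ha1 hga
    by_contra hg
    have hm : g * a * g⁻¹ ∈ U ⊓ U.map (MulAut.conj g).toMonoidHom := ⟨hga, a, ha, rfl⟩
    have ho : orderOf (g * a * g⁻¹) = 2 := orderOf_eq_prime (by
      rw [pow_two, show g * a * g⁻¹ * (g * a * g⁻¹) = g * (a * a) * g⁻¹ by group, ha2, mul_one, mul_inv_cancel])
      (fun e => ha1 (conj_eq_one_iff.mp e))
    have h2 := ho ▸ Subgroup.orderOf_dvd_natCard _ hm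
    exact Nat.not_even_iff_odd.mpr (hse g hg) (even_iff_two_dvd.mpr h2)
  obtain ⟨g, -, hg⟩ := SetLike.exists_of_lt (lt_top_iff_ne_top.mpr htop)
  set v := g * u * g⁻¹ with hv
  have hvU : v ∉ U := fun h => hg (key u g hu hu2 hu1 h)
  have hv2 : v * v = 1 := by rw [hv, show g * u * g⁻¹ * (g * u * g⁻¹) = g * (u * u) * g⁻¹ by group, hu2, mul_one, mul_inv_cancel]
  have hconj : ∀ a, a ∈ U → a * a = 1 → a ≠ 1 → ∃ d : G, d * a * d⁻¹ = v := by
    intro a ha ha2 ha1
    set d := a * v with hd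
    have hai : a⁻¹ = a := inv_eq_of_mul_eq_one_right ha2
    have hvi : v⁻¹ = v := inv_eq_of_mul_eq_one_right hv2
    have hinv : ∀ k : ℕ, a * d ^ k * a⁻¹ = (d ^ k)⁻¹ := by
      intro k
      rw [← conj_pow, ← inv_pow, hd, mul_inv_rev, hvi, hai]
      congr 1
      rw [← mul_assoc a a v, ha2, one_mul]
    rcases Nat.even_or_odd (orderOf d) with he | ho
    · exfalso
      obtain ⟨m, hm⟩ := he
      have hpos : 0 < orderOf d := orderOf_pos d
      set i := d ^ m with hi
      have hi2 : i * i = 1 := by rw [hi, ← pow_add, ← hm, pow_orderOf_eq_one]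
      have hii : i⁻¹ = i := inv_eq_of_mul_eq_one_right hi2
      have hi1 : i ≠ 1 := pow_ne_one_of_lt_orderOf (by omega) (by omega)
      have hia : a * i * a⁻¹ = i := (hinv m).trans hii
      have hiU : i ∈ U := key a i ha ha2 ha1 (by
        rw [show i * a * i⁻¹ = a from by
          calc i * a * i⁻¹ = (a * i * a⁻¹) * a * i⁻¹ := by rw [hia]
            _ = a := by group]
        exact ha)
      refine hvU (key i v hiU hi2 hi1 ?_)
      have e : v * i * v⁻¹ = i := by
        have hdi : d * i * d⁻¹ = i := by rw [hi]; group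
        calc v * i * v⁻¹ = a⁻¹ * (d * i * d⁻¹) * a := by rw [hd]; group
          _ = a⁻¹ * i * a := by rw [hdi]
          _ = i := by
            conv_lhs => rw [← hia]
            group
      rw [e]; exact hiU
    · obtain ⟨k, hk⟩ := ho
      refine ⟨d ^ k, ?_⟩
      have h1 : a * (d ^ k)⁻¹ = d ^ k * a := by
        calc a * (d ^ k)⁻¹ = a * (a * d ^ k * a⁻¹) := by rw [hinv k]
          _ = (a * a) * d ^ k * a⁻¹ := by group
          _ = d ^ k * a := by rw [ha2, one_mul, hai]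
      have h2 : d * (d ^ k * d ^ k) = 1 := by
        rw [← pow_add, ← pow_succ', show k + k + 1 = orderOf d by omega, pow_orderOf_eq_one]
      calc d ^ k * a * (d ^ k)⁻¹ = d ^ k * (a * (d ^ k)⁻¹) := by group
        _ = d⁻¹ * (d * (d ^ k * d ^ k)) * a := by rw [h1]; group
        _ = d⁻¹ * a := by rw [h2, mul_one]
        _ = v := by rw [hd, mul_inv_rev, hvi, inv_mul_cancel_right]
  obtain ⟨a, ha⟩ := hconj u hu hu2 hu1
  obtain ⟨b, hb⟩ := hconj u' hu' hu'2 hu'1
  have e : b⁻¹ * a * u * (b⁻¹ * a)⁻¹ = u' := by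
    calc b⁻¹ * a * u * (b⁻¹ * a)⁻¹ = b⁻¹ * (a * u * a⁻¹) * b := by group
      _ = b⁻¹ * (b * u' * b⁻¹) * b := by rw [ha, hb]
      _ = u' := by group
  exact ⟨_, key u _ hu hu2 hu1 (e ▸ hu'), e⟩

theorem isTop_map_conj {P E : Subgroup G} (g : G) (h : IsTop P E) :
    IsTop (P.map (MulAut.conj g).toMonoidHom) (E.map (MulAut.conj g).toMonoidHom) := by
  have hi : ∀ h : G, Function.Injective (MulAut.conj h).toMonoidHom := fun h => MulEquiv.injective (MulAut.conj h)
  refine ⟨PLocal.isElementary_map _ h.1, Subgroup.map_mono h.2.1, fun F hF hFP => ?_⟩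
  rw [Subgroup.card_map_of_injective (hi g), ← Subgroup.card_map_of_injective (hi g⁻¹) (K := F)]
  refine h.2.2 _ (PLocal.isElementary_map _ hF) ((Subgroup.map_mono hFP).trans ?_)
  rw [conj_map_map, inv_mul_cancel, conj_map_one]

section Main

variable (hL : IsCharacteristicTwoType G) (hN : ∀ N : Subgroup G, Cfsg.IsTwoLocal N → Group.IsSolvable ↥N)
  (hZ : ∀ S : Sylow 2 G, Subgroup.centralizer (Cfsg.omegaCenterOf (S : Subgroup G) : Set G) ≤
    Subgroup.normalizer ((S : Subgroup G) : Set G))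
include hL hN hZ

/-- The data of the configuration `T < P`. -/
structure Split (T : Subgroup G) (Φ : Subgroup G → Prop) (P : Sylow 2 G) (K : Subgroup G) (q : G) : Prop where
  qP : q ∈ (P : Subgroup G)
  qN : q ∈ Subgroup.normalizer (T : Set G)
  qT : q ∉ T
  q2 : q * q ∈ T
  omegaP : Nat.card ↥(omegaCenterOf (P : Subgroup G)) = 2
  omegaLe : omegaCenterOf (P : Subgroup G) ≤ zJ T
  solo : Solo T Φ K
  solo' : Solo T Φ (K.map (MulAut.conj q).toMonoidHom)
  ne : uloc T K ≠ uloc T (K.map (MulAut.conj q).toMonoidHom)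
  inf : cof T K ⊓ cof T (K.map (MulAut.conj q).toMonoidHom) = ⊥
  sep : omegaCenterOf (P : Subgroup G) ⊓ cof T K = ⊥
  qd1 : qd T K = vd T K
  qd2 : qd T (K.map (MulAut.conj q).toMonoidHom) = vd T (K.map (MulAut.conj q).toMonoidHom)
  elem : ∀ E : Subgroup G, IsElementaryAbelian 2 E → E ≤ T →
    E ≤ vd T K ∨ E ≤ vd T (K.map (MulAut.conj q).toMonoidHom)

variable {T : Subgroup G} {Φ : Subgroup G → Prop}

theorem card_le_two_of_inf {K : Subgroup G} (hF : Fam T Φ) (hK : Φ K) {B : Subgroup G} (hB : B ≤ zJ T)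
    (hcard : Nat.card B = Nat.card ↥(cof T K)) (hi : cof T K ⊓ B = ⊥) : Nat.card ↥(cof T K) ≤ 2 := by
  have h := card_sup_mul_card_inf (A := cof T K) (B := B) (fun a ha => mem_normalizer_of_conj_mem fun b hb => by
    rw [elem_comm (zJ_elem T) ha.1 (hB hb), mul_inv_cancel_right]; exact hb)
  rw [hi, Subgroup.card_bot, mul_one, hcard] at h
  have hle := Subgroup.card_le_of_le (sup_le inf_le_left hB : cof T K ⊔ B ≤ zJ T)
  rw [h, card_zJ hF.p2 (hF.comp K hK)] at hle
  exact Nat.le_of_mul_le_mul_right hle Nat.card_pos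

theorem omega_eq_of_fix {K : Subgroup G} (hF : Fam T Φ) (hK : Φ K) (hTN : T ≤ Subgroup.normalizer (K : Set G))
    (hsmall : Nat.card ↥(cof T K) ≤ 2) : omegaCenterOf T = zJ T := by
  refine le_antisymm (omega_le_zJ T) fun v hv => ?_
  refine Subgroup.subset_closure ⟨⟨thompsonOf_le' T (zJ_le T hv), fun t ht => ?_⟩, (zJ_elem T).2 v hv⟩
  have htJ := le_normalizer_thompsonOf T ht
  have hKt : K.map (MulAut.conj t).toMonoidHom = K := Local.map_conj_eq_of_mem_normalizer (hTN ht)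
  have hle : zJ T ≤ Subgroup.centralizer ({t} : Set G) := by
    rw [← cof_sup_lab hF.p2 (hF.comp K hK)]
    refine sup_le (fun c hc => ?_) (fun c hc => ?_)
    · exact Subgroup.mem_centralizer_singleton_iff.mpr
        (mul_inv_eq_iff_eq_mul.mp (fix_of_card_two hsmall (by rw [← cof_map htJ, hKt]) c hc)).symm
    · exact Subgroup.mem_centralizer_singleton_iff.mpr
        (mul_inv_eq_iff_eq_mul.mp (fix_of_card_two (lab_card hF.p2 (hF.comp K hK)).le (by rw [← lab_map htJ, hKt]) c hc)).symm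
  exact (Subgroup.mem_centralizer_singleton_iff.mp (hle hv)).symm

theorem exists_split (hF : Fam T Φ) {K : Subgroup G} (hK : Φ K) (hsyl : IsSylowTwoIn T (uloc T K)) (P : Sylow 2 G)
    (hTP : T < (P : Subgroup G)) : ∃ q, Split T Φ P K q := by
  classical
  haveI : Fact (Nat.Prime 2) := ⟨Nat.prime_two⟩
  have hPp : IsPGroup 2 ↥(P : Subgroup G) := P.isPGroup'
  obtain ⟨q0, hq0, hq0T⟩ := SetLike.exists_of_lt (exists_normalizer_gt hPp hTP)
  obtain ⟨q, hqP, hqN, hqT, hq2⟩ : ∃ q, q ∈ (P : Subgroup G) ∧ q ∈ Subgroup.normalizer (T : Set G) ∧ q ∉ T ∧ q * q ∈ T := by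
    have hex : ∃ m, q0 ^ 2 ^ m ∈ T := by
      obtain ⟨m, hm⟩ := hPp ⟨q0, hq0.1⟩
      exact ⟨m, by rw [show q0 ^ 2 ^ m = 1 from congrArg Subtype.val hm]; exact one_mem _⟩
    have hspec := Nat.find_spec hex
    rcases hm : Nat.find hex with _ | m
    · rw [hm, pow_zero, pow_one] at hspec; exact absurd hspec hq0T
    · refine ⟨q0 ^ 2 ^ m, Subgroup.pow_mem _ hq0.1 _, Subgroup.pow_mem _ hq0.2 _, Nat.find_min hex (by omega), ?_⟩
      rw [hm, pow_succ, pow_mul] at hspec
      rw [← pow_two]; exact hspec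
  have hqJ := normalizer_le_normalizer_thompson T hqN
  set K' := K.map (MulAut.conj q).toMonoidHom with hK'
  have hK'Φ : Φ K' := hF.conj K hK q hqJ
  have hjc := hF.comp K hK
  have hPU : (P : Subgroup G) ⊓ uloc T K ≤ T :=
    sylow_in_max hsyl (hPp.to_le inf_le_left) (le_inf hTP.le hsyl.1) inf_le_right
  have hne : uloc T K ≠ uloc T K' := fun e => hqT (hPU ⟨hqP, hF.mem_uloc_of_eq hL hN hZ hK hqJ e.symm⟩)
  have hinf : cof T K ⊓ cof T K' = ⊥ := (Subgroup.eq_bot_iff_forall _).mpr fun v hv => by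
    by_contra hv1
    exact hne (hF.link hL hN hZ hK hK'Φ hv.1 hv.2 hv1)
  have hsmall : Nat.card ↥(cof T K) ≤ 2 := card_le_two_of_inf hL hN hZ hF hK (B := cof T K') inf_le_left
    (by rw [hK', cof_map hqJ, Subgroup.card_map_of_injective (MulEquiv.injective (MulAut.conj q))]) hinf
  have hj := hF.local_over hL hN hZ hK (hF.uloc_local hL hN hZ hK).1 (hF.self_le hL hN hZ hK) hsyl (thompsonOf_le' T)
  have hΩ : omegaCenterOf (P : Subgroup G) ≤ zJ T :=
    ((omega_le_of_core hTP.le hsyl hj.2.2).trans inf_le_left).trans (omega_le_zJ T)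
  have hsep : omegaCenterOf (P : Subgroup G) ⊓ cof T K = ⊥ := by
    refine le_bot_iff.mp fun v hv => hinf.le ⟨hv.2, ?_⟩
    rw [hK', cof_map hqJ]
    refine ⟨v, hv.2, ?_⟩
    show q * v * q⁻¹ = v
    rw [(omegaCenterOf_le_centralizer _ hv.1) q hqP, mul_inv_cancel_right]
  have hcΩ : Nat.card ↥(omegaCenterOf (P : Subgroup G)) = 2 := by
    have hne1 := omega_ne_bot hPp (fun e => absurd (e ▸ hTP) not_lt_bot)
    haveI : Nontrivial ↥(omegaCenterOf (P : Subgroup G)) := (Subgroup.nontrivial_iff_ne_bot _).mpr hne1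
    have h1 : 1 < Nat.card ↥(omegaCenterOf (P : Subgroup G)) := Finite.one_lt_card_iff_nontrivial.mpr this
    have h := card_sup_mul_card_inf (A := omegaCenterOf (P : Subgroup G)) (B := cof T K) (fun a ha => mem_normalizer_of_conj_mem fun b hb => by
      rw [elem_comm (zJ_elem T) (hΩ ha) hb.1, mul_inv_cancel_right]; exact hb)
    rw [hsep, Subgroup.card_bot, mul_one] at h
    have hle := Subgroup.card_le_of_le (sup_le hΩ inf_le_left : omegaCenterOf (P : Subgroup G) ⊔ cof T K ≤ zJ T)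
    rw [h, card_zJ hF.p2 hjc] at hle
    have := Nat.le_of_mul_le_mul_right hle Nat.card_pos
    omega
  have hsingle : ∀ A, IsJComponent T A → A ≤ uloc T K → A = K := by
    intro A hA hAU
    by_contra hneA
    have h2 := (hF.uloc_local hL hN hZ hK).1
    have hKU := hF.self_le hL hN hZ hK
    have hJU := hF.thompson_le hL hN hZ hK
    obtain ⟨-, hlab⟩ := hF.cof_ne hL hN hZ hK h2 hKU hJU hjc hKU hA hAU (Ne.symm hneA)
    obtain ⟨-, hlab'⟩ := hF.cof_ne hL hN hZ hK h2 hKU hJU hA hAU hjc hKU hneA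
    have hcne : cof T A ≠ cof T K := fun e => hneA (hF.eq_of_cof hL hN hZ hK h2 hKU hJU hA hAU hjc hKU e)
    have hck : Nat.card ↥(cof T K) = 2 :=
      le_antisymm hsmall ((lab_card hF.p2 hA).ge.trans (Subgroup.card_le_of_le hlab'))
    have hz4 := card_zJ hF.p2 hjc
    have hcA : Nat.card ↥(cof T A) = 2 := by
      have := card_zJ hF.p2 hA
      omega
    obtain ⟨z, hzΩ, hz1⟩ : ∃ z ∈ omegaCenterOf (P : Subgroup G), z ≠ 1 := by
      by_contra h
      push Not at h
      rw [(Subgroup.eq_bot_iff_forall _).mpr h, Subgroup.card_bot] at hcΩ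
      omega
    have hzA : z ∉ cof T A := by
      intro hzA
      have hAP : A ≤ Subgroup.normalizer ((P : Subgroup G) : Set G) := fun a ha => hZ P (by
        rw [centralizer_eq_of_card_two hcΩ hzΩ hz1]
        exact Subgroup.mem_centralizer_singleton_iff.mpr (hzA.2 a ha))
      refine comp_not_normalize hF.p2 hA fun a ha => normalizer_le_normalizer_thompson T ?_
      refine mem_normalizer_of_conj_mem fun t ht => hPU ⟨conj_mem' (hAP ha) (hTP.le ht), ?_⟩
      exact (uloc T K).mul_mem ((uloc T K).mul_mem (hAU ha) (hsyl.1 ht)) ((uloc T K).inv_mem (hAU ha))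
    have hzK : z ∉ cof T K := fun h => hz1 (Subgroup.mem_bot.mp (hsep ▸ ⟨hzΩ, h⟩ : z ∈ (⊥ : Subgroup G)))
    -- the three subgroups of order two
    have hcK' : Nat.card ↥(cof T K') = 2 := by
      rw [hK', cof_map hqJ, Subgroup.card_map_of_injective (MulEquiv.injective (MulAut.conj q))]; exact hck
    have hsupA : cof T K ⊔ cof T A = zJ T := by
      refine Subgroup.eq_of_le_of_card_ge (sup_le inf_le_left inf_le_left) ?_
      have h := card_sup_mul_card_inf (A := cof T K) (B := cof T A) (fun a ha => mem_normalizer_of_conj_mem fun b hb => by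
        rw [elem_comm (zJ_elem T) ha.1 hb.1, mul_inv_cancel_right]; exact hb)
      have hb : cof T K ⊓ cof T A = ⊥ := (Subgroup.eq_bot_iff_forall _).mpr fun v hv => by
        by_contra hv1
        exact hcne (card_two_eq hcA hck hv.2 hv.1 hv1)
      rw [hb, Subgroup.card_bot, hck, hcA] at h
      omega
    obtain ⟨v, hvK', hv1⟩ : ∃ v ∈ cof T K', v ≠ 1 := by
      by_contra h
      push Not at h
      rw [(Subgroup.eq_bot_iff_forall _).mpr h, Subgroup.card_bot] at hcK'
      omega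
    have hdec : ∀ y ∈ zJ T, ∃ a ∈ cof T K, ∃ b ∈ cof T A, y = a * b := fun y hy => by
      have hy' : y ∈ ((cof T K ⊔ cof T A : Subgroup G) : Set G) := hsupA.ge hy
      rw [Subgroup.coe_mul_of_right_le_normalizer_left _ _ (fun b hb => mem_normalizer_of_conj_mem fun a ha => by
        rw [elem_comm (zJ_elem T) hb.1 ha.1, mul_inv_cancel_right]; exact ha)] at hy'
      obtain ⟨a, ha, b, hb, rfl⟩ := hy'
      exact ⟨a, ha, b, hb, rfl⟩
    obtain ⟨a, ha, ha1⟩ : ∃ a ∈ cof T K, a ≠ 1 := by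
      by_contra h
      push Not at h
      rw [(Subgroup.eq_bot_iff_forall _).mpr h, Subgroup.card_bot] at hck
      omega
    obtain ⟨b, hb, hb1⟩ : ∃ b ∈ cof T A, b ≠ 1 := by
      by_contra h
      push Not at h
      rw [(Subgroup.eq_bot_iff_forall _).mpr h, Subgroup.card_bot] at hcA
      omega
    have hlist : ∀ y ∈ zJ T, y ∉ cof T K → y ∉ cof T A → y = a * b := by
      intro y hy hyK hyA
      obtain ⟨a', ha', b', hb', rfl⟩ := hdec y hy
      rcases card_two_mem hck ha ha1 a' ha' with rfl | rfl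
      · exact absurd (by rw [one_mul]; exact hb') hyA
      rcases card_two_mem hcA hb hb1 b' hb' with rfl | rfl
      · exact absurd (by rw [mul_one]; exact ha') hyK
      · rfl
    have hvK : v ∉ cof T K := fun h => hv1 (Subgroup.mem_bot.mp (hinf ▸ ⟨h, hvK'⟩ : v ∈ (⊥ : Subgroup G)))
    by_cases hvA : v ∈ cof T A
    · have heq : cof T A = cof T K' := card_two_eq hcA hcK' hvA hvK' hv1
      have hAK' := hF.eq_of_cof' hL hN hZ hK'Φ hA (hF.comp K' hK'Φ) hv1 hvK' hvA hvK' heq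
      exact hne (hF.uloc_eq hL hN hZ hK hK'Φ h2 hKU (hAK' ▸ hAU) hJU)
    · have hzv : z = v := (hlist z (hΩ hzΩ) hzK hzA).trans (hlist v hvK'.1 hvK hvA).symm
      refine hzK ?_
      have hvK2 : z ∈ cof T K' := hzv ▸ hvK'
      rw [hK', cof_map hqJ] at hvK2
      obtain ⟨d, hd, hdz⟩ := hvK2
      have hfix : q * z * q⁻¹ = z := by rw [(omegaCenterOf_le_centralizer _ hzΩ) q hqP, mul_inv_cancel_right]
      have : d = z := (MulAut.conj q).injective (hdz.trans hfix.symm)
      exact this ▸ hd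
  have hsolo : Solo T Φ K := ⟨hK, hsyl, hsingle, hsmall,
    omega_eq_of_fix hL hN hZ hF hK (hsyl.1.trans (hF.uloc_le_normalizer hL hN hZ hK hsingle)) hsmall⟩
  have hsolo' : Solo T Φ K' := by
    refine ⟨hK'Φ, hF.syl_map hL hN hZ hK hsyl hqN, fun A hA hAU => ?_, ?_, hsolo.omega⟩
    · have hAU' : A.map (MulAut.conj q⁻¹).toMonoidHom ≤ uloc T K := by
        rw [← hF.uloc_map hL hN hZ hK hqJ] at hAU
        have := Subgroup.map_mono (f := (MulAut.conj q⁻¹).toMonoidHom) hAU
        rwa [conj_map_map, inv_mul_cancel, conj_map_one] at this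
      have e := hsingle _ (isJComponent_conj (inv_mem hqJ) hA) hAU'
      rw [hK', ← e, conj_map_map, mul_inv_cancel, conj_map_one]
    · rw [hK', cof_map hqJ, Subgroup.card_map_of_injective (MulEquiv.injective (MulAut.conj q))]; exact hsmall
  have hTK : T ≤ Subgroup.normalizer (K : Set G) := hsyl.1.trans (hF.uloc_le_normalizer hL hN hZ hK hsingle)
  have hback : K'.map (MulAut.conj q).toMonoidHom = K := by
    rw [hK', conj_map_map, Local.map_conj_eq_of_mem_normalizer (hTK hq2)]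
  have hlab' : ∀ A, lk T (A.map (MulAut.conj q).toMonoidHom) = (lk T A).map (MulAut.conj q).toMonoidHom := fun A => by
    have h := lab_map hqJ A
    simpa only [lk, lab, hsolo.omega] using h
  have hcof' : ∀ A, ck T (A.map (MulAut.conj q).toMonoidHom) = (ck T A).map (MulAut.conj q).toMonoidHom := fun A => by
    have h := cof_map hqJ A
    simpa only [ck, cof, hsolo.omega] using h
  have h3 : Third T K K' := fun g h1 h2 _ _ _ _ => h2 (by
    have := congrArg (Subgroup.map (MulAut.conj q).toMonoidHom) h1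
    rwa [← hlab', ← hcof', hback, ← hK'] at this)
  have h3' : Third T K' K := fun g h1 h2 _ _ _ _ => h2 (by
    have := congrArg (Subgroup.map (MulAut.conj q).toMonoidHom) h1
    rwa [← hlab', ← hcof', hback, ← hK'] at this)
  obtain ⟨e1, e2, e3⟩ := pair_one hL hN hZ hF hsolo hsolo' hne h3 h3'
  exact ⟨q, hqP, hqN, hqT, hq2, hcΩ, hΩ, hsolo, hsolo', hne, hinf, hsep, e1, e2, e3⟩

/-- An element of `P` almost central modulo `Ω₁Z(P)` is central in `T`. -/
theorem split_almost_central (hF : Fam T Φ) {K : Subgroup G} {P : Sylow 2 G} {q : G} (hTP : T < (P : Subgroup G))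
    (h : Split T Φ P K q) {f : G} (hfP : f ∈ (P : Subgroup G))
    (hfc : ∀ t ∈ (P : Subgroup G), t * f * t⁻¹ * f⁻¹ ∈ omegaCenterOf (P : Subgroup G)) (hf2 : f * f = 1) :
    f ∈ omegaCenterOf T := by
  set K' := K.map (MulAut.conj q).toMonoidHom with hK'
  have hP1 := h.solo.par hL hN hZ hF
  have hP2 := h.solo'.par hL hN hZ hF
  set Ω := omegaCenterOf (P : Subgroup G) with hΩ
  have hΩT : Ω ≤ omegaCenterOf T := h.omegaLe.trans h.solo.omega.ge
  have hfTN : f ∈ Subgroup.normalizer (T : Set G) := mem_normalizer_of_conj_mem fun t ht => by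
    have hc := inv_mem (hfc t (hTP.le ht))
    have : f * t * f⁻¹ = (t * f * t⁻¹ * f⁻¹)⁻¹ * t := by group
    rw [this]; exact T.mul_mem (omegaCenterOf_le T (hΩT hc)) ht
  have hfV : f ∈ Subgroup.normalizer (vd T K : Set G) := mem_normalizer_of_conj_mem fun v hv => by
    have hc := inv_mem (hfc v (hTP.le (hP1.v_le_T hv)))
    have : f * v * f⁻¹ = (v * f * v⁻¹ * f⁻¹)⁻¹ * v := by group
    rw [this]; exact mul_mem (hP1.z_le (hΩT hc)) hv
  have hVne : vd T K ≠ ⊥ := vd_ne_bot (K := fun _ : Bool => K) (fun _ => hP1) true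
  have hVloc := isTwoLocal_normalizer (hF.p2.to_le hP1.v_le_T) hVne
  have hfU : f ∈ uloc T K := hF.le_uloc hL hN hZ h.solo.phi hVloc
    ((sup_le_sup le_rfl (thompsonOf_le' T)).trans hP1.v_normal) hfV
  have hfT : f ∈ T :=
    sylow_in_max h.solo.syl (P.isPGroup'.to_le inf_le_left) (le_inf hTP.le h.solo.syl.1) inf_le_right ⟨hfP, hfU⟩
  set E := Subgroup.zpowers f with hE
  have hEel : IsElementaryAbelian 2 E := elem_of_sq E fun a ha => by
    obtain ⟨i, rfl⟩ := Subgroup.mem_zpowers_iff.mp ha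
    rw [← (Commute.refl f).mul_zpow, hf2, one_zpow]
  have hqf : ∀ {A B : Subgroup G}, B = A.map (MulAut.conj q).toMonoidHom → Ω ≤ B → f ∈ A → f ∈ B := by
    intro A B hB hΩB hfA
    have h1 : q * f * q⁻¹ ∈ B := hB ▸ ⟨f, hfA, rfl⟩
    have h2 := mul_mem (inv_mem (hΩB (hfc q h.qP))) h1
    rwa [show (q * f * q⁻¹ * f⁻¹)⁻¹ * (q * f * q⁻¹) = f by group] at h2
  have hqJ := normalizer_le_normalizer_thompson T h.qN
  have hmap : vd T K' = (vd T K).map (MulAut.conj q).toMonoidHom := h.solo.vd_map hL hN hZ hqJ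
  have hmap' : vd T K = (vd T K').map (MulAut.conj q).toMonoidHom := by
    rw [← h.solo'.vd_map hL hN hZ hqJ, conj_map_map,
      Local.map_conj_eq_of_mem_normalizer (hP1.norm h.q2)]
  have hboth : f ∈ vd T K ∧ f ∈ vd T K' := by
    rcases h.elem E hEel (Subgroup.zpowers_le.mpr hfT) with he | he
    · exact ⟨he (Subgroup.mem_zpowers f), hqf hmap (hΩT.trans hP2.z_le) (he (Subgroup.mem_zpowers f))⟩
    · exact ⟨hqf hmap' (hΩT.trans hP1.z_le) (he (Subgroup.mem_zpowers f)), he (Subgroup.mem_zpowers f)⟩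
  by_contra hfz
  have hle : qd T K' ≤ qd T K := fun t ht => by
    by_contra htq
    exact hP1.moved ht.1 htq hboth.1 hfz (hP2.q_fix ht hboth.2)
  have heq : vd T K' = vd T K := Subgroup.eq_of_le_of_card_ge (by rw [← h.qd1, ← h.qd2]; exact hle)
    (by rw [hmap, Subgroup.card_map_of_injective (MulEquiv.injective (MulAut.conj q))])
  have hcore := hF.nocore hL hN hZ h.solo.phi h.solo'.phi h.ne
  refine hVne (hcore (vd T K) hP1.v_le_T fun i => ?_)
  cases i
  · rw [← heq]; exact hP2.v_normal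
  · exact hP1.v_normal

variable (hO : pCore 2 G = ⊥)

omit hL hN hZ in
theorem sylow_in_of_le (P : Sylow 2 G) {L : Subgroup G} (h : (P : Subgroup G) ≤ L) :
    IsSylowTwoIn (P : Subgroup G) L := by
  haveI : Fact (Nat.Prime 2) := ⟨Nat.prime_two⟩
  refine ⟨h, P.isPGroup', ?_⟩
  rw [← Nat.not_even_iff_odd, even_iff_two_dvd]
  exact fun h2 => P.not_dvd_index (h2.trans (Subgroup.relIndex_dvd_index_of_le h))

/-- For a Sylow subgroup the members with trivial fixed part are unique in their locals. -/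
theorem single_of_cof_bot (hF : Fam T Φ) {K : Subgroup G} (hK : Φ K) (h : cof T K = ⊥) :
    ∀ A, IsJComponent T A → A ≤ uloc T K → A = K := by
  intro A hA hAU
  by_contra hne
  have h2 := (hF.uloc_local hL hN hZ hK).1
  have hKU := hF.self_le hL hN hZ hK
  obtain ⟨-, hlab⟩ := hF.cof_ne hL hN hZ hK h2 hKU (hF.thompson_le hL hN hZ hK) hA hAU (hF.comp K hK) hKU hne
  have hc := lab_card hF.p2 hA
  rw [le_bot_iff.mp (hlab.trans h.le), Subgroup.card_bot] at hc
  omega

theorem four_witness (hF : Fam T Φ) {K : Subgroup G} (hK : Φ K) {P : Subgroup G} (hTP : T ≤ P)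
    (hPK : P ≤ Subgroup.normalizer (K : Set G)) (hWP : wOf K ≤ P) {Ω : Subgroup G} (hΩ : Ω = lab T K)
    (hΩP : ∀ t ∈ P, ∀ w ∈ Ω, t * w * t⁻¹ = w) :
    ∃ x ∈ K, ∃ z ∈ Ω, z ≠ 1 ∧ x * z * x⁻¹ ∈ P ∧ x * z * x⁻¹ ∉ Ω ∧ (x * z * x⁻¹) * (x * z * x⁻¹) = 1 ∧
      ∀ t ∈ P, t * (x * z * x⁻¹) * t⁻¹ * (x * z * x⁻¹)⁻¹ ∈ Ω := by
  subst hΩ
  obtain ⟨-, -, hidx, -, hW4, hW2⟩ := hF.comp K hK
  obtain ⟨x, hxK, -, -, hsum⟩ := exists_fpf hidx
  have hc := lab_card hF.p2 (hF.comp K hK)
  haveI : Nontrivial ↥(lab T K) := Finite.one_lt_card_iff_nontrivial.mp (by rw [hc]; norm_num)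
  obtain ⟨⟨z, hz⟩, hz1'⟩ := exists_ne (1 : ↥(lab T K))
  have hz1 : z ≠ 1 := fun e => hz1' (Subtype.ext e)
  have hWel : IsElementaryAbelian 2 (wOf K) := elem_of_sq _ hW2
  have hxW : ∀ w ∈ wOf K, cj x w ∈ wOf K := fun w hw => conj_mem' (wOf_conj (Subgroup.le_normalizer hxK)) hw
  obtain ⟨hne, hxx, hlist⟩ := four_elems hWel hW4 hxW hsum hz.2 hz1
  have hne1 : cj x z ≠ 1 := fun e => hz1 (conj_eq_one_iff.mp e)
  refine ⟨x, hxK, z, hz, hz1, hWP (hxW z hz.2), fun h => ?_, hW2 _ (hxW z hz.2), fun t ht => ?_⟩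
  · rcases card_two_mem hc hz hz1 _ h with e | e
    · exact hne1 e
    · exact hne e
  have htz : cj t z = z := hΩP t ht z hz
  have hm : cj t (cj x z) ∈ wOf K := conj_mem' (wOf_conj (hPK ht)) (hxW z hz.2)
  show cj t (cj x z) * (cj x z)⁻¹ ∈ lab T K
  rcases hlist _ hm with e | e | e | e
  · exact absurd (conj_eq_one_iff.mp e) hne1
  · exact absurd ((MulAut.conj t).injective (e.trans htz.symm)) hne
  · rw [e, mul_inv_cancel]; exact one_mem _
  · rw [e, hxx, mul_inv_cancel_right]; exact hz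

include hO in
/-- Some component lies outside the maximal 2-local of a given one. -/
theorem no_closed (P : Sylow 2 G) {K : Subgroup G} (hK : IsJComponent (P : Subgroup G) K)
    (hPU : (P : Subgroup G) ≤ uloc (P : Subgroup G) K)
    (hall : ∀ A, IsJComponent (P : Subgroup G) A → A ≤ uloc (P : Subgroup G) K) : False := by
  classical
  haveI : Fact (Nat.Prime 2) := ⟨Nat.prime_two⟩
  set T0 := (P : Subgroup G) with hT0
  have hne : T0 ≠ ⊥ := fun e => by
    refine comp_not_normalize P.isPGroup' hK fun k hk => ?_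
    rw [show thompsonSubgroupOf 2 (P : Subgroup G) = ⊥ from le_bot_iff.mp (e ▸ thompsonOf_le' _),
      Subgroup.normalizer_eq_top]
    exact Subgroup.mem_top _
  have hF : Fam T0 (fun A => IsJComponent T0 A) := fam_sylow hL hN hZ P hne
  set U := uloc T0 K with hU
  have hU2 := (hF.uloc_local hL hN hZ hK).1
  have hKU := hF.self_le hL hN hZ hK
  have hPUs := sylow_in_of_le P hPU
  have hj := hF.local_over hL hN hZ hK hU2 hKU hPUs (thompsonOf_le' _)
  have hNJ : Subgroup.normalizer (thompsonSubgroupOf 2 T0 : Set G) ≤ U := fun g hg =>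
    hF.mem_uloc_of_eq hL hN hZ hK hg (hF.uloc_eq hL hN hZ (isJComponent_conj hg hK) hK hU2
      (hall _ (isJComponent_conj hg hK)) hKU (hF.thompson_le hL hN hZ hK))
  by_cases hemp : straddlingTwoSubgroups U = ∅
  · have hse := (stronglyEmbedded_iff hO hU2 hNJ).mpr hemp
    obtain ⟨z, hz, hz1⟩ : ∃ z ∈ omegaCenterOf T0, z ≠ 1 := by
      by_contra h
      push Not at h
      exact omega_ne_bot P.isPGroup' hne ((Subgroup.eq_bot_iff_forall _).mpr h)
    have hzO : z ∈ pCoreOf 2 U := (omega_le_of_core le_rfl hPUs hj.2.2 hz).2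
    obtain ⟨E, hE, hEO⟩ : ∃ E, IsTop T0 E ∧ ¬ E ≤ pCoreOf 2 U := by
      by_contra h
      push Not at h
      exact hj.2.1 (thompsonOf_le_iff.mpr h)
    obtain ⟨a, ha, haO⟩ := SetLike.not_le_iff_exists.mp hEO
    have ha1 : a ≠ 1 := fun e => haO (e ▸ one_mem _)
    obtain ⟨g, hg, hgz⟩ := se_involutions hse (pCoreOf_le' U hzO)
      (elem_sq (omegaCenterOf_elem _) hz) hz1 (hPU (hE.2.1 ha)) (elem_sq hE.1 ha) ha1
    exact haO (hgz ▸ conj_mem' (le_normalizer_pCoreOf' U hg) hzO)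
  -- the measure
  set N := Nat.card G + 1 with hNdef
  let fm : Subgroup G → ℕ := fun A =>
    maxElemAbelianOrder A * (N * N) + Nat.card ↥(thompsonSubgroupOf 2 A) * N + Nat.card A
  obtain ⟨T1, hT1s, hT1P, hmax⟩ : ∃ T1, T1 ∈ straddlingTwoSubgroups U ∧ T1 ≤ T0 ∧
      ∀ A ∈ straddlingTwoSubgroups U, fm A ≤ fm T1 := by
    have hconj : ∀ A ∈ straddlingTwoSubgroups U, ∃ B ∈ straddlingTwoSubgroups U, B ≤ T0 ∧ fm A = fm B := by
      rintro A ⟨hAp, hA1, hAU, L, hL2, hAL, hLU⟩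
      obtain ⟨l, hl, hlA⟩ := exists_conj_le hPUs hAp hAU
      have hi : Function.Injective (MulAut.conj l).toMonoidHom := MulEquiv.injective (MulAut.conj l)
      obtain ⟨Q, hQ, hQ1, rfl⟩ := hL2
      refine ⟨A.map (MulAut.conj l).toMonoidHom, ⟨hAp.map _, fun e => hA1 ((Subgroup.map_eq_bot_iff_of_injective _ hi).mp e),
        hlA.trans hPU, (Subgroup.normalizer (Q : Set G)).map (MulAut.conj l).toMonoidHom, ?_, Subgroup.map_mono hAL, fun h => hLU ?_⟩,
        hlA, ?_⟩
      · rw [normalizer_map_conj]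
        exact isTwoLocal_normalizer (hQ.map _) fun e => hQ1 ((Subgroup.map_eq_bot_iff_of_injective _ hi).mp e)
      · intro y hy
        have := U.mul_mem (U.mul_mem (U.inv_mem hl) (h ⟨y, hy, rfl⟩)) hl
        simpa [mul_assoc] using this
      · obtain ⟨E, hE⟩ := exists_top A
        show maxElemAbelianOrder A * (N * N) + _ * N + _ = maxElemAbelianOrder _ * (N * N) + _ * N + _
        rw [maxElemAbelianOrder_eq hE, maxElemAbelianOrder_eq (isTop_map_conj l hE), thompsonOf_map _ hi,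
          Subgroup.card_map_of_injective hi, Subgroup.card_map_of_injective hi, Subgroup.card_map_of_injective hi]
    obtain ⟨A0, hA0⟩ := Set.nonempty_iff_ne_empty.mpr hemp
    obtain ⟨B0, hB0, hB0P, -⟩ := hconj A0 hA0
    obtain ⟨T1, ⟨h1, h2⟩, h3⟩ := Set.exists_max_image {B | B ∈ straddlingTwoSubgroups U ∧ B ≤ T0} fm (Set.toFinite _)
      ⟨B0, hB0, hB0P⟩
    refine ⟨T1, h1, h2, fun A hA => ?_⟩
    obtain ⟨B, hB, hBP, e⟩ := hconj A hA
    rw [e]; exact h3 B ⟨hB, hBP⟩
  have hT1max : T1 ∈ maxStraddlingTwoSubgroups U := by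
    refine ⟨hT1s, fun A hA => ?_⟩
    have h := hmax A hA
    have hb : ∀ B : Subgroup G, Nat.card B < N := fun B => by
      have := Subgroup.card_le_card_group B
      omega
    have hJ1 := hb (thompsonSubgroupOf 2 T1)
    have hJA := hb (thompsonSubgroupOf 2 A)
    have hT1b := hb T1
    have hAb := hb A
    simp only [fm] at h
    refine ⟨?_, fun he => ⟨?_, fun hj2 => ?_⟩⟩
    · by_contra hlt
      push Not at hlt
      have h5 : (maxElemAbelianOrder T1 + 1) * (N * N) ≤ maxElemAbelianOrder A * (N * N) := Nat.mul_le_mul_right _ hlt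
      nlinarith
    · rw [he] at h
      by_contra hlt
      push Not at hlt
      have h5 : (Nat.card ↥(thompsonSubgroupOf 2 T1) + 1) * N ≤ Nat.card ↥(thompsonSubgroupOf 2 A) * N :=
        Nat.mul_le_mul_right _ hlt
      nlinarith
    · rw [he, hj2] at h; omega
  obtain ⟨K1, hK1⟩ := outside_nonempty hL hN hZ P hNJ hT1max
  have hJne : thompsonSubgroupOf 2 T1 ≠ thompsonSubgroupOf 2 T0 := fun e =>
    hK1.2.1 (hall K1 (isJComponent_congr e.symm hK1.1.1))
  have hlt : T1 < T0 := lt_of_le_of_ne hT1P fun e => hJne (by rw [e])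
  have hF1 := fam_outside hL hN hZ P hNJ hT1max
  have hΦ1 : IsJComponent T1 K1 ∧ ¬ K1 ≤ U := ⟨hK1.1.1, hK1.2.1⟩
  obtain ⟨-, hj1⟩ := uloc_sylow hL hN hZ P hNJ hT1max hK1
  obtain ⟨q, hS⟩ := exists_split hL hN hZ hF1 hΦ1 hj1.1 P hlt
  set Ω := omegaCenterOf T0 with hΩ
  -- an element almost central modulo `Ω`
  obtain ⟨f, hfP, hfc, hf2, hfΩ, hfcase⟩ : ∃ f ∈ T0, (∀ t ∈ T0, t * f * t⁻¹ * f⁻¹ ∈ Ω) ∧ f * f = 1 ∧ f ∉ Ω ∧
      (f ∈ zJ T0 ∨ ∃ x z : G, z ∈ Ω ∧ z ≠ 1 ∧ f = x * z * x⁻¹) := by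
    by_cases hz4 : Ω = zJ T0
    · have hcof : cof T0 K = ⊥ := by
        refine Subgroup.eq_bot_of_card_eq _ ?_
        have h := card_zJ (T := T0) P.isPGroup' hK
        have hω : Nat.card ↥(zJ T0) = 2 := by rw [← hz4]; exact hS.omegaP
        omega
      have hsingle := single_of_cof_bot hL hN hZ hF hK hcof
      have hPK : T0 ≤ Subgroup.normalizer (K : Set G) := hPU.trans (hF.uloc_le_normalizer hL hN hZ hK hsingle)
      have hlab : Ω = lab T0 K := by
        refine (Subgroup.eq_of_le_of_card_ge (show lab T0 K ≤ Ω from hz4 ▸ inf_le_left) ?_).symm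
        rw [lab_card P.isPGroup' hK]; exact hS.omegaP.le
      have hWP : wOf K ≤ T0 := by
        have hpar := par_of hL hN hZ hF hK hPUs hPK hz4
        exact hpar.w_le
      obtain ⟨x, -, z, hz, hz1, h1, h2, h3, h4⟩ := four_witness hL hN hZ hF hK le_rfl hPK hWP hlab
        (fun t ht w hw => by rw [(omegaCenterOf_le_centralizer _ hw) t ht, mul_inv_cancel_right])
      exact ⟨_, h1, h4, h3, h2, Or.inr ⟨x, z, hz, hz1, rfl⟩⟩
    · haveI : Group.IsNilpotent ↥T0 := P.isPGroup'.isNilpotent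
      have hzT : zJ T0 ≤ T0 := (zJ_le T0).trans (thompsonOf_le' T0)
      have hΩT : Ω ≤ T0 := omegaCenterOf_le T0
      haveI : (Ω.subgroupOf T0).Normal := (Subgroup.normal_subgroupOf_iff_le_normalizer hΩT).mpr
        fun t ht => mem_normalizer_of_conj_mem fun w hw => by
          rw [(omegaCenterOf_le_centralizer _ hw) t ht, mul_inv_cancel_right]; exact hw
      haveI : ((zJ T0).subgroupOf T0).Normal := (Subgroup.normal_subgroupOf_iff_le_normalizer hzT).mpr
        fun t ht => omegaCenterOf_conj (le_normalizer_thompsonOf T0 ht)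
      set π := QuotientGroup.mk' (Ω.subgroupOf T0) with hπ
      haveI : (((zJ T0).subgroupOf T0).map π).Normal := Subgroup.Normal.map inferInstance _ (QuotientGroup.mk'_surjective _)
      haveI : Group.IsNilpotent (↥T0 ⧸ Ω.subgroupOf T0) :=
        (P.isPGroup'.to_quotient (Ω.subgroupOf T0)).isNilpotent
      have hne' : ((zJ T0).subgroupOf T0).map π ≠ ⊥ := by
        intro e
        refine hz4 (le_antisymm (omega_le_zJ T0) fun y hy => ?_)
        have h : π ⟨y, hzT hy⟩ ∈ ((zJ T0).subgroupOf T0).map π := ⟨⟨y, hzT hy⟩, hy, rfl⟩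
        rw [e, Subgroup.mem_bot] at h
        exact Subgroup.mem_subgroupOf.mp ((QuotientGroup.eq_one_iff _).mp h)
      obtain ⟨⟨y, hy⟩, hy1⟩ := Subgroup.ne_bot_iff_exists_ne_one.mp (CfsgLib.inf_center_ne_bot_of_nilpotent hne')
      obtain ⟨⟨f, hf, rfl⟩, hcen⟩ := hy
      refine ⟨f, f.2, fun t ht => ?_, elem_sq (zJ_elem T0) hf, fun h => hy1 ?_, Or.inl hf⟩
      · have h := Subgroup.mem_center_iff.mp hcen (π ⟨t, ht⟩)
        have h' : π (⟨t, ht⟩ * f * (⟨t, ht⟩ : ↥T0)⁻¹ * f⁻¹) = 1 := by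
          rw [map_mul, map_mul, map_mul, map_inv, map_inv, h, mul_inv_cancel_right, mul_inv_cancel]
        exact Subgroup.mem_subgroupOf.mp ((QuotientGroup.eq_one_iff _).mp h')
      · exact Subtype.ext ((QuotientGroup.eq_one_iff f).mpr h)
  have hfZ := split_almost_central hL hN hZ hF1 hlt hS hfP hfc hf2
  -- `f` is centralised by a component outside `U`
  obtain ⟨K0, hK0, hfK0⟩ : ∃ K0, (IsJComponent T1 K0 ∧ ¬ K0 ≤ U) ∧ f ∈ cof T1 K0 := by
    have hfz : f ∈ zJ T1 := hS.solo.omega ▸ hfZ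
    have hqJ := normalizer_le_normalizer_thompson T1 hS.qN
    have hsup : cof T1 K1 ⊔ Ω = zJ T1 := by
      refine Subgroup.eq_of_le_of_card_ge (sup_le inf_le_left hS.omegaLe) ?_
      have h := card_sup_mul_card_inf (A := cof T1 K1) (B := Ω) (fun a ha => mem_normalizer_of_conj_mem fun b hb => by
        rw [elem_comm (zJ_elem T1) ha.1 (hS.omegaLe hb), mul_inv_cancel_right]; exact hb)
      rw [inf_comm, hS.sep, Subgroup.card_bot, mul_one, hS.omegaP] at h
      rw [h, card_zJ hF1.p2 hΦ1.1, mul_comm]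
    have hdec : ∀ y ∈ zJ T1, ∃ a ∈ cof T1 K1, ∃ b ∈ Ω, y = a * b := fun y hy => by
      have hy' : y ∈ ((cof T1 K1 ⊔ Ω : Subgroup G) : Set G) := hsup.ge hy
      rw [Subgroup.coe_mul_of_right_le_normalizer_left _ _ (fun b hb => mem_normalizer_of_conj_mem fun a ha => by
        rw [elem_comm (zJ_elem T1) (hS.omegaLe hb) ha.1, mul_inv_cancel_right]; exact ha)] at hy'
      obtain ⟨a, ha, b, hb, rfl⟩ := hy'
      exact ⟨a, ha, b, hb, rfl⟩
    obtain ⟨a, ha, b, hb, hfab⟩ := hdec f hfz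
    have ha1 : a ≠ 1 := fun e => hfΩ (by rw [hfab, e, one_mul]; exact hb)
    have hca : Nat.card ↥(cof T1 K1) = 2 := by
      haveI : Nontrivial ↥(cof T1 K1) := ⟨⟨⟨a, ha⟩, 1, fun e => ha1 (congrArg Subtype.val e)⟩⟩
      have := Finite.one_lt_card_iff_nontrivial.mpr this
      have := hS.solo.small
      omega
    by_cases hb1 : b = 1
    · exact ⟨K1, hΦ1, by rw [hfab, hb1, mul_one]; exact ha⟩
    refine ⟨_, hS.solo'.phi, ?_⟩
    rw [cof_map hqJ]
    refine ⟨a, ha, ?_⟩
    show q * a * q⁻¹ = f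
    have hqa : q * a * q⁻¹ ∈ zJ T1 := (zJ_map hqJ).le ⟨a, ha.1, rfl⟩
    obtain ⟨a', ha', b', hb', e⟩ := hdec _ hqa
    have ha'1 : a' ≠ 1 := by
      intro e1
      refine ha1 (Subgroup.mem_bot.mp (hS.sep ▸ ⟨?_, ha⟩ : a ∈ (⊥ : Subgroup G)))
      rw [e1, one_mul] at e
      have : a = b' := by
        have hfix : q * b' * q⁻¹ = b' := by rw [(omegaCenterOf_le_centralizer _ hb') q hS.qP, mul_inv_cancel_right]
        exact (MulAut.conj q).injective (e.trans hfix.symm)
      exact this ▸ hb'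
    have hb'1 : b' ≠ 1 := by
      intro e1
      rw [e1, mul_one] at e
      refine ha1 ?_
      have h1 : q * a * q⁻¹ ∈ cof T1 K1 ⊓ cof T1 (K1.map (MulAut.conj q).toMonoidHom) := by
        refine ⟨e ▸ ha', ?_⟩
        rw [cof_map hqJ]; exact ⟨a, ha, rfl⟩
      rw [hS.inf, Subgroup.mem_bot] at h1
      exact conj_eq_one_iff.mp h1
    rw [e, hfab, (card_two_mem hca ha ha1 a' ha').resolve_left ha'1,
      (card_two_mem hS.omegaP hb hb1 b' hb').resolve_left hb'1]
  have hf1 : f ≠ 1 := fun e => hfΩ (e ▸ one_mem _)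
  have hCloc := centralizer_local hf2 hf1
  have hK0C : K0 ≤ Subgroup.centralizer ({f} : Set G) := fun k hk =>
    Subgroup.mem_centralizer_singleton_iff.mpr (hfK0.2 k hk)
  have hJC : thompsonSubgroupOf 2 T1 ≤ Subgroup.centralizer ({f} : Set G) := fun j hj =>
    Subgroup.mem_centralizer_singleton_iff.mpr (zJ_comm T1 hfK0.1 j hj)
  rcases hfcase with hfzJ | ⟨x, z, hz, hz1, hfx⟩
  · set C0 := T0 ⊓ Subgroup.centralizer ({f} : Set G) with hC0
    have hJ0 : thompsonSubgroupOf 2 T0 ≤ C0 := le_inf (thompsonOf_le' T0) fun j hj =>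
      Subgroup.mem_centralizer_singleton_iff.mpr (zJ_comm T0 hfzJ j hj)
    have hC0s : C0 ∈ straddlingTwoSubgroups U := ⟨P.isPGroup'.to_le inf_le_left,
      fun e => thompson_ne_bot P.isPGroup' hne (le_bot_iff.mp (e ▸ hJ0)), inf_le_left.trans hPU, _, hCloc, inf_le_right,
      fun h => hK0.2 (hK0C.trans h)⟩
    obtain ⟨E, hE⟩ := exists_top T0
    obtain ⟨E1, hE1⟩ := exists_top T1
    have hEC : IsTop C0 E := ⟨hE.1, (top_le hE).trans hJ0, fun F hF hFC => hE.2.2 F hF (hFC.trans inf_le_left)⟩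
    obtain ⟨m1, m2⟩ := hT1max.2 C0 hC0s
    rw [maxElemAbelianOrder_eq hEC, maxElemAbelianOrder_eq hE1] at m1 m2
    have heq : Nat.card E = Nat.card E1 := le_antisymm m1 (hE.2.2 E1 hE1.1 (hE1.2.1.trans hT1P))
    have hle1 : thompsonSubgroupOf 2 T1 ≤ thompsonSubgroupOf 2 T0 :=
      thompsonOf_mono ((thompsonOf_le' T1).trans hT1P) fun F hF hFT => ⟨E1, hE1.1, hE1.2.1, heq ▸ hE.2.2 F hF hFT⟩
    have hJC0 : thompsonSubgroupOf 2 C0 = thompsonSubgroupOf 2 T0 :=
      thompson_eq (L := U) hPUs (P.isPGroup'.to_le inf_le_left) (inf_le_left.trans hPU) hJ0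
    have hc := (m2 heq).1
    rw [hJC0] at hc
    exact hJne (Subgroup.eq_of_le_of_card_ge hle1 hc)
  · set P' := (x • P : Sylow 2 G) with hP'
    have hCN : Subgroup.centralizer ({f} : Set G) ≤ Subgroup.normalizer ((P' : Subgroup G) : Set G) := by
      intro g hg
      have hg' : x⁻¹ * g * x ∈ Subgroup.normalizer (T0 : Set G) := hZ P (by
        rw [centralizer_eq_of_card_two hS.omegaP hz hz1, Subgroup.mem_centralizer_singleton_iff]
        have h := Subgroup.mem_centralizer_singleton_iff.mp hg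
        rw [hfx] at h
        calc x⁻¹ * g * x * z = x⁻¹ * (g * (x * z * x⁻¹)) * x := by group
          _ = x⁻¹ * ((x * z * x⁻¹) * g) * x := by rw [h]
          _ = z * (x⁻¹ * g * x) := by group)
      have hcoe : (P' : Subgroup G) = T0.map (MulAut.conj x).toMonoidHom := rfl
      rw [hcoe, ← normalizer_map_conj]
      exact ⟨_, hg', by simp [mul_assoc]⟩
    have hJP' : thompsonSubgroupOf 2 T1 ≤ (P' : Subgroup G) :=
      le_sup_left.trans (sylow_in_max (sylow_in_of_le P' Subgroup.le_normalizer)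
        ((hF1.p2.to_le (thompsonOf_le' T1)).to_sup_of_normal_right' P'.isPGroup' (hJC.trans hCN))
        le_sup_right (sup_le (hJC.trans hCN) Subgroup.le_normalizer))
    refine comp_not_le hK0.1 P'.isPGroup' (hK0.1.2.1.ge.trans ?_)
    rw [Subgroup.commutator_le]
    intro k hk j hj
    rw [commutatorElement_def]
    exact mul_mem (conj_mem' (hCN (hK0C hk)) (hJP' hj)) (inv_mem (hJP' hj))

end Main

end CfsgLib.JComp
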