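import Mathlib
import Cfsg.Agent.Lib.JComp.Config

/-!
The configuration in which the straddling subgroup is a Sylow subgroup of the whole group.
-/

set_option autoImplicit false
set_option linter.unusedSectionVars false

universe u

namespace CfsgLib.JComp

open Cfsg CfsgLib.PLocal CfsgLib.Offender
open scoped commutatorElement

variable {G : Type u} [Group G] [Finite G]

theorem exists_gen_two {A : Subgroup G} (hA : Nat.card A = 2) : ∃ a ∈ A, a ≠ 1 := by
  haveI : Nontrivial ↥A := Finite.one_lt_card_iff_nontrivial.mp (by rw [hA]; norm_num)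
  obtain ⟨⟨a, ha⟩, h⟩ := exists_ne (1 : ↥A)
  exact ⟨a, ha, fun e => h (Subtype.ext e)⟩

theorem card_eq_two_of_ne_bot {A : Subgroup G} (h : Nat.card A ≤ 2) (hne : A ≠ ⊥) : Nat.card A = 2 := by
  haveI : Nontrivial ↥A := (Subgroup.nontrivial_iff_ne_bot A).mpr hne
  have := Finite.one_lt_card_iff_nontrivial.mpr this
  omega

/-- Two commuting subgroups of order two exhaust a group of order four together with the diagonal. -/
theorem four_list {Z A B : Subgroup G} (hZ : IsElementaryAbelian 2 Z) (h4 : Nat.card Z = 4) (hA : A ≤ Z) (hB : B ≤ Z)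
    (hA2 : Nat.card A = 2) (hB2 : Nat.card B = 2) (hi : A ⊓ B = ⊥) {a b : G} (ha : a ∈ A) (ha1 : a ≠ 1) (hb : b ∈ B)
    (hb1 : b ≠ 1) ⦃y : G⦄ (hy : y ∈ Z) (hyA : y ∉ A) (hyB : y ∉ B) : y = a * b := by
  have hn : B ≤ Subgroup.normalizer (A : Set G) := fun c hc => mem_normalizer_of_conj_mem fun d hd => by
    rw [elem_comm hZ (hB hc) (hA hd), mul_inv_cancel_right]; exact hd
  have hsup : A ⊔ B = Z := by
    refine Subgroup.eq_of_le_of_card_ge (sup_le hA hB) ?_
    have h := card_sup_mul_card_inf hn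
    rw [sup_comm, inf_comm, hi, Subgroup.card_bot, hA2, hB2] at h
    omega
  have hy' : y ∈ ((A ⊔ B : Subgroup G) : Set G) := hsup.ge hy
  rw [Subgroup.coe_mul_of_right_le_normalizer_left _ _ hn] at hy'
  obtain ⟨a', ha', b', hb', rfl⟩ := hy'
  rcases card_two_mem hA2 ha ha1 a' ha' with rfl | rfl
  · exact absurd (by simpa using hb') hyB
  rcases card_two_mem hB2 hb hb1 b' hb' with rfl | rfl
  · exact absurd (by simpa using ha') hyA
  · rfl

theorem spanC_congr {R T : Subgroup G} (h : thompsonSubgroupOf 2 R = thompsonSubgroupOf 2 T) (K : Subgroup G) :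
    spanC R K = spanC T K := by
  simp only [spanC, IsJComponent, h]

theorem uloc_congr {R T : Subgroup G} (h : thompsonSubgroupOf 2 R = thompsonSubgroupOf 2 T) (K : Subgroup G) :
    uloc R K = uloc T K := by
  rw [uloc, uloc, spanC_congr h]

section Main

variable (hL : IsCharacteristicTwoType G) (hN : ∀ N : Subgroup G, Cfsg.IsTwoLocal N → Group.IsSolvable ↥N)
  (hZ : ∀ S : Sylow 2 G, Subgroup.centralizer (Cfsg.omegaCenterOf (S : Subgroup G) : Set G) ≤
    Subgroup.normalizer ((S : Subgroup G) : Set G))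
include hL hN hZ

theorem fam_full (P : Sylow 2 G) {K : Subgroup G} (hK : IsJComponent (P : Subgroup G) K) :
    Fam (P : Subgroup G) (IsJComponent (P : Subgroup G)) :=
  fam_sylow hL hN hZ P fun e => by
    refine comp_not_normalize P.isPGroup' hK fun k _ => ?_
    rw [show thompsonSubgroupOf 2 (P : Subgroup G) = ⊥ from le_bot_iff.mp (e ▸ thompsonOf_le' _),
      Subgroup.normalizer_eq_top]
    exact Subgroup.mem_top _

variable (hO : pCore 2 G = ⊥) (P : Sylow 2 G) {K : Subgroup G} (hK : IsJComponent (P : Subgroup G) K)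
  (hPU : (P : Subgroup G) ≤ uloc (P : Subgroup G) K)
include hO hK hPU

theorem exists_other : ∃ K₂, IsJComponent (P : Subgroup G) K₂ ∧
    uloc (P : Subgroup G) K₂ ≠ uloc (P : Subgroup G) K := by
  by_contra h
  push Not at h
  have hF := fam_full hL hN hZ P hK
  exact no_closed hL hN hZ hO P hK hPU fun A hA => (h A hA) ▸ hF.self_le hL hN hZ hA

theorem cof_small {A : Subgroup G} (hA : IsJComponent (P : Subgroup G) A) :
    Nat.card ↥(cof (P : Subgroup G) A) ≤ 2 := by
  have hF := fam_full hL hN hZ P hK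
  obtain ⟨B, hB, hBne⟩ := exists_other hL hN hZ hO P hK hPU
  have hinf : cof (P : Subgroup G) K ⊓ cof (P : Subgroup G) B = ⊥ := (Subgroup.eq_bot_iff_forall _).mpr fun v hv => by
    by_contra hv1
    exact hBne (hF.link hL hN hZ hB hK hv.2 hv.1 hv1)
  have hz := card_zJ P.isPGroup' hK
  have hc : ∀ X, IsJComponent (P : Subgroup G) X → Nat.card ↥(cof (P : Subgroup G) X) = Nat.card ↥(cof (P : Subgroup G) K) :=
    fun X hX => by
      have := card_zJ P.isPGroup' hX
      omega
  rw [hc A hA]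
  exact card_le_two_of_inf hL hN hZ hF hK inf_le_left (hc B hB) hinf

theorem sylow_le_normalizer {A : Subgroup G} (hA : IsJComponent (P : Subgroup G) A)
    (hAU : A ≤ uloc (P : Subgroup G) K) : (P : Subgroup G) ≤ Subgroup.normalizer (A : Set G) := by
  have hF := fam_full hL hN hZ P hK
  set T := (P : Subgroup G) with hT
  set U := uloc T K with hU
  have hU2 := (hF.uloc_local hL hN hZ hK).1
  have hKU := hF.self_le hL hN hZ hK
  have hJU := hF.thompson_le hL hN hZ hK
  intro t ht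
  refine Local.mem_normalizer_of_map_conj_eq ?_
  by_contra hne
  set A' := A.map (MulAut.conj t).toMonoidHom with hA'
  have htJ := le_normalizer_thompsonOf T ht
  have hA'c : IsJComponent T A' := isJComponent_conj htJ hA
  have hA'U : A' ≤ U := Local.map_conj_le fun x hx => U.mul_mem (U.mul_mem (hPU ht) (hAU hx)) (U.inv_mem (hPU ht))
  have hAne : cof T A' ≠ cof T A := fun e => hne (hF.eq_of_cof hL hN hZ hK hU2 hKU hJU hA'c hA'U hA hAU e)
  have hc0 : cof T A ≠ ⊥ := fun e => hAne (by rw [hA', cof_map htJ, e, Subgroup.map_bot])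
  have hcA := card_eq_two_of_ne_bot (cof_small hL hN hZ hO P hK hPU hA) hc0
  have hcA' : Nat.card ↥(cof T A') = 2 := by
    rw [hA', cof_map htJ, Subgroup.card_map_of_injective (MulEquiv.injective (MulAut.conj t))]; exact hcA
  have h4 : Nat.card ↥(zJ T) = 4 := by rw [card_zJ (T := T) P.isPGroup' hA, hcA]
  obtain ⟨B, hB, hBne⟩ := exists_other hL hN hZ hO P hK hPU
  have hcB : Nat.card ↥(cof T B) = 2 := by
    have := card_zJ (T := T) P.isPGroup' hB
    omega
  have hdis : ∀ X, IsJComponent T X → X ≤ U → ∀ v ∈ cof T X, v ∈ cof T B → v = 1 := fun X hX hXU v hv hv' => by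
    by_contra hv1
    exact hBne ((hF.link hL hN hZ hB hX hv' hv hv1).trans (hF.uloc_eq hL hN hZ hX hK hU2 hXU hKU hJU))
  have hi : cof T A ⊓ cof T A' = ⊥ := (Subgroup.eq_bot_iff_forall _).mpr fun v hv => by
    by_contra hv1
    exact hAne (card_two_eq hcA' hcA hv.2 hv.1 hv1)
  obtain ⟨a, ha, ha1⟩ := exists_gen_two hcA
  obtain ⟨a', ha', ha'1⟩ := exists_gen_two hcA'
  obtain ⟨z, hz, hz1⟩ := exists_gen_two hcB
  have hzv := four_list (zJ_elem T) h4 inf_le_left inf_le_left hcA hcA' hi ha ha1 ha' ha'1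
  have hzeq : z = a * a' := hzv hz.1 (fun h => hz1 (hdis A hA hAU z h hz)) fun h => hz1 (hdis A' hA'c hA'U z h hz)
  obtain ⟨v, hv, hv1⟩ : ∃ v ∈ omegaCenterOf T, v ≠ 1 := by
    by_contra h
    push Not at h
    exact omega_ne_bot P.isPGroup' hF.ne ((Subgroup.eq_bot_iff_forall _).mpr h)
  have hfix : t * v * t⁻¹ = v := by rw [(omegaCenterOf_le_centralizer _ hv) t ht, mul_inv_cancel_right]
  have hnA : v ∉ cof T A := fun h => by
    have hm : v ∈ cof T A' := by rw [hA', cof_map htJ]; exact ⟨v, h, hfix⟩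
    exact hAne (card_two_eq hcA' hcA hm h hv1)
  have hnA' : v ∉ cof T A' := fun h => by
    rw [hA', cof_map htJ] at h
    obtain ⟨d, hd, e⟩ := h
    exact hnA ((MulAut.conj t).injective (e.trans hfix.symm) ▸ hd)
  have hvz : v = z := (hzv (omega_le_zJ T hv) hnA hnA').trans hzeq.symm
  have hΩ : Nat.card ↥(omegaCenterOf T) = 2 := by
    refine le_antisymm ((Subgroup.card_le_of_le (show omegaCenterOf T ≤ cof T B from fun w hw => ?_)).trans hcB.le) ?_
    · by_cases hw1 : w = 1
      · subst hw1; exact one_mem _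
      have hwfix : t * w * t⁻¹ = w := by rw [(omegaCenterOf_le_centralizer _ hw) t ht, mul_inv_cancel_right]
      have hwA : w ∉ cof T A := fun h => by
        have hm : w ∈ cof T A' := by rw [hA', cof_map htJ]; exact ⟨w, h, hwfix⟩
        exact hAne (card_two_eq hcA' hcA hm h hw1)
      have hwA' : w ∉ cof T A' := fun h => by
        rw [hA', cof_map htJ] at h
        obtain ⟨d, hd, e⟩ := h
        exact hwA ((MulAut.conj t).injective (e.trans hwfix.symm) ▸ hd)
      rw [(hzv (omega_le_zJ T hw) hwA hwA').trans hzeq.symm]; exact hz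
    · haveI : Nontrivial ↥(omegaCenterOf T) := ⟨⟨⟨v, hv⟩, 1, fun e => hv1 (congrArg Subtype.val e)⟩⟩
      exact Finite.one_lt_card_iff_nontrivial.mpr this
  refine comp_not_normalize P.isPGroup' hB fun b hb => normalizer_le_normalizer_thompson _ (hZ P ?_)
  rw [centralizer_eq_of_card_two hΩ hv hv1, hvz]
  exact Subgroup.mem_centralizer_singleton_iff.mpr (hz.2 b hb)

theorem omega_full : omegaCenterOf (P : Subgroup G) = zJ (P : Subgroup G) := by
  have hF := fam_full hL hN hZ P hK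
  exact omega_eq_of_fix hL hN hZ hF hK
    (sylow_le_normalizer hL hN hZ hO P hK hPU hK (hF.self_le hL hN hZ hK)) (cof_small hL hN hZ hO P hK hPU hK)

theorem sylow_le_uloc {B : Subgroup G} (hB : IsJComponent (P : Subgroup G) B) :
    (P : Subgroup G) ≤ uloc (P : Subgroup G) B := by
  haveI : Fact (Nat.Prime 2) := ⟨Nat.prime_two⟩
  have hF := fam_full hL hN hZ P hK
  set T := (P : Subgroup G) with hT
  have hω := omega_full hL hN hZ hO P hK hPU
  by_cases hc : cof T B = ⊥
  swap
  · obtain ⟨⟨v, hv⟩, hv1⟩ := Subgroup.ne_bot_iff_exists_ne_one.mp hc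
    refine fun t ht => hF.centralizer_le_uloc hL hN hZ hB hv (fun e => hv1 (Subtype.ext e)) ?_
    exact Subgroup.mem_centralizer_singleton_iff.mpr (omegaCenterOf_le_centralizer T (hω.ge hv.1) t ht)
  have h2 : Nat.card ↥(omegaCenterOf T) = 2 := by
    rw [hω, card_zJ (T := T) P.isPGroup' hB, hc, Subgroup.card_bot]
  obtain ⟨R, hR, hJR⟩ := exists_sylowTwoIn (P.isPGroup'.to_le (thompsonOf_le' T)) (hF.thompson_le hL hN hZ hB)
  have hJ : thompsonSubgroupOf 2 R = thompsonSubgroupOf 2 T :=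
    hF.big B hB _ R (hF.uloc_local hL hN hZ hB).1 (hF.self_le hL hN hZ hB) hR hJR
  have hRN : R ≤ Subgroup.normalizer (T : Set G) := fun r hr => hZ P fun w hw => by
    have hrJ : r ∈ Subgroup.normalizer (thompsonSubgroupOf 2 T : Set G) := hJ ▸ le_normalizer_thompsonOf R hr
    have := fix_of_card_two h2.le (g := r) (by rw [hω, zJ_map hrJ]) w hw
    exact (mul_inv_eq_iff_eq_mul.mp this).symm
  have hRP : R ≤ T := le_sup_left.trans (sylow_in_max (sylow_in_of_le P Subgroup.le_normalizer)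
    (hR.2.1.to_sup_of_normal_right' P.isPGroup' hRN) le_sup_right (sup_le hRN Subgroup.le_normalizer))
  rcases hRP.lt_or_eq with hlt | heq
  swap
  · exact heq ▸ hR.1
  exfalso
  have hne : R ≠ ⊥ := fun e => by
    refine thompson_ne_bot P.isPGroup' hF.ne ?_
    rw [← hT, ← hJ, e]
    exact le_bot_iff.mp (thompsonOf_le' _)
  have hF' : Fam R (IsJComponent R) := ⟨hR.2.1, hne, fun X hX => hX,
    fun X hX L Q h1 h3 h4 h5 => (hF.big X (isJComponent_congr hJ.symm hX) L Q h1 h3 h4 (hJ ▸ h5)).trans hJ.symm,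
    fun X hX g hg => isJComponent_conj hg hX⟩
  obtain ⟨q, hS⟩ := exists_split hL hN hZ hF' (isJComponent_congr hJ hB) (by rwa [uloc_congr hJ]) P hlt
  have hKn := sylow_le_normalizer hL hN hZ hO P hK hPU hK (hF.self_le hL hN hZ hK)
  have hlab : omegaCenterOf T = lab T K := by
    refine (Subgroup.eq_of_le_of_card_ge (show lab T K ≤ omegaCenterOf T from inf_le_left.trans hω.ge) ?_).symm
    rw [lab_card (T := T) P.isPGroup' hK]; exact h2.le
  have hWP : wOf K ≤ T := (par_of hL hN hZ hF hK (sylow_in_of_le P hPU) hKn hω).w_le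
  obtain ⟨x, -, z, -, -, h1, h2', h3, h4⟩ := four_witness hL hN hZ hF hK le_rfl hKn hWP hlab
    fun t ht w hw => by rw [(omegaCenterOf_le_centralizer _ hw) t ht, mul_inv_cancel_right]
  have hf := split_almost_central hL hN hZ hF' hlt hS h1 h4 h3
  rw [hS.solo.omega, show zJ R = zJ T by rw [zJ, zJ, hJ], ← hω] at hf
  exact h2' hf

theorem sylow_uloc {B : Subgroup G} (hB : IsJComponent (P : Subgroup G) B) :
    IsSylowTwoIn (P : Subgroup G) (uloc (P : Subgroup G) B) :=
  sylow_in_of_le P (sylow_le_uloc hL hN hZ hO P hK hPU hB)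

theorem full_solo {A : Subgroup G} (hA : IsJComponent (P : Subgroup G) A) :
    Solo (P : Subgroup G) (IsJComponent (P : Subgroup G)) A := by
  classical
  have hF := fam_full hL hN hZ P hK
  set T := (P : Subgroup G) with hT
  have hω := omega_full hL hN hZ hO P hK hPU
  have hsmall : ∀ X, IsJComponent T X → Nat.card ↥(cof T X) ≤ 2 := fun X hX => cof_small hL hN hZ hO P hK hPU hX
  refine ⟨hA, sylow_uloc hL hN hZ hO P hK hPU hA, ?_, hsmall A hA, hω⟩
  intro B hB hBU
  by_contra hne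
  have hPA := sylow_le_uloc hL hN hZ hO P hK hPU hA
  set U := uloc T A with hU
  have hU2 := (hF.uloc_local hL hN hZ hA).1
  have hAU := hF.self_le hL hN hZ hA
  have hJU := hF.thompson_le hL hN hZ hA
  have hl : ∀ {X Y : Subgroup G}, IsJComponent T X → X ≤ U → IsJComponent T Y → Y ≤ U → X ≠ Y →
      lab T X = cof T Y := fun hX hXU hY hYU h =>
    Subgroup.eq_of_le_of_card_ge (hF.cof_ne hL hN hZ hA hU2 hAU hJU hX hXU hY hYU h).2
      (by rw [lab_card (T := T) P.isPGroup' hX]; exact hsmall _ hY)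
  have hlA := hl hA hAU hB hBU (Ne.symm hne)
  have hlB := hl hB hBU hA hAU hne
  have hcA : Nat.card ↥(cof T A) = 2 := by rw [← hlB]; exact lab_card (T := T) P.isPGroup' hB
  have hcB : Nat.card ↥(cof T B) = 2 := by rw [← hlA]; exact lab_card (T := T) P.isPGroup' hA
  obtain ⟨C, hC, hCne⟩ := exists_other hL hN hZ hO P hA hPA
  have hcC : Nat.card ↥(cof T C) = 2 := by
    have := card_zJ (T := T) P.isPGroup' hC
    have := card_zJ (T := T) P.isPGroup' hA
    omega
  have h4 : Nat.card ↥(zJ T) = 4 := by rw [card_zJ (T := T) P.isPGroup' hA, hcA]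
  have hdis : ∀ X, IsJComponent T X → X ≤ U → ∀ v ∈ cof T X, v ∈ cof T C → v = 1 := fun X hX hXU v hv hv' => by
    by_contra hv1
    exact hCne ((hF.link hL hN hZ hC hX hv' hv hv1).trans (hF.uloc_eq hL hN hZ hX hA hU2 hXU hAU hJU))
  have hAB : cof T A ⊓ cof T B = ⊥ := by rw [← hlA]; exact cof_inf_lab hA
  obtain ⟨a, ha, ha1⟩ := exists_gen_two hcA
  obtain ⟨b, hb, hb1⟩ := exists_gen_two hcB
  obtain ⟨c, hc, hc1⟩ := exists_gen_two hcC
  have hlist := four_list (zJ_elem T) h4 inf_le_left inf_le_left hcA hcB hAB ha ha1 hb hb1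
  have hce : c = a * b := hlist hc.1 (fun h => hc1 (hdis A hA hAU c h hc)) fun h => hc1 (hdis B hB hBU c h hc)
  obtain ⟨l, hlC, hl1⟩ := exists_gen_two (lab_card (T := T) P.isPGroup' hC)
  -- choose the component of `U` with the label of `C`
  obtain ⟨X, Y, hX, hXU, hY, hYU, hXY, hlab⟩ : ∃ X Y, IsJComponent T X ∧ X ≤ U ∧ IsJComponent T Y ∧ Y ≤ U ∧
      X ≠ Y ∧ lab T C = lab T X := by
    by_cases hlA' : l ∈ cof T B
    · exact ⟨A, B, hA, hAU, hB, hBU, Ne.symm hne, card_two_eq (lab_card (T := T) P.isPGroup' hC)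
        (lab_card (T := T) P.isPGroup' hA) hlC (by rw [hlA]; exact hlA') hl1⟩
    · have hlB' : l ∈ cof T A := by
        by_contra h
        have hlc : l = c := (hlist hlC.1 h hlA').trans hce.symm
        exact hl1 (Subgroup.mem_bot.mp (cof_inf_lab hC ▸ ⟨hlc ▸ hc, hlC⟩ : l ∈ (⊥ : Subgroup G)))
      exact ⟨B, A, hB, hBU, hA, hAU, hne, card_two_eq (lab_card (T := T) P.isPGroup' hC)
        (lab_card (T := T) P.isPGroup' hB) hlC (by rw [hlB]; exact hlB') hl1⟩
  have hPX : T ≤ Subgroup.normalizer (X : Set G) := sylow_le_normalizer hL hN hZ hO P hA hPA hX hXU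
  have hPY : T ≤ Subgroup.normalizer (Y : Set G) := sylow_le_normalizer hL hN hZ hO P hA hPA hY hYU
  have hPC : T ≤ Subgroup.normalizer (C : Set G) :=
    sylow_le_normalizer hL hN hZ hO P hC (sylow_le_uloc hL hN hZ hO P hK hPU hC) hC (hF.self_le hL hN hZ hC)
  set Kf : Bool → Subgroup G := fun i => if i then X else C with hKf
  have hP : ∀ i, Par T (Kf i) := fun i => by
    cases i
    · exact par_of hL hN hZ hF hC (sylow_uloc hL hN hZ hO P hK hPU hC) hPC hω
    · exact par_of hL hN hZ hF hX (sylow_uloc hL hN hZ hO P hK hPU hX) hPX hω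
  have hcore : NoCore Kf T := hF.nocore hL hN hZ hX hC fun e =>
    hCne (e.symm.trans (hF.uloc_eq hL hN hZ hX hA hU2 hXU hAU hJU))
  have hlk : ∀ i, lk T (Kf i) = lab T (Kf i) := fun i => by rw [lk, lab, hω]
  have hck : ∀ i, ck T (Kf i) = cof T (Kf i) := fun i => by rw [ck, cof, hω]
  have hnot : ∀ i, ¬ lk T (Kf (!i)) ≤ ck T (Kf i) := by
    intro i h
    rw [hlk, hck] at h
    cases i
    · -- the label of `X` in the fixed part of `C`
      obtain ⟨w, hw, hw1⟩ := exists_gen_two (lab_card (T := T) P.isPGroup' hX)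
      refine hw1 (hdis Y hY hYU w ?_ (h hw))
      exact hl hX hXU hY hYU hXY ▸ hw
    · obtain ⟨w, hw, hw1⟩ := exists_gen_two (lab_card (T := T) P.isPGroup' hC)
      have h' : w ∈ cof T X := h hw
      exact hw1 (Subgroup.mem_bot.mp (cof_inf_lab hX ▸ ⟨h', hlab ▸ hw⟩ : w ∈ (⊥ : Subgroup G)))
  have h1 : ∃ i, ¬ vd T (Kf i) ≤ qd T (Kf (!i)) := by
    by_contra h1
    push Not at h1
    set Pc : ℕ → Prop := fun m => ∃ i g, g ∈ rs Kf T i m ∧
      ¬ vd T (Kf i) ≤ (qd T (Kf (ty i m))).map (MulAut.conj g).toMonoidHom with hPc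
    have hex : ∃ m, Pc m := exists_crit hP hcore
    obtain ⟨i, g, hg, hc⟩ := Nat.find_spec hex
    obtain ⟨n, hn⟩ : ∃ n, Nat.find hex = n + 2 := by
      rcases hb : Nat.find hex with _ | _ | n
      · rw [hb] at hg hc; exact absurd (by rw [show ty i 0 = i from rfl, q_map hP hg]; exact (hP i).v_le) hc
      · rw [hb] at hg hc
        obtain ⟨y, hy, p, hp, rfl⟩ := hg
        refine absurd ?_ hc
        have := Subgroup.map_mono (f := (MulAut.conj y).toMonoidHom) (h1 i)
        rw [v_map hP hy] at this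
        rwa [← conj_map_map, show ty i 1 = !i from rfl, q_map hP (show p ∈ Kf (!i) ⊔ T from hp)]
      · exact ⟨n, rfl⟩
    have hb : Below Kf T (n + 2) := fun m hm l g' hg' => by
      by_contra h
      exact Nat.find_min hex (hn ▸ hm) ⟨l, g', hg', h⟩
    rw [hn] at hg hc
    exact hnot i (lab_of_crit hP hb hcore hg hc)
  obtain ⟨i, hi⟩ := h1
  obtain ⟨-, -, he⟩ := one_structure hP hcore hi
  have hp := (hF.pair hL hN hZ hA hU2 hAU hJU hX hXU hY hYU).2 hXY
  have hparY := par_of hL hN hZ hF hY (sylow_uloc hL hN hZ hO P hK hPU hY) hPY hω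
  have hWY : wOf Y ≤ Y := by
    rw [wOf, Subgroup.commutator_le]
    intro d hd k hk
    rw [commutatorElement_def]
    exact Y.mul_mem (Y.mul_mem (Y.mul_mem (pCoreOf_le' Y (omegaCenterOf_le _ hd)) hk)
      (Y.inv_mem (pCoreOf_le' Y (omegaCenterOf_le _ hd)))) (Y.inv_mem hk)
  have hcomm : ∀ x ∈ wOf X, ∀ y ∈ wOf Y, x * y = y * x := fun x hx y hy => hp.2 (hWY hy) x hx
  have hE : IsElementaryAbelian 2 (wOf X ⊔ wOf Y) := isElementaryAbelian_sup' (hP true).w_elem hparY.w_elem hcomm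
  have h16 : Nat.card ↥(wOf X ⊔ wOf Y) = 16 := by
    have h := card_sup_mul_card_inf (A := wOf X) (B := wOf Y) fun x hx => mem_normalizer_of_conj_mem fun y hy => by
      rw [hcomm x hx y hy, mul_inv_cancel_right]; exact hy
    rw [hp.1, Subgroup.card_bot, hX.2.2.2.2.1, hY.2.2.2.2.1, mul_one] at h
    exact h
  have h8 : ∀ l, Nat.card ↥(vd T (Kf l)) ≤ 8 := fun l => by
    have hjc : IsJComponent T (Kf l) := by cases l; exacts [hC, hX]
    have h := card_sup_mul_card_inf (A := ck T (Kf l)) (B := wOf (Kf l)) fun c hc => by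
      exact (hP l).norm_w (Subgroup.mem_sup_right (omegaCenterOf_le T hc.1))
    have h' : Nat.card ↥(ck T (Kf l)) ≤ 2 := by rw [hck]; exact hsmall _ hjc
    rw [sup_comm, hjc.2.2.2.2.1] at h
    calc Nat.card ↥(vd T (Kf l)) ≤ Nat.card ↥(vd T (Kf l)) * Nat.card ↥(ck T (Kf l) ⊓ wOf (Kf l)) :=
          Nat.le_mul_of_pos_right _ Nat.card_pos
      _ = _ := h
      _ ≤ 8 := by omega
  rcases he _ hE (sup_le (hP true).w_le hparY.w_le) with h | h
  all_goals
    have := (Subgroup.card_le_of_le h).trans (h8 _)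
    omega

theorem third_full {A B : Subgroup G} (hA : Solo (P : Subgroup G) (IsJComponent (P : Subgroup G)) A)
    (hB : Solo (P : Subgroup G) (IsJComponent (P : Subgroup G)) B) : Third (P : Subgroup G) A B := by
  classical
  have hF := fam_full hL hN hZ P hK
  set T := (P : Subgroup G) with hT
  intro g h1 h2 hg hAB hBA hnc
  have hω := hA.omega
  have hpA := hA.par hL hN hZ hF
  have hpB := hB.par hL hN hZ hF
  rw [hA.ck_eq hL hN hZ, hB.lk_eq hL hN hZ] at h1
  rw [hB.ck_eq hL hN hZ, hA.lk_eq hL hN hZ] at h2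
  rw [hA.lk_eq hL hN hZ] at hg
  have hlA := lab_card (T := T) P.isPGroup' hA.phi
  obtain ⟨a, ha, ha1⟩ := exists_gen_two hlA
  have hcA : Nat.card ↥(cof T A) = 2 := by rw [← h1]; exact lab_card (T := T) P.isPGroup' hB.phi
  have hcX : ∀ X, IsJComponent T X → Nat.card ↥(cof T X) = 2 := fun X hX => by
    have := card_zJ (T := T) P.isPGroup' hX
    have := card_zJ (T := T) P.isPGroup' hA.phi
    omega
  have h4 : Nat.card ↥(zJ T) = 4 := by rw [card_zJ (T := T) P.isPGroup' hA.phi, hcA]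
  have hiA : lab T A ⊓ cof T A = ⊥ := by rw [inf_comm]; exact cof_inf_lab hA.phi
  obtain ⟨b, hb, hb1⟩ := exists_gen_two hcA
  obtain ⟨c, hc, hc1⟩ := exists_gen_two (hcX B hB.phi)
  have hlist := four_list (zJ_elem T) h4 inf_le_left inf_le_left hlA hcA hiA ha ha1 hb hb1
  have hcB : cof T B ⊓ cof T A = ⊥ := by rw [← h1]; exact cof_inf_lab hB.phi
  have hce : c = a * b := hlist hc.1 (fun h => h2 (card_two_eq hlA (hcX B hB.phi) h hc hc1))
    fun h => hc1 (Subgroup.mem_bot.mp (hcB ▸ ⟨hc, h⟩ : c ∈ (⊥ : Subgroup G)))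
  have hga : g * a * g⁻¹ = a := fix_of_card_two hlA.le hg a ha
  -- a conjugate of `A` with the same label is `A` or `B`
  have hconj : ∀ {h : G}, h ∈ Subgroup.normalizer (thompsonSubgroupOf 2 T : Set G) → h * a * h⁻¹ = a →
      A.map (MulAut.conj h).toMonoidHom = A ∨ A.map (MulAut.conj h).toMonoidHom = B := by
    intro h hh hfix
    set X := A.map (MulAut.conj h).toMonoidHom with hX
    have hXc : IsJComponent T X := isJComponent_conj hh hA.phi
    obtain ⟨x, hx, hx1⟩ := exists_gen_two (hcX X hXc)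
    by_cases hxA : x ∈ cof T A
    · left
      refine hA.single X hXc ?_
      rw [hF.link hL hN hZ hA.phi hXc hxA hx hx1]
      exact hF.self_le hL hN hZ hXc
    right
    have hxa : x ∉ lab T A := fun hxl => by
      have hxeq : x = a := (card_two_mem hlA ha ha1 x hxl).resolve_left hx1
      rw [hX, cof_map hh] at hx
      obtain ⟨d, hd, e⟩ := hx
      have hda : d = a := (MulAut.conj h).injective (e.trans (hxeq.trans hfix.symm))
      exact ha1 (Subgroup.mem_bot.mp (hiA ▸ ⟨ha, hda ▸ hd⟩ : a ∈ (⊥ : Subgroup G)))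
    have hxc : x = c := (hlist hx.1 hxa hxA).trans hce.symm
    refine hB.single X hXc ?_
    rw [hF.link hL hN hZ hB.phi hXc hc (hxc ▸ hx) hc1]
    exact hF.self_le hL hN hZ hXc
  have ha2 := elem_sq (zJ_elem T) ha.1
  have hCloc := centralizer_local ha2 ha1
  have hTC : T ≤ Subgroup.centralizer ({a} : Set G) := fun t ht => Subgroup.mem_centralizer_singleton_iff.mpr
    (omegaCenterOf_le_centralizer T (hω.ge ha.1) t ht)
  have hgC : g ∈ Subgroup.centralizer ({a} : Set G) :=
    Subgroup.mem_centralizer_singleton_iff.mpr (mul_inv_eq_iff_eq_mul.mp hga)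
  obtain ⟨v, hv, u, hu, hnc⟩ := hnc
  by_cases hcomp : ∃ C, IsJComponent T C ∧ C ≤ Subgroup.centralizer ({a} : Set G)
  swap
  · push Not at hcomp
    have hs := sylow_in_of_le P hTC
    have hgJ : g ∈ Subgroup.normalizer (thompsonSubgroupOf 2 T : Set G) := by
      by_cases hO2 : thompsonSubgroupOf 2 T ≤ pCoreOf 2 (Subgroup.centralizer ({a} : Set G))
      · exact le_normalizer_of_core hs hO2 hgC
      · obtain ⟨Q, hQ, hQ1, e⟩ := hCloc
        exact overgroup_le_of_comps hL hN hZ ⟨hs, hO2, e ▸ core_of_normalizer hL hN hZ hQ hQ1⟩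
          (fun C hC hCle => absurd hCle (hcomp C hC)) (le_normalizer_thompsonOf T) inf_le_right hgC
    have hu' : g * u * g⁻¹ ∈ vd T (A.map (MulAut.conj g).toMonoidHom) := by
      rw [hA.vd_map hL hN hZ hgJ]; exact ⟨u, hu, rfl⟩
    rcases hconj hgJ hga with e | e <;> rw [e] at hu'
    · exact hnc (elem_comm hpA.v_elem hv hu')
    · exact hnc (mul_inv_eq_iff_eq_mul.mp (hpB.q_fix (hAB hv) hu'))
  obtain ⟨C, hC, hCa⟩ := hcomp
  have haC : a ∈ cof T C := ⟨ha.1, fun k hk => Subgroup.mem_centralizer_singleton_iff.mp (hCa hk)⟩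
  have hS : Solo T (IsJComponent T) C := full_solo hL hN hZ hO P hK hPU hC
  have hpC := hS.par hL hN hZ hF
  have hgU := hF.centralizer_le_uloc hL hN hZ hC haC ha1 hgC
  obtain ⟨k, hk, m, hm, rfl⟩ := hF.uloc_dec hL hN hZ hC hS.single hgU
  have hka : k * a * k⁻¹ = a := by rw [← haC.2 k hk |>.symm, mul_inv_cancel_right]
  have hma : m * a * m⁻¹ = a := by
    refine (MulAut.conj k).injective ?_
    show k * (m * a * m⁻¹) * k⁻¹ = k * a * k⁻¹
    rw [hka, show k * (m * a * m⁻¹) * k⁻¹ = k * m * a * (k * m)⁻¹ by group, hga]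
  have hmA : A.map (MulAut.conj m).toMonoidHom = A := by
    refine (hconj hm.2 hma).resolve_right fun e => h2 ?_
    have hl : (lab T A).map (MulAut.conj m).toMonoidHom = lab T B := by rw [← lab_map hm.2, e]
    have : a ∈ lab T B := hl ▸ ⟨a, ha, hma⟩
    exact absurd (h1 ▸ this : a ∈ cof T A) fun h => ha1 (Subgroup.mem_bot.mp (hiA ▸ ⟨ha, h⟩ : a ∈ (⊥ : Subgroup G)))
  set u' := m * u * m⁻¹ with hu'def
  have hu' : u' ∈ vd T A := by
    rw [← hmA, hA.vd_map hL hN hZ hm.2]; exact ⟨u, hu, rfl⟩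
  have hnc' : ¬ Commute v (k * u' * k⁻¹) := by
    rwa [hu'def, show k * (m * u * m⁻¹) * k⁻¹ = k * m * u * (k * m)⁻¹ by group]
  have hCA : uloc T A ≠ uloc T C := fun e => by
    have hAC : A = C := hS.single A hA.phi (e ▸ hF.self_le hL hN hZ hA.phi)
    exact ha1 (Subgroup.mem_bot.mp (hiA ▸ ⟨ha, hAC ▸ haC⟩ : a ∈ (⊥ : Subgroup G)))
  set Kf : Bool → Subgroup G := fun i => if i then A else C with hKf
  have hsolo : ∀ i, Solo T (IsJComponent T) (Kf i) := fun i => by cases i; exacts [hS, hA]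
  have hP : ∀ i, Par T (Kf i) := fun i => (hsolo i).par hL hN hZ hF
  have hcore : NoCore Kf T := hF.nocore hL hN hZ hA.phi hC hCA
  have hlkA : lk T (Kf true) = ck T (Kf false) := by
    show lk T A = ck T C
    rw [hA.lk_eq hL hN hZ, hS.ck_eq hL hN hZ]
    exact card_two_eq hlA (hcX C hC) ha haC ha1
  have hone : ∀ i, vd T (Kf i) ≤ qd T (Kf (!i)) := by
    intro i
    by_contra h
    obtain ⟨e1, -⟩ := one_label hP h
    have e : lk T (Kf false) = lk T (Kf true) := by
      cases i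
      · exact e1
      · exact e1.symm
    obtain ⟨w, hw, hw1, -⟩ := (hP false).lab_elt
    refine hw1 (Subgroup.mem_bot.mp (cof_inf_lab hC ▸ ⟨?_, ?_⟩ : w ∈ (⊥ : Subgroup G)))
    · rw [e, hlkA] at hw; exact (hS.ck_eq hL hN hZ) ▸ hw
    · exact (hS.lk_eq hL hN hZ) ▸ hw
  have hb0 : Below Kf T (0 + 2) := by
    intro l hl i y hy
    rcases l with _ | _ | l
    · rw [show ty i 0 = i from rfl, q_map hP hy]; exact (hP i).v_le
    · obtain ⟨y1, hy1, p, hp, rfl⟩ := hy
      have := Subgroup.map_mono (f := (MulAut.conj y1).toMonoidHom) (hone i)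
      rw [v_map hP hy1] at this
      rwa [← conj_map_map, show ty i 1 = !i from rfl, q_map hP (show p ∈ Kf (!i) ⊔ T from hp)]
    · omega
  have hkC : k ∈ Kf (ty true 1) ⊔ T := Subgroup.mem_sup_left hk
  have hk1 : k ∈ rs Kf T true 1 := by
    have := rs_step (K := Kf) (T := T) (i := true) (n := 0) (one_mem _) hkC
    rwa [one_mul] at this
  have hk1' : k ∈ rs Kf T (!true) 1 := by
    have := rs_step (K := Kf) (T := T) (i := false) (n := 0) (g := k) (Subgroup.mem_sup_left hk) (one_mem _)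
    rwa [mul_one] at this
  have hcrit : ¬ vd T (Kf true) ≤ (qd T (Kf (ty true (0 + 2)))).map (MulAut.conj k).toMonoidHom := by
    intro hle
    obtain ⟨d, hd, e⟩ := hle hv
    have hcd : Commute d u' := mul_inv_eq_iff_eq_mul.mp ((hP true).q_fix hd hu')
    have := hcd.map (MulAut.conj k)
    rw [show (MulAut.conj k) d = v from e] at this
    exact hnc' this
  have hk2 : k ∈ rs Kf T true (0 + 2) := rs_mem_succ (K := Kf) (T := T) (i := true) (n := 1) hk1
  have hle2 : lk T (Kf (!true)) ≤ ck T (Kf true) :=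
    lab_of_crit (K := Kf) (n := 0) hP hb0 hcore (i := true) (g := k) hk2 hcrit
  have hmut : lk T (Kf false) = ck T (Kf true) := by
    refine Subgroup.eq_of_le_of_card_ge hle2 ?_
    rw [(hP false).labc, (hsolo true).ck_eq hL hN hZ]; exact hA.small
  refine mutual_false hP (i := true) hone hlkA.le hmut.le hk ⟨v, hv, u', hu', hnc'⟩ ?_
  rcases neighbour (K := Kf) (n := 0) hP hb0 (i := true) (g := k) hk1 hk1' hcrit with hU | ⟨-, g2, hg2, hc2⟩
  · exact Or.inl (join_core_normal (K := Kf) (n := 0) hP hb0 (i := true) hU)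
  refine Or.inr ?_
  obtain ⟨y, hy, p, hp, rfl⟩ := hg2
  obtain ⟨p0, hp0, y2, hy2, rfl⟩ := hy
  have hc3 : ¬ vd T C ≤ (qd T C).map (MulAut.conj y2).toMonoidHom := by
    intro hle
    refine hc2 ?_
    have := Subgroup.map_mono (f := (MulAut.conj p0).toMonoidHom) hle
    rw [show vd T C = vd T (Kf false) from rfl, v_map (K := Kf) hP (i := false) hp0] at this
    show vd T (Kf false) ≤ (qd T (Kf false)).map (MulAut.conj (p0 * y2 * p)).toMonoidHom
    rw [← conj_map_map (p0 * y2) p, ← conj_map_map p0 y2]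
    refine this.trans (le_of_eq ?_)
    rw [q_map hP (i := false) hp]
    rfl
  have hy2' : y2 ∈ A ⊔ T := hy2
  have hleft : ∀ w ∈ vd T C, y2⁻¹ * w * y2 ∈ T := fun w hw => by
    have h3 := conj_mem' (hpA.q_normal (inv_mem hy2')) (hone false hw)
    rw [inv_inv] at h3
    exact h3.1
  obtain ⟨w, hw, w', hw', hne⟩ := exists_noncomm hP (i := false) (e := false) (g := y2) hleft hc3
  have hy2s : y2 ∈ ((A ⊔ T : Subgroup G) : Set G) := hy2'
  rw [Subgroup.coe_mul_of_right_le_normalizer_left _ _ hpA.norm] at hy2s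
  obtain ⟨k', hk', t, ht, rfl⟩ := hy2s
  refine ⟨k', hk', w, hw, t * w' * t⁻¹, conj_mem' ((hP false).v_normal (Subgroup.mem_sup_right ht)) hw', ?_⟩
  rwa [show k' * (t * w' * t⁻¹) * k'⁻¹ = k' * t * w' * (k' * t)⁻¹ by group]

theorem full_pair {A B : Subgroup G} (hA : IsJComponent (P : Subgroup G) A) (hB : IsJComponent (P : Subgroup G) B)
    (hne : uloc (P : Subgroup G) A ≠ uloc (P : Subgroup G) B) :
    qd (P : Subgroup G) A = vd (P : Subgroup G) A ∧ qd (P : Subgroup G) B = vd (P : Subgroup G) B ∧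
      ∀ E : Subgroup G, IsElementaryAbelian 2 E → E ≤ (P : Subgroup G) →
        E ≤ vd (P : Subgroup G) A ∨ E ≤ vd (P : Subgroup G) B :=
  have hsA := full_solo hL hN hZ hO P hK hPU hA
  have hsB := full_solo hL hN hZ hO P hK hPU hB
  pair_one hL hN hZ (fam_full hL hN hZ P hK) hsA hsB hne (third_full hL hN hZ hO P hK hPU hsA hsB)
    (third_full hL hN hZ hO P hK hPU hsB hsA)

end Main

end CfsgLib.JComp
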