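import Mathlib
import Cfsg.Agent.Lib.JComp.Full

/-!
Two parabolics with a common Sylow 2-subgroup for every maximal straddling subgroup.
-/

set_option autoImplicit false
set_option linter.unusedSectionVars false

universe u

namespace CfsgLib.JComp

open Cfsg CfsgLib.PLocal CfsgLib.Offender
open scoped commutatorElement

variable {G : Type u} [Group G] [Finite G]

theorem core_le_sylowTwoIn {R L : Subgroup G} (hR : IsSylowTwoIn R L) : pCoreOf 2 L ≤ R := by
  haveI : Fact (Nat.Prime 2) := ⟨Nat.prime_two⟩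
  obtain ⟨P0, hP0⟩ := exists_sylowOf hR
  rintro _ ⟨o, ho, rfl⟩
  have := CfsgLib.pCore_le_sylow P0 ho
  rw [hP0] at this
  exact this

theorem le_core_of_normalized {L Q : Subgroup G} (hQL : Q ≤ L) (hQ : IsPGroup 2 ↥Q)
    (hn : L ≤ Subgroup.normalizer (Q : Set G)) : Q ≤ pCoreOf 2 L := by
  haveI : (Q.subgroupOf L).Normal := (Subgroup.normal_subgroupOf_iff_le_normalizer hQL).mpr hn
  exact fun y hy => ⟨⟨y, hQL hy⟩, CfsgLib.le_pCore (N := Q.subgroupOf L)
    (hQ.comap_of_injective L.subtype L.subtype_injective) hy, rfl⟩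

namespace Par

variable {T K : Subgroup G} (hP : Par T K)
include hP

theorem fix_w {x g w : G} (hxK : x ∈ K) (hsum : ∀ w ∈ wOf K, w * cj x w * cj x (cj x w) = 1) (hw : w ∈ wOf K)
    (hw1 : w ≠ 1) (h1 : cj g w = w) (h2 : cj g (cj x w) = cj x w) : ∀ u ∈ wOf K, cj g u = u := by
  obtain ⟨-, hxx, hlist⟩ := hP.four hxK hsum hw hw1
  intro u hu
  rcases hlist u hu with r | r | r | r <;> subst r
  · simp [cj]
  · exact h1
  · exact h2
  · rw [hxx, show cj g (w * cj x w) = cj g w * cj g (cj x w) by simp [cj, mul_assoc], h1, h2]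

theorem gen_not_mem {x : G} (hxK : x ∈ K) (hsum : ∀ w ∈ wOf K, w * cj x w * cj x (cj x w) = 1) : x ∉ T := by
  obtain ⟨w, hw, hw1, -⟩ := hP.lab_elt
  exact fun hx => (hP.four hxK hsum hw.2 hw1).1 (hP.fix_lab hx hw.1)

theorem gen_fix {x w : G} (hx3 : ∀ w ∈ wOf K, cj x (cj x (cj x w)) = w)
    (hsum : ∀ w ∈ wOf K, w * cj x w * cj x (cj x w) = 1) (hxK : x ∈ K) (hw : w ∈ wOf K) (hw1 : w ≠ 1) :
    ∀ i : ℕ, cj (x ^ i) w = w → i % 3 = 0 := by
  intro i hi
  have h3 : ∀ m : ℕ, cj ((x ^ 3) ^ m) w = w := by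
    intro m
    induction m with
    | zero => simp [cj]
    | succ m ih =>
      have e3 : cj (x ^ 3) w = w := by
        rw [show x ^ 3 = x * (x * x) by simp [pow_succ, mul_assoc], cj_comp, cj_comp, hx3 w hw]
      rw [pow_succ, cj_comp, e3, ih]
  have h : cj (x ^ (i % 3)) w = w := by
    rwa [← Nat.mod_add_div i 3, pow_add, pow_mul, cj_comp, h3] at hi
  obtain ⟨hne, hxx, -⟩ := hP.four hxK hsum hw hw1
  rcases (show i % 3 = 0 ∨ i % 3 = 1 ∨ i % 3 = 2 by omega) with e | e | e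
  · exact e
  · rw [e, pow_one] at h; exact absurd h hne
  · rw [e, pow_two, cj_comp] at h
    refine absurd ?_ hne
    have := congrArg (cj x) h
    rwa [hx3 w hw, eq_comm] at this

theorem qd_sub : qd T K ≤ T := inf_le_left

theorem relIndex_qd : (qd T K).relIndex T = 2 := by
  obtain ⟨a, ha, haq⟩ := hP.exists_out
  rw [Subgroup.relIndex_eq_two_iff_exists_notMem_and]
  refine ⟨a, ha, haq, fun b hb => ?_⟩
  by_cases hbq : b ∈ qd T K
  · exact Or.inr hbq
  left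
  have := hP.index_two (T.inv_mem hb) (fun h => hbq (by simpa using inv_mem h)) ha haq
  rwa [inv_inv] at this

theorem relIndex_three : T.relIndex (K ⊔ T) = 3 := by
  obtain ⟨x, hxK, hx3T, -, hsum, hdec⟩ := hP.data
  have hxP : x ∈ K ⊔ T := Subgroup.mem_sup_left hxK
  let f : Fin 3 → ↥(K ⊔ T) ⧸ T.subgroupOf (K ⊔ T) := fun i => QuotientGroup.mk (⟨x, hxP⟩ ^ (i : ℕ))
  have hf : Function.Surjective f := by
    intro c
    induction c using QuotientGroup.induction_on with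
    | _ g =>
      obtain ⟨i, t, ht, e⟩ := hdec g.1 g.2
      refine ⟨⟨i % 3, Nat.mod_lt _ (by norm_num)⟩, QuotientGroup.eq.mpr ?_⟩
      rw [Subgroup.mem_subgroupOf]
      show (x ^ (i % 3))⁻¹ * g.1 ∈ T
      rw [e, show x ^ i = x ^ (i % 3) * (x ^ 3) ^ (i / 3) by rw [← pow_mul, ← pow_add, Nat.mod_add_div],
        mul_assoc, inv_mul_cancel_left]
      exact mul_mem (pow_mem hx3T _) ht
  have hle : T.relIndex (K ⊔ T) ≤ 3 := by
    have := Nat.card_le_card_of_surjective f hf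
    rwa [Nat.card_fin] at this
  have hodd := hP.syl.2.2
  have hne : T.relIndex (K ⊔ T) ≠ 1 := fun e =>
    hP.gen_not_mem hxK hsum (Subgroup.relIndex_eq_one.mp e hxP)
  obtain ⟨m, hm⟩ := hodd
  omega

theorem core_eq : pCoreOf 2 (K ⊔ T) = qd T K := by
  refine le_antisymm (fun o ho => ?_)
    (le_core_of_normalized (hP.qd_sub.trans le_sup_right) (hP.p2.to_le hP.qd_sub) hP.q_normal)
  have hoT : o ∈ T := core_le_sylowTwoIn hP.syl ho
  obtain ⟨x, hxK, -, hx3, hsum, -⟩ := hP.data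
  obtain ⟨w, hw, hw1, -⟩ := hP.lab_elt
  have hxP : x ∈ K ⊔ T := Subgroup.mem_sup_left hxK
  have ho' : x⁻¹ * o * x ∈ T := by
    have h := conj_mem' (le_normalizer_pCoreOf' (K ⊔ T) (inv_mem hxP)) ho
    rw [inv_inv] at h
    exact core_le_sylowTwoIn hP.syl h
  have h1 : cj o w = w := hP.fix_lab hoT hw.1
  have h2 : cj o (cj x w) = cj x w := by
    rw [← cj_comp, show o * x = x * (x⁻¹ * o * x) by group, cj_comp, hP.fix_lab ho' hw.1]
  exact ⟨hoT, fun u hu => (mul_inv_eq_iff_eq_mul.mp (hP.fix_w hxK hsum hw.2 hw1 h1 h2 u hu)).symm⟩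

theorem relIndex_six : (qd T K).relIndex (K ⊔ T) = 6 := by
  rw [← Subgroup.relIndex_mul_relIndex _ T _ hP.qd_sub le_sup_right, hP.relIndex_qd, hP.relIndex_three]

theorem not_comm : ¬ ⁅K ⊔ T, K ⊔ T⁆ ≤ qd T K := by
  intro h
  obtain ⟨x, hxK, -, -, hsum, -⟩ := hP.data
  obtain ⟨w, hw, hw1, -⟩ := hP.lab_elt
  obtain ⟨t, ht, htq⟩ := hP.exists_out
  have hxP : x ∈ K ⊔ T := Subgroup.mem_sup_left hxK
  have hc := h (Subgroup.commutator_mem_commutator hxP (Subgroup.mem_sup_right ht))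
  have hm : x * t * x⁻¹ ∈ T := by
    have := T.mul_mem hc.1 ht
    rwa [commutatorElement_def, inv_mul_cancel_right] at this
  refine htq ⟨ht, fun u hu => (mul_inv_eq_iff_eq_mul.mp ?_).symm⟩
  have hkey : ∀ u ∈ wOf K, cj (x * t * x⁻¹) u = u := hP.fix_w hxK hsum hw.2 hw1 (hP.fix_lab hm hw.1)
    (by rw [← cj_comp, inv_mul_cancel_right, cj_comp, hP.fix_lab ht hw.1])
  have h' := hkey (cj x u) (conj_mem' (hP.norm_w hxP) hu)
  rw [← cj_comp, inv_mul_cancel_right, cj_comp] at h'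
  exact (MulAut.conj x).injective h'

theorem bracket : ⁅omegaCenterOf T, K ⊔ T⁆ ≠ ⊥ := by
  intro h
  obtain ⟨x, hxK, -, -, hsum, -⟩ := hP.data
  obtain ⟨w, hw, hw1, -⟩ := hP.lab_elt
  have hc : ⁅w, x⁆ = 1 := Subgroup.mem_bot.mp (h ▸ Subgroup.commutator_mem_commutator hw.1 (Subgroup.mem_sup_left hxK))
  refine (hP.four hxK hsum hw.2 hw1).1 ?_
  show x * w * x⁻¹ = w
  rw [← commutatorElement_eq_one_iff_mul_comm.mp hc, mul_inv_cancel_right]

theorem ck_inf_w : ck T K ⊓ wOf K = ⊥ := by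
  rw [Subgroup.eq_bot_iff_forall]
  intro w hw
  obtain ⟨x, hxK, -, -, hsum, -⟩ := hP.data
  have h := hsum w hw.2
  have e : cj x w = w := by
    show x * w * x⁻¹ = w
    rw [hw.1.2 x hxK, mul_inv_cancel_right]
  rwa [e, e, hP.sq w hw.2, one_mul] at h

theorem card_vd : Nat.card ↥(vd T K) = 4 * Nat.card ↥(ck T K) := by
  have h := card_sup_mul_card_inf (A := ck T K) (B := wOf K)
    fun c hc => hP.norm_w (Subgroup.mem_sup_right (omegaCenterOf_le T hc.1))
  rw [hP.ck_inf_w, Subgroup.card_bot, mul_one, sup_comm, hP.card] at h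
  rw [vd, h, mul_comm]

theorem card_sylow (hqd : qd T K = vd T K) : Nat.card T = 8 * Nat.card ↥(ck T K) := by
  have h := Subgroup.relIndex_mul_relIndex ⊥ (qd T K) T bot_le hP.qd_sub
  rw [Subgroup.relIndex_bot_left, Subgroup.relIndex_bot_left, hP.relIndex_qd, hqd, hP.card_vd] at h
  rw [← h]; ring

end Par

section Main

variable (hL : IsCharacteristicTwoType G) (hN : ∀ N : Subgroup G, Cfsg.IsTwoLocal N → Group.IsSolvable ↥N)
  (hZ : ∀ S : Sylow 2 G, Subgroup.centralizer (Cfsg.omegaCenterOf (S : Subgroup G) : Set G) ≤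
    Subgroup.normalizer ((S : Subgroup G) : Set G))
include hL hN hZ

/-- Two components whose parabolics form an amalgam of length one. -/
structure Duo (T : Subgroup G) (Φ : Subgroup G → Prop) (K₁ K₂ : Subgroup G) : Prop where
  fam : Fam T Φ
  solo1 : Solo T Φ K₁
  solo2 : Solo T Φ K₂
  ne : uloc T K₁ ≠ uloc T K₂
  qd1 : qd T K₁ = vd T K₁
  qd2 : qd T K₂ = vd T K₂
  elem : ∀ E : Subgroup G, IsElementaryAbelian 2 E → E ≤ T → E ≤ vd T K₁ ∨ E ≤ vd T K₂

variable {T : Subgroup G} {Φ : Subgroup G → Prop} {K K₁ K₂ : Subgroup G}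

theorem Duo.symm (h : Duo T Φ K₁ K₂) : Duo T Φ K₂ K₁ :=
  ⟨h.fam, h.solo2, h.solo1, h.ne.symm, h.qd2, h.qd1, fun E hE hET => (h.elem E hE hET).symm⟩

theorem cent_vd_le (hF : Fam T Φ) (hS : Solo T Φ K) (hqd : qd T K = vd T K) :
    Subgroup.centralizer (vd T K : Set G) ≤ vd T K ∧ pCoreOf 2 (uloc T K) = vd T K := by
  have hp := hS.par hL hN hZ hF
  have hKU := hF.self_le hL hN hZ hS.phi
  have hle : K ⊔ T ≤ uloc T K := sup_le hKU hS.syl.1
  obtain ⟨-, -, hC⟩ := hF.local_over hL hN hZ hS.phi (hF.uloc_local hL hN hZ hS.phi).1 hKU hS.syl (thompsonOf_le' T)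
  have hOV : pCoreOf 2 (uloc T K) ≤ vd T K := by
    rw [← hqd, ← hp.core_eq]
    exact le_core_of_normalized ((core_le_sylowTwoIn hS.syl).trans le_sup_right) (isPGroup_pCoreOf _)
      (hle.trans (le_normalizer_pCoreOf' _))
  have hCV : Subgroup.centralizer (vd T K : Set G) ≤ pCoreOf 2 (uloc T K) :=
    (Subgroup.centralizer_le (SetLike.coe_subset_coe.mpr hOV)).trans hC
  have hVC : vd T K ≤ Subgroup.centralizer (vd T K : Set G) := fun a ha b hb => elem_comm hp.v_elem hb ha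
  exact ⟨hCV.trans hOV, le_antisymm hOV (hVC.trans hCV)⟩

theorem uloc_eq_sup (hF : Fam T Φ) (hS : Solo T Φ K) (hqd : qd T K = vd T K) : uloc T K = K ⊔ T := by
  have hp := hS.par hL hN hZ hF
  obtain ⟨hC, -⟩ := cent_vd_le hL hN hZ hF hS hqd
  refine le_antisymm (fun g hg => ?_) (sup_le (hF.self_le hL hN hZ hS.phi) hS.syl.1)
  obtain ⟨k, hk, m, hm, rfl⟩ := hF.uloc_dec hL hN hZ hS.phi hS.single hg
  refine mul_mem (Subgroup.mem_sup_left hk) (Subgroup.mem_sup_right ?_)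
  obtain ⟨x, hxK, -, -, hsum, -⟩ := hp.data
  obtain ⟨w, hw, hw1, -⟩ := hp.lab_elt
  have hmK := hF.uloc_le_normalizer hL hN hZ hS.phi hS.single hm.1
  have hmap := Local.map_conj_eq_of_mem_normalizer hmK
  have hmw : cj m w = w := fix_of_card_two (lab_card hF.p2 (hF.comp K hS.phi)).le
    (by rw [← lab_map hm.2, hmap]) w ((hS.lk_eq hL hN hZ) ▸ hw)
  have hmc : ∀ c ∈ ck T K, cj m c = c := by
    rw [hS.ck_eq hL hN hZ]; exact fix_of_card_two hS.small (by rw [← cof_map hm.2, hmap])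
  have hmW : ∀ u ∈ wOf K, cj m u ∈ wOf K := fun u hu => conj_mem' (wOf_conj hmK) hu
  -- fixing the four group forces membership
  have key : ∀ n : G, (∀ u ∈ wOf K, cj n u = u) → (∀ c ∈ ck T K, cj n c = c) → n ∈ T := fun n h1 h2 => by
    have hle : vd T K ≤ Subgroup.centralizer ({n} : Set G) := sup_le
      (fun u hu => Subgroup.mem_centralizer_singleton_iff.mpr (mul_inv_eq_iff_eq_mul.mp (h1 u hu)).symm)
      (fun u hu => Subgroup.mem_centralizer_singleton_iff.mpr (mul_inv_eq_iff_eq_mul.mp (h2 u hu)).symm)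
    exact hp.v_le_T (hC fun v hv => Subgroup.mem_centralizer_singleton_iff.mp (hle hv))
  obtain ⟨hne, hxx, hlist⟩ := hp.four hxK hsum hw.2 hw1
  have hxW : cj x w ∈ wOf K := conj_mem' (hp.norm_w (Subgroup.mem_sup_left hxK)) hw.2
  rcases hlist _ (hmW _ hxW) with e | e | e | e
  · exact absurd ((MulAut.conj x).injective (((MulAut.conj m).injective (e.trans (map_one _).symm)).trans
      (map_one _).symm)) hw1
  · exact absurd ((MulAut.conj m).injective (e.trans hmw.symm)) hne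
  · exact key m (hp.fix_w hxK hsum hw.2 hw1 hmw e) hmc
  · obtain ⟨t, ht, htq⟩ := hp.exists_out
    obtain ⟨-, h2⟩ := hp.act_out ht htq hxK hsum hw hw1
    have h := key (t * m) (hp.fix_w hxK hsum hw.2 hw1 (by rw [cj_comp, hmw, hp.fix_lab ht hw.1])
      (by rw [cj_comp, e, h2])) fun c hc => by rw [cj_comp, hmc c hc, hp.fix_lab ht hc.1]
    have := T.mul_mem (T.inv_mem ht) h
    rwa [inv_mul_cancel_left] at this

variable (hO : pCore 2 G = ⊥)

theorem exists_sylow_above (S : Sylow 2 G) {M : Subgroup G}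
    (hMJ : Subgroup.normalizer (thompsonSubgroupOf 2 (S : Subgroup G) : Set G) ≤ M) (hTp : IsPGroup 2 ↥T) (hTM : T ≤ M) :
    ∃ P : Sylow 2 G, T ≤ (P : Subgroup G) ∧
      Subgroup.normalizer (thompsonSubgroupOf 2 (P : Subgroup G) : Set G) ≤ M := by
  obtain ⟨m, hm, hmT⟩ := exists_conj_le (sylow_in_of_le S (sylow_le_of_thompson hMJ)) hTp hTM
  have hcoe : ((m⁻¹ • S : Sylow 2 G) : Subgroup G) = (S : Subgroup G).map (MulAut.conj m⁻¹).toMonoidHom := rfl
  refine ⟨m⁻¹ • S, ?_, ?_⟩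
  · intro t ht
    rw [hcoe]
    exact ⟨m * t * m⁻¹, hmT ⟨t, ht, rfl⟩, by simp [mul_assoc]⟩
  · rw [hcoe, thompsonOf_map _ (MulEquiv.injective (MulAut.conj m⁻¹)), ← normalizer_map_conj]
    refine Local.map_conj_le fun y hy => ?_
    exact M.mul_mem (M.mul_mem (M.inv_mem hm) (hMJ hy)) (M.inv_mem (M.inv_mem hm))

include hO

theorem exists_duo (S : Sylow 2 G) {M : Subgroup G}
    (hMJ : Subgroup.normalizer (thompsonSubgroupOf 2 (S : Subgroup G) : Set G) ≤ M)
    (hT : T ∈ maxStraddlingTwoSubgroups M) (hK : K ∈ jComponentsOutside M T) :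
    ∃ Φ K₂, Duo T Φ K K₂ := by
  obtain ⟨P, hTP, hPJ⟩ := exists_sylow_above hL hN hZ S hMJ hT.1.1 hT.1.2.2.1
  obtain ⟨hTU, hj⟩ := uloc_sylow hL hN hZ P hPJ hT hK
  rcases hTP.lt_or_eq with hlt | heq
  · obtain ⟨q, h⟩ := exists_split hL hN hZ (fam_outside hL hN hZ P hPJ hT)
      (show IsJComponent T K ∧ ¬ K ≤ M from ⟨hK.1.1, hK.2.1⟩) hj.1 P hlt
    exact ⟨_, _, fam_outside hL hN hZ P hPJ hT, h.solo, h.solo', h.ne, h.qd1, h.qd2, h.elem⟩
  · subst heq
    obtain ⟨K₂, hK₂, hne⟩ := exists_other hL hN hZ hO P hK.1.1 hTU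
    obtain ⟨e1, e2, e3⟩ := full_pair hL hN hZ hO P hK.1.1 hTU hK.1.1 hK₂ hne.symm
    exact ⟨_, K₂, fam_full hL hN hZ P hK.1.1, full_solo hL hN hZ hO P hK.1.1 hTU hK.1.1,
      full_solo hL hN hZ hO P hK.1.1 hTU hK₂, hne.symm, e1, e2, e3⟩

end Main

end CfsgLib.JComp
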