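import Mathlib
import Cfsg.Agent.Lib.JComp.Pair

/-!
A parabolic with elementary abelian core is `S₄` or `S₄ × C₂`.
-/

set_option autoImplicit false
set_option linter.unusedSectionVars false

universe u

namespace CfsgLib.JComp

open Cfsg CfsgLib.PLocal CfsgLib.Offender

variable {G : Type u} [Group G] [Finite G]

theorem iso_perm_four {H D : Subgroup G} (hD : D ≤ H) (hH : Nat.card H = 24) (hD6 : Nat.card D = 6)
    (hcore : ∀ k ∈ D, (∀ g ∈ H, g * k * g⁻¹ ∈ D) → k = 1) : Nonempty (↥H ≃* Equiv.Perm (Fin 4)) := by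
  set D' := D.subgroupOf H with hD'
  have hidx : Nat.card (↥H ⧸ D') = 4 := by
    have h := Subgroup.card_mul_index D'
    rw [hD', card_subgroupOf_le hD, hD6, hH] at h
    change 6 * Nat.card (↥H ⧸ D') = 24 at h
    omega
  haveI : Finite (↥H ⧸ D') := Nat.finite_of_card_ne_zero (by rw [hidx]; norm_num)
  let e : (↥H ⧸ D') ≃ Fin 4 := Finite.equivFinOfCardEq hidx
  let f : ↥H →* Equiv.Perm (Fin 4) := (Equiv.permCongrHom e).toMonoidHom.comp (MulAction.toPermHom ↥H (↥H ⧸ D'))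
  have hinj : Function.Injective f := by
    refine (Equiv.permCongrHom e).injective.comp ((MonoidHom.ker_eq_bot_iff _).mp ?_)
    rw [← Subgroup.normalCore_eq_ker, Subgroup.eq_bot_iff_forall]
    intro k hk
    refine Subtype.ext (hcore k.1 (hk 1 |> fun h => by simpa [hD', Subgroup.mem_subgroupOf] using h) fun g hg => ?_)
    have := hk ⟨g, hg⟩
    rwa [hD', Subgroup.mem_subgroupOf] at this
  have hcard : Nat.card ↥H = Nat.card (Equiv.Perm (Fin 4)) := by
    rw [hH, Nat.card_perm, Nat.card_fin]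
    rfl
  exact ⟨MulEquiv.ofBijective f ((Nat.bijective_iff_injective_and_card f).mpr ⟨hinj, hcard⟩)⟩

theorem iso_prod {P H C : Subgroup G} (hHP : H ≤ P) (hCP : C ≤ P) (hsup : P ≤ H ⊔ C) (hi : H ⊓ C = ⊥)
    (hc : ∀ h ∈ H, ∀ c ∈ C, h * c = c * h) : Nonempty (↥H × ↥C ≃* ↥P) := by
  have hcm : ∀ (a : ↥H) (b : ↥C), Commute (Subgroup.inclusion hHP a) (Subgroup.inclusion hCP b) :=
    fun a b => Subtype.ext (hc a a.2 b b.2)
  let f := (Subgroup.inclusion hHP).noncommCoprod (Subgroup.inclusion hCP) hcm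
  refine ⟨MulEquiv.ofBijective f ⟨(injective_iff_map_eq_one f).mpr ?_, fun g => ?_⟩⟩
  · rintro ⟨⟨a, ha⟩, ⟨b, hb⟩⟩ hab
    have hab' : a * b = 1 := congrArg Subtype.val hab
    have ha' : a ∈ C := by rw [eq_inv_of_mul_eq_one_left hab']; exact C.inv_mem hb
    have ha1 : a = 1 := Subgroup.mem_bot.mp (hi ▸ ⟨ha, ha'⟩ : a ∈ (⊥ : Subgroup G))
    subst ha1
    rw [one_mul] at hab'
    subst hab'
    rfl
  · have hn : C ≤ Subgroup.normalizer (H : Set G) := fun c hc' => mem_normalizer_of_conj_mem fun h hh => by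
      rw [← hc h hh c hc', mul_inv_cancel_right]; exact hh
    have hg : g.1 ∈ ((H ⊔ C : Subgroup G) : Set G) := hsup g.2
    rw [Subgroup.coe_mul_of_right_le_normalizer_left _ _ hn] at hg
    obtain ⟨a, ha, b, hb, e⟩ := hg
    exact ⟨(⟨a, ha⟩, ⟨b, hb⟩), Subtype.ext e⟩

namespace Par

variable {T K : Subgroup G} (hP : Par T K)
include hP

theorem iso (hqd : qd T K = vd T K) {t : G} (ht : t ∈ T) (htq : t ∉ qd T K) (ht2 : t * t = 1) :
    (Nat.card ↥(ck T K) = 1 → Nonempty (↥(K ⊔ T) ≃* Equiv.Perm (Fin 4))) ∧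
      (Nat.card ↥(ck T K) = 2 → Nonempty (↥(K ⊔ T) ≃* Equiv.Perm (Fin 4) × Multiplicative (ZMod 2))) := by
  obtain ⟨x, hxK, hx3T, hx3, hsum, hdec⟩ := hP.data
  obtain ⟨w, hw, hw1, -⟩ := hP.lab_elt
  obtain ⟨hne, hxx, hlist⟩ := hP.four hxK hsum hw.2 hw1
  obtain ⟨ha1, ha2⟩ := hP.act_out ht htq hxK hsum hw hw1
  have hxP : x ∈ K ⊔ T := Subgroup.mem_sup_left hxK
  have htP : t ∈ K ⊔ T := Subgroup.mem_sup_right ht
  have hxW : ∀ u ∈ wOf K, cj x u ∈ wOf K := fun u hu => conj_mem' (hP.norm_w hxP) hu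
  have hvel := hP.v_elem
  -- a generator of order three
  have hx3W : ∀ u ∈ wOf K, cj (x ^ 3) u = u := fun u hu => by
    rw [show x ^ 3 = x * (x * x) by simp [pow_succ, mul_assoc], cj_comp, cj_comp, hx3 u hu]
  have hx3V : x ^ 3 ∈ vd T K := by
    rw [← hqd]; exact ⟨hx3T, fun u hu => (mul_inv_eq_iff_eq_mul.mp (hx3W u hu)).symm⟩
  set y := x ^ 4 with hy
  have hyK : y ∈ K := K.pow_mem hxK 4
  have hyP : y ∈ K ⊔ T := Subgroup.mem_sup_left hyK
  have hy3 : y ^ 3 = 1 := by
    rw [hy, ← pow_mul, show 4 * 3 = 3 * 2 + 3 * 2 by norm_num, pow_add, pow_mul, pow_two, elem_sq hvel hx3V, mul_one]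
  have hyu : ∀ u ∈ wOf K, cj y u = cj x u := fun u hu => by
    rw [hy, show x ^ 4 = x ^ 3 * x from pow_succ x 3, cj_comp, hx3W _ (hxW u hu)]
  have hy2 : ∀ u ∈ wOf K, cj (y * y) u = cj x (cj x u) := fun u hu => by
    rw [cj_comp, hyu u hu, hyu _ (hxW u hu)]
  have hy1 : y ≠ 1 := fun e => hne (by rw [← hyu w hw.2, e]; simp [cj])
  have hyc : ∀ c ∈ ck T K, y * c = c * y := fun c hc => hc.2 y hyK
  -- the correction
  have ht' : t⁻¹ = t := inv_eq_of_mul_eq_one_right ht2
  set c := t * y * t * y with hc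
  have hcP : c ∈ K ⊔ T := mul_mem (mul_mem (mul_mem htP hyP) htP) hyP
  have hcw : cj c w = w := by
    rw [hc, cj_comp, cj_comp, cj_comp, hyu w hw.2, ha1, hyu _ (hxW _ (hxW w hw.2)), hx3 w hw.2, hP.fix_lab ht hw.1]
  have hcxw : cj c (cj x w) = cj x w := by
    rw [hc, cj_comp, cj_comp, cj_comp, hyu _ (hxW w hw.2), ha2, hyu _ (hxW w hw.2), ha2]
  have hcV : c ∈ vd T K := by
    obtain ⟨i, s, hs, e⟩ := hdec c hcP
    have hi : cj (x ^ i) w = w := by
      have := hcw
      rwa [e, cj_comp, hP.fix_lab hs hw.1] at this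
    have := hP.gen_fix hx3 hsum hxK hw.2 hw1 i hi
    have hcT : c ∈ T := by
      rw [e, show i = 3 * (i / 3) by omega, pow_mul]; exact mul_mem (pow_mem hx3T _) hs
    rw [← hqd]
    exact ⟨hcT, fun u hu => (mul_inv_eq_iff_eq_mul.mp (hP.fix_w hxK hsum hw.2 hw1 hcw hcxw u hu)).symm⟩
  have hcW : c ∈ wOf K := by
    obtain ⟨a, ha, k, hk, e⟩ := hP.v_cases hcV
    have hsum' := hsum a ha
    have hk1 : k = 1 := by
      have hyk : y * k = k * y := hyc k hk
      have hk2 : k * k = 1 := elem_sq (omegaCenterOf_elem T) hk.1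
      have hka : ∀ u ∈ wOf K, u * k = k * u := fun u hu =>
        elem_comm hvel (Subgroup.mem_sup_left hu) (Subgroup.mem_sup_right hk)
      have h3 : (c * y⁻¹) * (c * y⁻¹) * (c * y⁻¹) = 1 := by
        rw [show c * y⁻¹ = t * y * t⁻¹ by rw [hc, ht']; group,
          show t * y * t⁻¹ * (t * y * t⁻¹) * (t * y * t⁻¹) = t * y ^ 3 * t⁻¹ by simp [pow_succ, mul_assoc],
          hy3, mul_one, mul_inv_cancel]
      have hyi : y⁻¹ = y * y := inv_eq_of_mul_eq_one_right (by rw [← hy3]; simp [pow_succ, mul_assoc])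
      have e1 : c * cj (y * y) c * cj y c = 1 := by
        rw [← h3, hyi, show cj (y * y) c = y * y * c * (y * y)⁻¹ from rfl, show cj y c = y * c * y⁻¹ from rfl,
          ← hyi, inv_inv]
        calc c * (y⁻¹ * c * y) * (y * c * y⁻¹) = c * y⁻¹ * c * (y * y) * c * y⁻¹ := by group
          _ = c * y⁻¹ * c * y⁻¹ * c * y⁻¹ := by rw [← hyi]
          _ = _ := by group
      have hmul : ∀ g : G, cj g (a * k) = cj g a * cj g k := fun g => by simp [cj, mul_assoc]
      have hfk : cj y k = k := by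
        show y * k * y⁻¹ = k
        rw [hyk, mul_inv_cancel_right]
      rw [e, hmul, hmul, cj_comp y y k, hfk, hfk, hy2 a ha, hyu a ha] at e1
      have hp1 : a * k * (cj x (cj x a) * k) * (cj x a * k) = (a * cj x (cj x a) * cj x a) * (k * k) * k := by
        calc a * k * (cj x (cj x a) * k) * (cj x a * k)
            = a * (k * cj x (cj x a)) * (k * cj x a) * k := by group
          _ = a * (cj x (cj x a) * k) * (cj x a * k) * k := by
              rw [← hka _ (hxW _ (hxW a ha)), ← hka _ (hxW a ha)]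
          _ = a * cj x (cj x a) * (k * cj x a) * k * k := by group
          _ = a * cj x (cj x a) * (cj x a * k) * k * k := by rw [← hka _ (hxW a ha)]
          _ = _ := by group
      rw [hp1, mul_assoc a, elem_comm hP.w_elem (hxW _ (hxW a ha)) (hxW a ha), ← mul_assoc a, hsum', hk2, one_mul,
        one_mul] at e1
      exact e1
    rw [e, hk1, mul_one]; exact ha
  -- the involution inverting `y`
  set v := cj x (cj x c) with hv
  have hvW : v ∈ wOf K := hxW _ (hxW c hcW)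
  set u := v * t with hu
  have huT : u ∈ T := T.mul_mem (hP.w_le hvW) ht
  have huP : u ∈ K ⊔ T := Subgroup.mem_sup_right huT
  have huq : u ∉ qd T K := fun h => htq (by
    have hvq : v ∈ qd T K := by rw [hqd]; exact Subgroup.mem_sup_left hvW
    have := mul_mem (inv_mem hvq) h
    rwa [hu, inv_mul_cancel_left] at this)
  have hinv : u * y * u⁻¹ = y⁻¹ := by
    have hyi : y⁻¹ = y * y := inv_eq_of_mul_eq_one_right (by rw [← hy3]; simp [pow_succ, mul_assoc])
    have hvi : v⁻¹ = v := inv_eq_of_mul_eq_one_right (hP.sq v hvW)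
    have e1 : v * c * cj (y * y) v = 1 := by
      have hx4 : cj (y * y) v = cj x c := by rw [hy2 v hvW, hv, hx3 _ (hxW c hcW)]
      rw [hx4, hv, elem_comm hP.w_elem (hxW _ (hxW c hcW)) hcW, mul_assoc,
        elem_comm hP.w_elem (hxW _ (hxW c hcW)) (hxW c hcW), ← mul_assoc]
      exact hsum c hcW
    calc u * y * u⁻¹ = v * (t * y * t * y) * (y⁻¹ * v⁻¹ * y) * y⁻¹ := by rw [hu, mul_inv_rev, ht']; group
      _ = v * c * cj (y * y) v * y⁻¹ := by
          rw [← hc, hvi]
          show _ = v * c * (y * y * v * (y * y)⁻¹) * y⁻¹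
          rw [← hyi, inv_inv]
      _ = y⁻¹ := by rw [e1, one_mul]
  have hu2 : u * u = 1 := by
    have hW : u * u ∈ wOf K := by
      rw [hu, show v * t * (v * t) = v * (t * v * t) by group]
      have h1 := conj_mem' (hP.norm_w htP) hvW
      rw [ht'] at h1
      exact mul_mem hvW h1
    have hfix : cj x (u * u) = u * u := by
      rw [← hyu _ hW]
      show y * (u * u) * y⁻¹ = u * u
      have h1 : u * u * y * (u * u)⁻¹ = y := by
        calc u * u * y * (u * u)⁻¹ = u * (u * y * u⁻¹) * u⁻¹ := by group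
          _ = u * y⁻¹ * u⁻¹ := by rw [hinv]
          _ = (u * y * u⁻¹)⁻¹ := by group
          _ = y := by rw [hinv, inv_inv]
      rw [← mul_inv_eq_iff_eq_mul.mp h1, mul_inv_cancel_right]
    have := hsum _ hW
    rwa [hfix, hfix, hP.sq _ hW, one_mul] at this
  -- the complement
  set D := Subgroup.zpowers y ⊔ Subgroup.zpowers u with hD
  haveI : Fact (Nat.Prime 3) := ⟨Nat.prime_three⟩
  haveI : Fact (Nat.Prime 2) := ⟨Nat.prime_two⟩
  have hu1 : u ≠ 1 := fun e => huq (e ▸ one_mem _)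
  have hcy : Nat.card ↥(Subgroup.zpowers y) = 3 := by rw [Nat.card_zpowers]; exact orderOf_eq_prime hy3 hy1
  have hcu : Nat.card ↥(Subgroup.zpowers u) = 2 := by
    rw [Nat.card_zpowers]; exact orderOf_eq_prime (by rw [pow_two]; exact hu2) hu1
  have hun : Subgroup.zpowers u ≤ Subgroup.normalizer (Subgroup.zpowers y : Set G) :=
    Subgroup.zpowers_le.mpr (mem_normalizer_of_conj_mem fun a ha => by
      obtain ⟨i, rfl⟩ := Subgroup.mem_zpowers_iff.mp ha
      rw [← conj_zpow, hinv]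
      exact Subgroup.zpow_mem _ (Subgroup.inv_mem _ (Subgroup.mem_zpowers y)) i)
  have hDcard : Nat.card D = 6 := by
    have hi : Subgroup.zpowers u ⊓ Subgroup.zpowers y = ⊥ :=
      Subgroup.inf_eq_bot_of_coprime (by rw [hcu, hcy]; norm_num)
    have h := card_sup_mul_card_inf hun
    rw [sup_comm, ← hD, hi, Subgroup.card_bot, hcu, hcy, mul_one] at h
    exact h
  have hDP : D ≤ K ⊔ T := sup_le (Subgroup.zpowers_le.mpr hyP) (Subgroup.zpowers_le.mpr huP)
  have hDn : D ≤ Subgroup.normalizer (wOf K : Set G) := hDP.trans hP.norm_w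
  have hfaith : ∀ d ∈ D, (∀ a ∈ wOf K, cj d a = a) → d = 1 := by
    intro d hd hfix
    have hd' : d ∈ ((Subgroup.zpowers y ⊔ Subgroup.zpowers u : Subgroup G) : Set G) := hd
    rw [Subgroup.coe_mul_of_right_le_normalizer_left _ _ hun] at hd'
    obtain ⟨a, ha, b, hb, rfl⟩ := hd'
    obtain ⟨i, rfl⟩ := ((isOfFinOrder_of_finite y).mem_powers_iff_mem_zpowers).mpr ha
    have hyi : cj (y ^ i) w = w → y ^ i = 1 := fun h => by
      have h' : cj (x ^ (4 * i)) w = w := by rw [pow_mul, ← hy]; exact h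
      have := hP.gen_fix hx3 hsum hxK hw.2 hw1 _ h'
      rw [show i = 3 * (i / 3) by omega, pow_mul, hy3, one_pow]
    rcases card_two_mem hcu (Subgroup.mem_zpowers u) hu1 b hb with rfl | rfl
    · show y ^ i * 1 = 1
      rw [mul_one]
      have := hfix w hw.2
      simp only [mul_one] at this
      exact hyi this
    · exfalso
      have h1 : y ^ i = 1 := hyi (by
        have := hfix w hw.2
        rwa [cj_comp, hP.fix_lab huT hw.1] at this)
      refine huq ⟨huT, fun z hz => (mul_inv_eq_iff_eq_mul.mp ?_).symm⟩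
      have := hfix z hz
      simp only [h1, one_mul] at this
      exact this
  set H := wOf K ⊔ D with hH
  have hWD : wOf K ⊓ D = ⊥ := (Subgroup.eq_bot_iff_forall _).mpr fun d hd => hfaith d hd.2 fun a ha => by
    show d * a * d⁻¹ = a
    rw [elem_comm hP.w_elem hd.1 ha, mul_inv_cancel_right]
  have hHcard : Nat.card H = 24 := by
    have h := card_sup_mul_card_inf hDn
    rw [sup_comm, ← hH, inf_comm, hWD, Subgroup.card_bot, hDcard, hP.card, mul_one] at h
    exact h
  have hHP : H ≤ K ⊔ T := sup_le (hP.w_le.trans le_sup_right) hDP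
  have h4 := iso_perm_four (le_sup_right : D ≤ H) hHcard hDcard fun k hk hconj => hfaith k hk fun a ha => by
    have h1 : a * k * a⁻¹ * k⁻¹ ∈ D := D.mul_mem (hconj a (Subgroup.mem_sup_left ha)) (D.inv_mem hk)
    have h2 : a * k * a⁻¹ * k⁻¹ ∈ wOf K := by
      rw [show a * k * a⁻¹ * k⁻¹ = a * (k * a⁻¹ * k⁻¹) by group]
      exact mul_mem ha (conj_mem' (hDn hk) (inv_mem ha))
    have h3 : a * k * a⁻¹ * k⁻¹ = 1 := Subgroup.mem_bot.mp (hWD ▸ ⟨h2, h1⟩ : _ ∈ (⊥ : Subgroup G))
    show k * a * k⁻¹ = a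
    rw [← mul_inv_eq_iff_eq_mul.mp (mul_inv_eq_one.mp h3), mul_inv_cancel_right]
  have hcT : ck T K ≤ T := inf_le_left.trans (omegaCenterOf_le T)
  have hsupT : T ≤ H ⊔ ck T K := by
    have hV : vd T K ≤ H ⊔ ck T K := sup_le_sup le_sup_left le_rfl
    intro s hs
    by_cases hsq : s ∈ qd T K
    · exact hV (hqd ▸ hsq)
    · have h := hV (hqd ▸ hP.index_two huT huq hs hsq)
      have hu' : u ∈ H ⊔ ck T K :=
        Subgroup.mem_sup_left (Subgroup.mem_sup_right (Subgroup.mem_sup_right (Subgroup.mem_zpowers u)))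
      have := mul_mem hu' h
      rwa [mul_inv_cancel_left] at this
  have hsup : K ⊔ T ≤ H ⊔ ck T K := by
    have hx : x ∈ H ⊔ ck T K := by
      have hy' : y ∈ H ⊔ ck T K :=
        Subgroup.mem_sup_left (Subgroup.mem_sup_right (Subgroup.mem_sup_left (Subgroup.mem_zpowers y)))
      have := mul_mem (inv_mem (hsupT hx3T)) hy'
      rwa [hy, show (x ^ 3)⁻¹ * x ^ 4 = x by rw [pow_succ x 3, inv_mul_cancel_left]] at this
    intro g hg
    obtain ⟨i, s, hs, rfl⟩ := hdec g hg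
    exact mul_mem (pow_mem hx i) (hsupT hs)
  have hHc : H ⊓ ck T K = ⊥ := by
    rw [Subgroup.eq_bot_iff_forall]
    rintro k ⟨hk, hkc⟩
    have hk' : k ∈ ((wOf K ⊔ D : Subgroup G) : Set G) := hk
    rw [Subgroup.coe_mul_of_right_le_normalizer_left _ _ hDn] at hk'
    obtain ⟨a, ha, d, hd, rfl⟩ := hk'
    have hd1 : d = 1 := hfaith d hd fun b hb => by
      have hc1 : (a * d) * b = b * (a * d) :=
        ((hP.ck_central hkc) b (Subgroup.mem_sup_right (hP.w_le hb))).symm
      show d * b * d⁻¹ = b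
      calc d * b * d⁻¹ = a⁻¹ * ((a * d) * b) * d⁻¹ := by group
        _ = a⁻¹ * (b * (a * d)) * d⁻¹ := by rw [hc1]
        _ = a⁻¹ * (b * a) := by group
        _ = b := by rw [elem_comm hP.w_elem hb ha, inv_mul_cancel_left]
    subst hd1
    exact Subgroup.mem_bot.mp (hP.ck_inf_w ▸ ⟨hkc, by simpa using ha⟩ : a * 1 ∈ (⊥ : Subgroup G))
  obtain ⟨e4⟩ := h4
  obtain ⟨ep⟩ := iso_prod hHP (hcT.trans le_sup_right) hsup hHc fun h hh c hc =>
    hP.ck_central hc h (hHP hh)
  constructor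
  · intro h1
    have hbot : ck T K = ⊥ := Subgroup.eq_bot_of_card_eq _ h1
    have hHeq : H = K ⊔ T := le_antisymm hHP (hsup.trans (by rw [hbot, sup_bot_eq]))
    exact ⟨(MulEquiv.subgroupCongr hHeq.symm).trans e4⟩
  · intro h2
    have e2 : ↥(ck T K) ≃* Multiplicative (ZMod 2) :=
      mulEquivOfPrimeCardEq (p := 2) h2 (by rw [Nat.card_congr Multiplicative.toAdd, Nat.card_zmod])
    exact ⟨ep.symm.trans (MulEquiv.prodCongr e4 e2)⟩

end Par

end CfsgLib.JComp
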